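import Groth.Agent.H28Contr.Universal
import Groth.Agent.H05EGA4.FibreLifting
import Groth.Agent.H05EGA4.HullCompletion
import Groth.Prelude.Def_Curv2
import Mathlib

/-!
# The blow-up of a regular local surface in its closed point is regular
-/

set_option autoImplicit false
set_option backward.isDefEq.respectTransparency.types false

universe u

open CategoryTheory Limits AlgebraicGeometry TopologicalSpace Polynomial

namespace Groth.Agent.H28Contr

open H26Blow

section Relation

variable {A : Type u} [CommRing A] (I : Ideal A) (a b : I)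

/-- The relations of the fraction `b / a` are the multiples of `a X - b`. -/
theorem dvd_of_aeval_frac_eq_zero (hab : RegPair (a : A) b) (p : A[X])
    (hp : Polynomial.aeval (frac I a b) p = 0) : (C (a : A) * X - C (b : A)) ∣ p := by
  suffices H : ∀ n, ∀ p : A[X], p.natDegree ≤ n → Polynomial.aeval (frac I a b) p = 0 →
      (C (a : A) * X - C (b : A)) ∣ p from H p.natDegree p le_rfl hp
  intro n
  induction n with
  | zero =>
    intro p hn hp
    rw [Polynomial.eq_C_of_natDegree_le_zero hn] at hp ⊢
    rw [Polynomial.aeval_C] at hp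
    rw [algebraMap_alg_injective I a hab.x_reg (hp.trans (map_zero _).symm), map_zero]
    exact dvd_zero _
  | succ n ih =>
    intro p hn hp
    have hscale : algebraMap A (Alg I a) (∑ i ∈ Finset.range (n + 1 + 1), p.coeff i * (b : A) ^ i * (a : A) ^ (n + 1 - i)) = 0 := by
      have e := congrArg (algebraMap A (Alg I a) (a : A) ^ (n + 1) * ·) hp
      simp only [mul_zero, Polynomial.aeval_eq_sum_range' (Nat.lt_succ_of_le hn), Finset.mul_sum, Algebra.smul_def] at e
      rw [map_sum, ← e]
      refine Finset.sum_congr rfl fun i hi => ?_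
      have hi' : i ≤ n + 1 := by have := Finset.mem_range.1 hi; omega
      have hf := frac_spec I a b
      rw [show algebraMap A (Alg I a) (a : A) ^ (n + 1) = algebraMap A (Alg I a) (a : A) ^ (n + 1 - i) * algebraMap A (Alg I a) (a : A) ^ i by
        rw [← pow_add, Nat.sub_add_cancel hi']]
      simp only [map_mul, map_pow, ← hf, mul_pow]
      ring
    have hsum := algebraMap_alg_injective I a hab.x_reg (hscale.trans (map_zero _).symm)
    rw [Finset.sum_range_succ, Nat.sub_self, pow_zero, mul_one] at hsum
    have hd : (a : A) ∣ ∑ i ∈ Finset.range (n + 1), p.coeff i * (b : A) ^ i * (a : A) ^ (n + 1 - i) := by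
      refine Finset.dvd_sum fun i hi => ?_
      refine (dvd_pow_self _ ?_).mul_left _
      have := Finset.mem_range.1 hi; omega
    have hd' : (a : A) ∣ (b : A) ^ (n + 1) * p.coeff (n + 1) := by
      rw [mul_comm, eq_neg_of_add_eq_zero_right hsum]
      exact hd.neg_right
    obtain ⟨d, hdp⟩ : (a : A) ∣ p.coeff (n + 1) := by
      simpa using hab.dvd_pow 1 (p.coeff (n + 1)) (n + 1) (by simpa using hd')
    let L : A[X] := (C (a : A) * X - C (b : A)) * (C d * X ^ n)
    have hL : ∀ i, n + 1 ≤ i → L.coeff i = p.coeff i := by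
      intro i hi
      have e : L = C ((a : A) * d) * X ^ (n + 1) - C ((b : A) * d) * X ^ n := by
        simp only [L, map_mul, pow_succ]; ring
      rw [e, Polynomial.coeff_sub, Polynomial.coeff_C_mul_X_pow, Polynomial.coeff_C_mul_X_pow, if_neg (by omega : ¬ i = n)]
      rcases hi.eq_or_lt with rfl | hlt
      · rw [if_pos rfl, sub_zero, hdp]
      · rw [if_neg (by omega), sub_zero, eq_comm]
        exact Polynomial.coeff_eq_zero_of_natDegree_lt (by omega)
    have hLdeg : (p - L).natDegree ≤ n :=
      Polynomial.natDegree_le_iff_coeff_eq_zero.2 fun i hi => by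
        rw [Polynomial.coeff_sub, hL i (by omega), sub_self]
    have hLzero : Polynomial.aeval (frac I a b) L = 0 := by
      simp only [L, map_mul, map_sub, Polynomial.aeval_C, Polynomial.aeval_X]
      rw [mul_comm (algebraMap A (Alg I a) (a : A)), frac_spec, sub_self, zero_mul]
    have := ih (p - L) hLdeg (by rw [map_sub, hp, hLzero, sub_zero])
    rw [← sub_add_cancel p L]
    exact dvd_add this (dvd_mul_right (C (a : A) * X - C (b : A)) (C d * X ^ n))

/-- A chart modulo its exceptional equation is the polynomial ring over the residue ring. -/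
theorem exists_quot_equiv (hI : I = Ideal.span {(a : A), (b : A)}) (hab : RegPair (a : A) b) :
    Nonempty (Alg I a ⧸ Ideal.span {algebraMap A (Alg I a) (a : A)} ≃+* (A ⧸ I)[X]) := by
  let ψ : A[X] →+* Alg I a ⧸ Ideal.span {algebraMap A (Alg I a) (a : A)} :=
    (Ideal.Quotient.mk _).comp (Polynomial.aeval (R := A) (frac I a b)).toRingHom
  have hψ : Function.Surjective ψ := Ideal.Quotient.mk_surjective.comp (aeval_frac_surjective I a b hI)
  let q : A[X] →+* (A ⧸ I)[X] := Polynomial.mapRingHom (Ideal.Quotient.mk I)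
  have hq : Function.Surjective q := Polynomial.map_surjective _ Ideal.Quotient.mk_surjective
  have hker : RingHom.ker ψ = RingHom.ker q := by
    ext p
    rw [RingHom.mem_ker, RingHom.mem_ker]
    constructor
    · intro hp
      obtain ⟨z, hz⟩ := Ideal.mem_span_singleton.1 (Ideal.Quotient.eq_zero_iff_mem.1 hp)
      obtain ⟨r, rfl⟩ := aeval_frac_surjective I a b hI z
      obtain ⟨s, hs⟩ := dvd_of_aeval_frac_eq_zero I a b hab (p - C (a : A) * r) (by
        rw [map_sub, map_mul, Polynomial.aeval_C]; exact sub_eq_zero.2 hz)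
      have e : p = C (a : A) * r + (C (a : A) * X - C (b : A)) * s := by rw [← hs]; ring
      rw [e]
      simp [q, Ideal.Quotient.eq_zero_iff_mem.2 a.2, Ideal.Quotient.eq_zero_iff_mem.2 b.2]
    · intro hp
      refine Ideal.Quotient.eq_zero_iff_mem.2 ?_
      have h1 : ∀ n, p.coeff n ∈ I := fun n => Ideal.Quotient.eq_zero_iff_mem.1 (by
        have := congrArg (Polynomial.coeff · n) hp; simpa [q] using this)
      show Polynomial.aeval (frac I a b) p ∈ _
      rw [Polynomial.aeval_eq_sum_range]
      refine sum_mem fun i _ => ?_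
      rw [Algebra.smul_def]
      exact Ideal.mul_mem_right _ _ (map_eq_span I a ▸ Ideal.mem_map_of_mem _ (h1 i))
  exact ⟨((RingHom.quotientKerEquivOfSurjective hψ).symm.trans (Ideal.quotEquivOfEq hker)).trans
    (RingHom.quotientKerEquivOfSurjective hq)⟩

theorem isNoetherianRing_alg [IsNoetherianRing A] (hI : I = Ideal.span {(a : A), (b : A)}) :
    IsNoetherianRing (Alg I a) :=
  isNoetherianRing_of_surjective A[X] (Alg I a) (Polynomial.aeval (R := A) (frac I a b)).toRingHom
    (aeval_frac_surjective I a b hI)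

theorem isRegularLocalRing_of_quot_regular {B : Type u} [CommRing B] [IsNoetherianRing B] (t : B)
    (ht : t ∈ nonZeroDivisors B) (hreg : IsRegularRing (B ⧸ Ideal.span {t})) (P : Ideal B) [P.IsPrime]
    (hP : t ∈ P) : IsRegularLocalRing (Localization.AtPrime P) := by
  have hle : Ideal.span {t} ≤ P := (Ideal.span_singleton_le_iff_mem _).2 hP
  haveI : (P.map (Ideal.Quotient.mk (Ideal.span {t}))).IsPrime :=
    Ideal.map_isPrime_of_surjective Ideal.Quotient.mk_surjective (by rwa [Ideal.mk_ker])
  obtain ⟨el⟩ := H05EGA4.exists_localization_quotient_equiv _ P hle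
  have hmem : algebraMap B (Localization.AtPrime P) t ∈ IsLocalRing.maximalIdeal (Localization.AtPrime P) :=
    (IsLocalization.AtPrime.to_map_mem_maximal_iff _ P _ inferInstance).2 hP
  refine H05EGA4.isRegularLocalRing_of_quotient_singleton (C := Localization.AtPrime P) hmem
    (IsLocalization.map_nonZeroDivisors_le P.primeCompl _ ⟨_, ht, rfl⟩) ?_
  haveI := H05EGA4.isLocalRing_quotient_span_singleton (C := Localization.AtPrime P) hmem
  haveI := IsRegularRing.isRegularLocalRing_localization (R := B ⧸ Ideal.span {t}) (P.map (Ideal.Quotient.mk (Ideal.span {t})))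
  exact IsRegularLocalRing.of_ringEquiv (el.symm.trans (Ideal.quotEquivOfEq (by rw [Ideal.map_span, Set.image_singleton])))

/-- Regularity of a chart along the exceptional divisor. -/
theorem isRegularLocalRing_chart [IsNoetherianRing A] [I.IsMaximal] (hI : I = Ideal.span {(a : A), (b : A)})
    (hab : RegPair (a : A) b) (P : Ideal (Alg I a)) [P.IsPrime] (hP : algebraMap A (Alg I a) (a : A) ∈ P) :
    IsRegularLocalRing (Localization.AtPrime P) := by
  letI : Field (A ⧸ I) := Ideal.Quotient.field I
  haveI := isNoetherianRing_alg I a b hI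
  obtain ⟨e⟩ := exists_quot_equiv I a b hI hab
  exact isRegularLocalRing_of_quot_regular _ (algebraMap_mem_nonZeroDivisors I a)
    (IsRegularRing.of_ringEquiv e.symm) P hP

end Relation

section Global

theorem irreducibleSpace_of_pair {S U V : Scheme.{u}} [IrreducibleSpace ↥U] [IrreducibleSpace ↥V]
    (f : U ⟶ S) (g : V ⟶ S) [IsOpenImmersion f] [IsOpenImmersion g]
    (hcov : ∀ w, w ∈ Set.range f ∨ w ∈ Set.range g) (hne : (Set.range f ∩ Set.range g).Nonempty) :
    IrreducibleSpace ↥S := by
  obtain ⟨w, hwf, hwg⟩ := hne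
  haveI : Nonempty ↥S := ⟨w⟩
  refine { toNonempty := ⟨w⟩, isPreirreducible_univ := fun O O' hO hO' hOne hOne' => ?_ }
  have hf : IsPreirreducible (Set.range f) := by
    rw [← Set.image_univ]; exact (PreirreducibleSpace.isPreirreducible_univ).image _ f.continuous.continuousOn
  have hg : IsPreirreducible (Set.range g) := by
    rw [← Set.image_univ]; exact (PreirreducibleSpace.isPreirreducible_univ).image _ g.continuous.continuousOn
  -- every nonempty open meets the overlap, hence the first chart
  have meet : ∀ T : Set S, IsOpen T → (Set.univ ∩ T).Nonempty → (Set.range f ∩ T).Nonempty := by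
    rintro T hT ⟨t, -, htT⟩
    rcases hcov t with h | h
    · exact ⟨t, h, htT⟩
    · obtain ⟨z, -, hzf, hzT⟩ := hg _ T f.isOpenEmbedding.isOpen_range hT ⟨w, hwg, hwf⟩ ⟨t, h, htT⟩
      exact ⟨z, hzf, hzT⟩
  obtain ⟨z, -, hzO, hzO'⟩ := hf O O' hO hO' (meet O hO hOne) (meet O' hO' hOne')
  exact ⟨z, trivial, hzO, hzO'⟩

theorem support_centre_le {A : Type u} [CommRing A] (m : Ideal A) [hm : m.IsMaximal]
    {z : Spec (CommRingCat.of A)} (hz : z ∈ (centre m).support) :
    (z : PrimeSpectrum A) = ⟨m, hm.isPrime⟩ := by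
  rw [Scheme.IdealSheafData.mem_support_iff_of_mem (U := ⟨⊤, isAffineOpen_top _⟩) trivial, ideal_centre_top,
    Scheme.mem_zeroLocus_iff] at hz
  refine PrimeSpectrum.ext (hm.eq_of_le (z : PrimeSpectrum A).2.ne_top fun r hr => ?_).symm
  have h := hz _ (Ideal.mem_map_of_mem _ hr)
  rw [basicOpen_eq_of_affine] at h
  exact not_not.1 h

theorem isIso_stalkMap_of_restrict {S T : Scheme.{u}} (f : S ⟶ T) (U : T.Opens) [IsIso (f ∣_ U)] (w : S)
    (hw : f w ∈ U) : IsIso (f.stalkMap w) := by
  have h : IsIso ((f ∣_ U).stalkMap ⟨w, hw⟩) := inferInstance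
  exact ((MorphismProperty.isomorphisms CommRingCat).arrow_mk_iso_iff
    (morphismRestrictStalkMap f U ⟨w, hw⟩)).1 h

theorem isRegular_blowUp_closedPoint (A : Type u) [CommRing A] [IsRegularLocalRing A] (hA : ringKrullDim A = 2)
    (X : Scheme.{u}) (b : X ⟶ Spec (CommRingCat.of A))
    (hb : BlowUp.IsBlowUp b (Curv2.idealSheaf A (IsLocalRing.maximalIdeal A))) :
    IrreducibleSpace X ∧ ∀ x : X, IsRegularLocalRing (X.presheaf.stalk x) := by
  haveI := Groth.Agent.H4Depth.isDomain_of_isRegularLocalRing A
  set m := IsLocalRing.maximalIdeal A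
  let e0 := (IsLocalization.atUnits A m.primeCompl (S := Localization.AtPrime m) (fun x hx => by
    by_contra h; exact hx ((IsLocalRing.mem_maximalIdeal x).2 h))).toRingEquiv
  obtain ⟨s, hs, hsL⟩ := exists_regPair m (IsRegularLocalRing.of_ringEquiv e0)
    ((ringKrullDim_eq_of_ringEquiv e0.symm).trans hA)
  haveI : IsLocalization.Away s A := by
    refine IsLocalization.away_of_isUnit_of_bijective A ?_ Function.bijective_id
    by_contra h; exact hs ((IsLocalRing.mem_maximalIdeal s).2 h)
  obtain ⟨a₀, b₀, hspan, hpair, -⟩ := hsL A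
  rw [Algebra.algebraMap_self, Ideal.map_id] at hspan
  let a : m := ⟨a₀, hspan ▸ Ideal.subset_span (Set.mem_insert _ _)⟩
  let c : m := ⟨b₀, hspan ▸ Ideal.subset_span (Set.mem_insert_of_mem _ rfl)⟩
  have hpair' : RegPair (c : A) a := by
    refine ⟨hpair.y_reg, hpair.x_reg, fun z hz => ?_⟩
    obtain ⟨w, hw⟩ := hz
    obtain ⟨v, rfl⟩ := hpair.mod w ⟨z, hw.symm⟩
    refine ⟨v, (mul_cancel_left_mem_nonZeroDivisors hpair.x_reg).1 ?_⟩
    show (a : A) * z = (a : A) * ((c : A) * v)
    rw [hw]; ring
  obtain ⟨e, he⟩ := exists_iso_of_isBlowUp (isBlowUp_π m) hb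
  have hca : m = Ideal.span {(c : A), (a : A)} := by rw [Set.pair_comm]; exact hspan
  have hdom : ∀ d : m, (d : A) ∈ nonZeroDivisors A → IsDomain (Alg m d) := fun d hd => by
    haveI : IsDomain (Localization.Away (d : A)) :=
      IsLocalization.isDomain_localization ((Submonoid.powers_le).2 hd)
    infer_instance
  have hcov : ∀ w : Proj (gr m), w ∈ Set.range (j m a) ∨ w ∈ Set.range (j m c) := fun w => by
    rcases mem_basicOpen_or m a c hspan w with h | h <;> rw [← opensRange_j] at h
    · exact Or.inl h
    · exact Or.inr h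
  haveI hPirr : IrreducibleSpace ↥(Proj (gr m)) := by
    haveI := hdom a hpair.x_reg
    haveI := hdom c hpair.y_reg
    refine irreducibleSpace_of_pair (j m a) (j m c) hcov ?_
    -- the two charts share the point `b / a` invertible
    refine ⟨j m a (⊥ : PrimeSpectrum (Alg m a)), ⟨(⊥ : PrimeSpectrum (Alg m a)), rfl⟩, ?_⟩
    show j m a (⊥ : PrimeSpectrum (Alg m a)) ∈ Set.range (j m c)
    have : j m a (⊥ : PrimeSpectrum (Alg m a)) ∈ Proj.basicOpen (gr m) (T m c) := by
      rw [mem_basicOpen_j]
      show frac m a c ∉ (⊥ : Ideal (Alg m a))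
      rw [Ideal.mem_bot]
      intro h0
      have := frac_spec m a c
      rw [h0, zero_mul] at this
      exact nonZeroDivisors.ne_zero hpair.y_reg (algebraMap_alg_injective m a hpair.x_reg (this.symm.trans (map_zero _).symm))
    rw [← opensRange_j] at this
    exact this
  refine ⟨e.hom.homeomorph.surjective.irreducibleSpace e.hom.continuous, fun x => ?_⟩
  obtain ⟨w, rfl⟩ := e.hom.homeomorph.surjective x
  haveI : IsRegularRing A := H05EGA4.isRegularRing_of_isRegularLocalRing A
  by_cases hw : π m w = IsLocalRing.closedPoint A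
  · -- on the exceptional divisor
    have key : ∀ d d' : m, m = Ideal.span {(d : A), (d' : A)} → RegPair (d : A) d' →
        ∀ q, π m (j m d q) = IsLocalRing.closedPoint A → IsRegularLocalRing (X.presheaf.stalk (e.hom (j m d q))) := by
      intro d d' hdd hreg q hq
      have hle := le_comap_of_π_eq m d (IsLocalRing.closedPoint A) le_rfl q hq
      haveI := isRegularLocalRing_chart m d d' hdd hreg (q : PrimeSpectrum (Alg m d)).asIdeal (hle d.2)
      haveI : IsIso ((j m d ≫ e.hom).stalkMap q) := inferInstance
      haveI : IsRegularLocalRing ((Spec (CommRingCat.of (Alg m d))).presheaf.stalk q) :=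
        IsRegularLocalRing.of_ringEquiv (Spec.stalkIso _ q).commRingCatIsoToRingEquiv.symm
      exact IsRegularLocalRing.of_ringEquiv (asIso ((j m d ≫ e.hom).stalkMap q)).commRingCatIsoToRingEquiv.symm
    rcases hcov w with ⟨q, rfl⟩ | ⟨q, rfl⟩
    · exact key a c hspan hpair q hw
    · exact key c a hca hpair' q hw
  · -- off the centre the blow-up is an isomorphism
    let U : (Spec (CommRingCat.of A)).Opens := ⟨{IsLocalRing.closedPoint A}ᶜ,
      (IsLocalRing.isClosed_singleton_closedPoint A).isOpen_compl⟩
    haveI : IsIso (π m ∣_ U) := H29Blow.isIso_morphismRestrict (isBlowUp_π m) U fun z hz hsupp => hz ?_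
    · haveI : IsIso ((π m).stalkMap w) := isIso_stalkMap_of_restrict (π m) U w hw
      haveI := (IsRegularRing.isRegularLocalRing_localization (R := A) ((π m w : PrimeSpectrum A)).asIdeal)
      haveI : IsRegularLocalRing ((Spec (CommRingCat.of A)).presheaf.stalk (π m w)) :=
        IsRegularLocalRing.of_ringEquiv (Spec.stalkIso _ (π m w)).commRingCatIsoToRingEquiv.symm
      haveI : IsIso (e.hom.stalkMap w) := inferInstance
      exact IsRegularLocalRing.of_ringEquiv (((asIso ((π m).stalkMap w)).commRingCatIsoToRingEquiv).trans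
        (asIso (e.hom.stalkMap w)).commRingCatIsoToRingEquiv.symm)
    · exact support_centre_le m hsupp

end Global

end Groth.Agent.H28Contr
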