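import Groth.Agent.H28Contr.BlowRegular
import Groth.Agent.H26Blow.Proper
import Groth.Agent.H10Coh.Bounded
import Groth.Agent.H10Coh.QCohOps
import Groth.Agent.H29RR.FiniteGen
import Groth.Agent.H29Fitt.Sheaf
import Groth.Prelude.Def_Curv2
import Mathlib

/-!
# Cohomology of the blow-up of a closed point on a regular local surface
-/

set_option autoImplicit false
set_option backward.isDefEq.respectTransparency.types false

universe u

open CategoryTheory Limits AlgebraicGeometry TopologicalSpace Opposite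

namespace Groth.Agent.H28Contr

section TwoOpens

open H10Coh

attribute [local instance 10000] hasSheafifyAb hasWeakSheafifyAb hasExtAb enoughInjAb

variable {X : Scheme.{u}}

theorem subsingleton_sup_zero (R : MRes X) (U V : X.Opens) (hU : Subsingleton (HnM (R.Z 0) 1 U))
    (hV : Subsingleton (HnM (R.Z 0) 1 V))
    (hUV : ∀ c : Γ(R.Z 0, U ⊓ V), ∃ (u : Γ(R.Z 0, U)) (v : Γ(R.Z 0, V)),
      rs _ inf_le_left u + rs _ inf_le_right v = c) :
    Subsingleton (HnM (R.Z 0) 1 (U ⊔ V)) := by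
  rw [subsingleton_iff_Bd] at hU hV ⊢
  intro z
  obtain ⟨a, ha⟩ := hU (rs _ le_sup_left z)
  obtain ⟨b, hb⟩ := hV (rs _ le_sup_right z)
  obtain ⟨c, hc⟩ := exists_iA_eq R 0 (U ⊓ V) (rs _ inf_le_left a - rs _ inf_le_right b) (by
    simp only [map_sub, pA_rs, ha, hb, rs_rs, sub_self])
  obtain ⟨u, v, huv⟩ := hUV c
  obtain ⟨w, hwU, hwV⟩ := glue_two (R.I 0) (a - iA R 0 U u) (b + iA R 0 V v) (by
    rw [map_sub, map_add, ← iA_rs, ← iA_rs, sub_eq_iff_eq_add, add_assoc, ← map_add, add_comm (rs _ _ v), huv,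
      hc, add_sub_cancel])
  refine ⟨w, eq_of_two _ le_sup_left le_sup_right le_rfl _ _ ?_ ?_⟩
  · rw [← pA_rs, hwU, map_sub, ha, pA_iA, sub_zero]
  · rw [← pA_rs, hwV, map_add, hb, pA_iA, add_zero]

theorem subsingleton_HH_two (U V : X.Opens) (hU : IsAffineOpen U) (hV : IsAffineOpen V) (hcov : U ⊔ V = ⊤)
    [X.IsSeparated] (M : X.Modules) [M.IsQuasicoherent] (p : ℕ) (hp : 2 ≤ p) :
    Subsingleton (Coh.HH X M p) := by
  have h := subsingleton_of_affine_cover (fun A B hA hB => hA.inf hB) M 2 ![U, V]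
    (fun i => by fin_cases i <;> assumption) p hp
  have e : ⨆ i, (![U, V] : Fin 2 → X.Opens) i = ⊤ := by
    refine eq_top_iff.2 (hcov ▸ sup_le ?_ ?_)
    · exact le_iSup ![U, V] 0
    · exact le_iSup ![U, V] 1
  rw [e] at h
  exact (HHEquiv M p).toEquiv.subsingleton

theorem subsingleton_HH_one_of_two (U V : X.Opens) (hU : IsAffineOpen U) (hV : IsAffineOpen V)
    (hcov : U ⊔ V = ⊤) (M : X.Modules) [M.IsQuasicoherent]
    (hUV : ∀ c : Γ(M, U ⊓ V), ∃ (u : Γ(M, U)) (v : Γ(M, V)),
      M.presheaf.map (homOfLE (inf_le_left : U ⊓ V ≤ U)).op u +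
        M.presheaf.map (homOfLE (inf_le_right : U ⊓ V ≤ V)).op v = c) :
    Subsingleton (Coh.HH X M 1) := by
  have h := subsingleton_sup_zero (MRes.inj M) U V (subsingleton_HnM_of_isAffineOpen M hU 0)
    (subsingleton_HnM_of_isAffineOpen M hV 0) hUV
  rw [hcov] at h
  haveI : Subsingleton (HnM M 1 ⊤) := h
  exact (HHEquiv M 1).toEquiv.subsingleton

/-- Sections of a globally generated quasi-coherent module over an affine open are spanned by global ones. -/
theorem span_global_eq_top (F : X.Modules) (hF : Coh.IsQCoh F) (hgg : Curv2.IsGloballyGenerated F)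
    {U : X.Opens} (hU : IsAffineOpen U) :
    Submodule.span Γ(X, U) (Set.range fun s : Γ(F, ⊤) => F.presheaf.map (homOfLE (le_top : U ≤ ⊤)).op s) = ⊤ := by
  refine eq_top_iff.2 fun m _ => ?_
  set N := Submodule.span Γ(X, U) (Set.range fun s : Γ(F, ⊤) => F.presheaf.map (homOfLE (le_top : U ≤ ⊤)).op s)
  by_contra hm
  let K : Ideal Γ(X, U) := N.colon {m}
  have hK : K ≠ ⊤ := fun h => hm (by
    have := (Ideal.eq_top_iff_one _).1 h
    simpa [K, Submodule.mem_colon_singleton] using this)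
  obtain ⟨P, hP, hKP⟩ := Ideal.exists_le_maximal K hK
  let q : PrimeSpectrum Γ(X, U) := ⟨P, hP.isPrime⟩
  obtain ⟨x, hx⟩ := H29Blow.exists_primeIdealOf_eq hU q
  letI := TopCat.Presheaf.algebra_section_stalk X.presheaf x
  letI := Module.compHom (F.presheaf.stalk x.1) (algebraMap Γ(X, U) (X.presheaf.stalk x.1))
  haveI hloc := H29Fitt.isLocalizedModule_germLin F hF hU x
  haveI := hU.isLocalization_stalk x
  haveI : IsScalarTower Γ(X, U) (X.presheaf.stalk x.1) (F.presheaf.stalk x.1) :=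
    ⟨fun a b z => by
      change (algebraMap Γ(X, U) (X.presheaf.stalk x.1) a * b) • z = _
      rw [mul_smul]; rfl⟩
  have hspan := H29RR.spansAt_of_globallyGenerated hgg x.1
  have key : ∀ v : F.presheaf.stalk x.1, ∃ s : (hU.primeIdealOf x).asIdeal.primeCompl,
      ∃ n ∈ N, s • v = H29Fitt.germLin F x n := by
    intro v
    have hv : v ∈ Submodule.span (X.presheaf.stalk x.1)
        (Set.range fun g : Γ(F, ⊤) => F.presheaf.germ ⊤ x.1 trivial g) := by
      rw [show Submodule.span (X.presheaf.stalk x.1) _ = ⊤ from hspan]; trivial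
    induction hv using Submodule.span_induction with
    | mem w hw =>
      obtain ⟨g, rfl⟩ := hw
      refine ⟨1, _, Submodule.subset_span ⟨g, rfl⟩, ?_⟩
      rw [one_smul]
      exact (TopCat.Presheaf.germ_res_apply _ _ _ x.2 g).symm
    | zero => exact ⟨1, 0, zero_mem _, by simp⟩
    | add w w' _ _ hw hw' =>
      obtain ⟨s, n, hn, e⟩ := hw
      obtain ⟨s', n', hn', e'⟩ := hw'
      refine ⟨s * s', (s' : Γ(X, U)) • n + (s : Γ(X, U)) • n', add_mem (N.smul_mem _ hn) (N.smul_mem _ hn'), ?_⟩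
      rw [map_add, map_smul, map_smul, ← e, ← e', smul_add]
      simp only [Submonoid.smul_def, Submonoid.coe_mul, smul_smul, mul_comm]
    | smul a w _ hw =>
      obtain ⟨s, n, hn, e⟩ := hw
      obtain ⟨⟨r, t⟩, hrt⟩ := IsLocalization.surj (hU.primeIdealOf x).asIdeal.primeCompl a
      refine ⟨t * s, r • n, N.smul_mem _ hn, ?_⟩
      rw [map_smul, ← e]
      simp only [Submonoid.smul_def, Submonoid.coe_mul, mul_smul]
      rw [← algebraMap_smul (X.presheaf.stalk x.1) (t : Γ(X, U)), smul_comm (s : Γ(X, U)) a w, smul_smul,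
        mul_comm (algebraMap Γ(X, U) (X.presheaf.stalk x.1) (t : Γ(X, U))), hrt, algebraMap_smul]
  obtain ⟨s, n, hn, e⟩ := key (H29Fitt.germLin F x m)
  rw [Submonoid.smul_def, ← map_smul] at e
  obtain ⟨c, hc⟩ := IsLocalizedModule.exists_of_eq (S := (hU.primeIdealOf x).asIdeal.primeCompl)
    (f := H29Fitt.germLin F x) e
  have hmem : (c : Γ(X, U)) * (s : Γ(X, U)) ∈ K := by
    rw [Submodule.mem_colon_singleton, mul_smul]
    exact (show (c : Γ(X, U)) • (s : Γ(X, U)) • m = (c : Γ(X, U)) • n from hc) ▸ N.smul_mem _ hn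
  have := hKP hmem
  rw [show P = (hU.primeIdealOf x).asIdeal from congrArg PrimeSpectrum.asIdeal hx.symm] at this
  exact ((hU.primeIdealOf x).isPrime.mem_or_mem this).elim c.2 s.2

end TwoOpens


section Generated

variable {X : Scheme.{u}}

/-- A criterion for every section over the overlap to be a sum of sections over the two opens. -/
theorem exists_add_res (U V : X.Opens) (hU : IsAffineOpen U) (t : Γ(X, U)) (ht : X.basicOpen t = U ⊓ V)
    (s : Γ(X, V)) (hts : X.presheaf.map (homOfLE (inf_le_left : U ⊓ V ≤ U)).op t *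
      X.presheaf.map (homOfLE (inf_le_right : U ⊓ V ≤ V)).op s = 1)
    {A : Type u} [CommRing A] (φ : A →+* Γ(X, ⊤))
    (hgen : ∀ r : Γ(X, U), ∃ p : Polynomial A,
      Polynomial.eval₂ ((X.presheaf.map (homOfLE (le_top : U ≤ ⊤)).op).hom.comp φ) t p = r)
    (r : Γ(X, U ⊓ V)) :
    ∃ (u : Γ(X, U)) (v : Γ(X, V)), X.presheaf.map (homOfLE (inf_le_left : U ⊓ V ≤ U)).op u +
      X.presheaf.map (homOfLE (inf_le_right : U ⊓ V ≤ V)).op v = r := by
  let ρU := (X.presheaf.map (homOfLE (inf_le_left : U ⊓ V ≤ U)).op).hom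
  let ρV := (X.presheaf.map (homOfLE (inf_le_right : U ⊓ V ≤ V)).op).hom
  let G : AddSubgroup Γ(X, U ⊓ V) := ρU.toAddMonoidHom.range ⊔ ρV.toAddMonoidHom.range
  suffices h : r ∈ G by
    obtain ⟨_, ⟨u, rfl⟩, _, ⟨v, rfl⟩, h⟩ := AddSubgroup.mem_sup.1 h
    exact ⟨u, v, h⟩
  have hres : ∀ (u : Γ(X, U)) (n : ℕ), ρU u * (ρV s) ^ n ∈ G := by
    intro u n
    obtain ⟨p, rfl⟩ := hgen u
    induction p using Polynomial.induction_on' with
    | add p q hp hq => rw [Polynomial.eval₂_add, map_add, add_mul]; exact add_mem hp hq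
    | monomial i a =>
      rw [Polynomial.eval₂_monomial, map_mul, map_pow]
      have ea : ρU ((X.presheaf.map (homOfLE (le_top : U ≤ ⊤)).op).hom (φ a)) =
          ρV ((X.presheaf.map (homOfLE (le_top : V ≤ ⊤)).op).hom (φ a)) := by
        simp only [ρU, ρV, ← CommRingCat.comp_apply, ← Functor.map_comp]; rfl
      rcases le_total n i with h | h
      · refine AddSubgroup.mem_sup_left
          ⟨(X.presheaf.map (homOfLE (le_top : U ≤ ⊤)).op).hom (φ a) * t ^ (i - n), ?_⟩
        show ρU _ = _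
        rw [map_mul, map_pow, RingHom.comp_apply]
        conv_rhs => rw [← Nat.sub_add_cancel h, pow_add, mul_assoc, mul_assoc, ← mul_pow, hts, one_pow, mul_one]
      · refine AddSubgroup.mem_sup_right
          ⟨(X.presheaf.map (homOfLE (le_top : V ≤ ⊤)).op).hom (φ a) * s ^ (n - i), ?_⟩
        show ρV _ = _
        rw [map_mul, map_pow, RingHom.comp_apply, ea]
        conv_rhs => rw [← Nat.sub_add_cancel h, pow_add, mul_assoc, mul_comm ((ρV s) ^ (n - i)), ← mul_assoc
          (ρU t ^ i), ← mul_pow, hts, one_pow, one_mul]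
  haveI := hU.isLocalization_basicOpen t
  let e := X.presheaf.map (homOfLE ht.le).op
  obtain ⟨⟨u, ⟨_, n, rfl⟩⟩, hu⟩ := IsLocalization.surj (Submonoid.powers t)
    (X.presheaf.map (homOfLE ht.le).op r : Γ(X, X.basicOpen t))
  have hu' : r * ρU t ^ n = ρU u := by
    haveI : IsIso e := by
      have : homOfLE ht.le = eqToHom ht := rfl
      simp only [e, this]; infer_instance
    apply (ConcreteCategory.bijective_of_isIso e).1
    have hcomp : ∀ x, e (ρU x) = algebraMap Γ(X, U) Γ(X, X.basicOpen t) x := fun x => by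
      simp only [ρU, e, ← CommRingCat.comp_apply, ← Functor.map_comp]
      rfl
    rw [map_mul, map_pow, hcomp, hcomp, ← map_pow]
    exact hu
  rw [show r = ρU u * (ρV s) ^ n by rw [← hu', mul_assoc, ← mul_pow, hts, one_pow, mul_one]]
  exact hres u n

/-- Vanishing of `H¹` for globally generated modules. -/
theorem subsingleton_HH_one_of_gg (U V : X.Opens) (hU : IsAffineOpen U) (hV : IsAffineOpen V)
    (hcov : U ⊔ V = ⊤) (t : Γ(X, U)) (ht : X.basicOpen t = U ⊓ V)
    (hUV : IsAffineOpen (U ⊓ V))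
    (hO : ∀ r : Γ(X, U ⊓ V), ∃ (u : Γ(X, U)) (v : Γ(X, V)),
      X.presheaf.map (homOfLE (inf_le_left : U ⊓ V ≤ U)).op u +
        X.presheaf.map (homOfLE (inf_le_right : U ⊓ V ≤ V)).op v = r)
    (F : X.Modules) (hF : Coh.IsQCoh F) (hgg : Curv2.IsGloballyGenerated F) :
    Subsingleton (Coh.HH X F 1) := by
  haveI : F.IsQuasicoherent := hF
  refine subsingleton_HH_one_of_two U V hU hV hcov F fun c => ?_
  let gU : Γ(F, ⊤) → Γ(F, U) := fun g => F.presheaf.map (homOfLE (le_top : U ≤ ⊤)).op g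
  let gV : Γ(F, ⊤) → Γ(F, V) := fun g => F.presheaf.map (homOfLE (le_top : V ≤ ⊤)).op g
  have hc : c ∈ Submodule.span Γ(X, U ⊓ V)
      (Set.range fun g : Γ(F, ⊤) => F.presheaf.map (homOfLE (le_top : U ⊓ V ≤ ⊤)).op g) := by
    rw [span_global_eq_top F hF hgg hUV]; trivial
  suffices H : ∀ a : Γ(X, U ⊓ V), ∃ (u : Γ(F, U)) (v : Γ(F, V)),
      F.presheaf.map (homOfLE (inf_le_left : U ⊓ V ≤ U)).op u +
        F.presheaf.map (homOfLE (inf_le_right : U ⊓ V ≤ V)).op v = a • c by
    obtain ⟨u, v, e⟩ := H 1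
    exact ⟨u, v, e.trans (one_smul _ _)⟩
  induction hc using Submodule.span_induction with
  | mem w hw =>
    intro a
    obtain ⟨g, rfl⟩ := hw
    obtain ⟨u, v, rfl⟩ := hO a
    refine ⟨u • gU g, v • gV g, ?_⟩
    rw [Scheme.Modules.map_smul, Scheme.Modules.map_smul, add_smul]
    simp only [gU, gV, ← ConcreteCategory.comp_apply, ← Functor.map_comp]; rfl
  | zero => exact fun a => ⟨0, 0, by simp⟩
  | add w w' _ _ hw hw' =>
    intro a
    obtain ⟨u, v, e⟩ := hw a
    obtain ⟨u', v', e'⟩ := hw' a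
    exact ⟨u + u', v + v', by rw [map_add, map_add, add_add_add_comm, e, e', smul_add]⟩
  | smul b w _ hw =>
    intro a
    obtain ⟨u, v, e⟩ := hw (a * b)
    exact ⟨u, v, by rw [e, mul_smul]⟩

end Generated


section BlowUp

open H26Blow

variable {A : Type u} [CommRing A] [IsRegularLocalRing A] (hA : ringKrullDim A = 2)
  {X : Scheme.{u}} {b : X ⟶ Spec (CommRingCat.of A)}
  (hb : BlowUp.IsBlowUp b (Curv2.idealSheaf A (IsLocalRing.maximalIdeal A)))

include hA in
theorem exists_regPair_maximalIdeal :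
    ∃ a c : IsLocalRing.maximalIdeal A, IsLocalRing.maximalIdeal A = Ideal.span {(a : A), (c : A)} ∧
      RegPair (a : A) c := by
  set m := IsLocalRing.maximalIdeal A with hm
  let e0 := (IsLocalization.atUnits A m.primeCompl (S := Localization.AtPrime m) (fun x hx => by
    by_contra h; exact hx ((IsLocalRing.mem_maximalIdeal x).2 h))).toRingEquiv
  obtain ⟨s, hs, hsL⟩ := exists_regPair m (IsRegularLocalRing.of_ringEquiv e0)
    ((ringKrullDim_eq_of_ringEquiv e0.symm).trans hA)
  haveI : IsLocalization.Away s A := by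
    refine IsLocalization.away_of_isUnit_of_bijective A ?_ Function.bijective_id
    by_contra h; exact hs ((IsLocalRing.mem_maximalIdeal s).2 h)
  obtain ⟨a₀, b₀, hspan, hpair, -⟩ := hsL A
  rw [Algebra.algebraMap_self, Ideal.map_id] at hspan
  exact ⟨⟨a₀, hspan ▸ Ideal.subset_span (Set.mem_insert _ _)⟩,
    ⟨b₀, hspan ▸ Ideal.subset_span (Set.mem_insert_of_mem _ rfl)⟩, hspan, hpair⟩

include hb in
/-- The two charts, with their coordinate functions. -/
theorem exists_two_charts (a c : IsLocalRing.maximalIdeal A)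
    (hspan : IsLocalRing.maximalIdeal A = Ideal.span {(a : A), (c : A)}) :
    ∃ (k : ∀ d : IsLocalRing.maximalIdeal A, Spec (CommRingCat.of (Alg _ d)) ⟶ X),
      (∀ d, IsOpenImmersion (k d) ∧ k d ≫ b = Spec.map (CommRingCat.ofHom (algebraMap A (Alg _ d)))) ∧
      (∀ w, w ∈ Set.range (k a) ∨ w ∈ Set.range (k c)) ∧
      ∀ d d' p, k d p ∈ Set.range (k d') ↔
        p ∈ PrimeSpectrum.basicOpen (R := Alg _ d) (frac (IsLocalRing.maximalIdeal A) d d') := by
  obtain ⟨e, he⟩ := exists_iso_of_isBlowUp (isBlowUp_π (IsLocalRing.maximalIdeal A)) hb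
  refine ⟨fun d => j _ d ≫ e.hom, fun d => ⟨inferInstance, by rw [Category.assoc, he, j_π]⟩, fun w => ?_,
    fun d d' p => ?_⟩
  · obtain ⟨z, rfl⟩ := e.hom.homeomorph.surjective w
    rcases mem_basicOpen_or _ a c hspan z with h | h <;> rw [← opensRange_j] at h <;> obtain ⟨q, hq⟩ := h
    · exact Or.inl ⟨q, by rw [Scheme.Hom.comp_apply, hq]; rfl⟩
    · exact Or.inr ⟨q, by rw [Scheme.Hom.comp_apply, hq]; rfl⟩
  · rw [← mem_basicOpen_j, ← opensRange_j, Scheme.Hom.comp_apply]
    constructor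
    · rintro ⟨q, hq⟩
      exact ⟨q, e.hom.homeomorph.injective hq⟩
    · rintro ⟨q, hq⟩
      exact ⟨q, by rw [Scheme.Hom.comp_apply, hq]⟩

include hb in
theorem isSeparated_blowUp : X.IsSeparated := by
  haveI : IsProper b := H26Blow.isProper_of_isBlowUp hb fun x =>
    ⟨⟨⊤, isAffineOpen_top _⟩, trivial, by
      haveI : IsNoetherianRing Γ(Spec (CommRingCat.of A), ⊤) :=
        isNoetherianRing_of_ringEquiv A (Scheme.ΓSpecIso (CommRingCat.of A)).commRingCatIsoToRingEquiv.symm
      exact IsNoetherian.noetherian _⟩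
  exact ⟨by rw [← terminal.comp_from b]; infer_instance⟩

include hA hb in
theorem subsingleton_HH_blowUp_two_le (F : X.Modules) (hF : Coh.IsQCoh F) (p : ℕ) (hp : 2 ≤ p) :
    Subsingleton (Coh.HH X F p) := by
  obtain ⟨a, c, hspan, -⟩ := exists_regPair_maximalIdeal hA
  obtain ⟨k, hk, hcov, -⟩ := exists_two_charts hb a c hspan
  haveI := fun d => (hk d).1
  haveI := isSeparated_blowUp hb
  haveI : F.IsQuasicoherent := hF
  refine subsingleton_HH_two (k a ''ᵁ ⊤) (k c ''ᵁ ⊤) ((isAffineOpen_top _).image_of_isOpenImmersion _)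
    ((isAffineOpen_top _).image_of_isOpenImmersion _) (eq_top_iff.2 fun w _ => ?_) F p hp
  rcases hcov w with ⟨q, rfl⟩ | ⟨q, rfl⟩
  · exact Or.inl ⟨q, trivial, rfl⟩
  · exact Or.inr ⟨q, trivial, rfl⟩

include hA hb in
theorem subsingleton_HH_one_blowUp (F : X.Modules) (hF : Coh.IsQCoh F) (hgg : Curv2.IsGloballyGenerated F) :
    Subsingleton (Coh.HH X F 1) := by
  haveI := Groth.Agent.H4Depth.isDomain_of_isRegularLocalRing A
  obtain ⟨a, c, hspan, hpair⟩ := exists_regPair_maximalIdeal hA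
  obtain ⟨k, hk, hcov, hover⟩ := exists_two_charts hb a c hspan
  haveI := fun d => (hk d).1
  haveI := isSeparated_blowUp hb
  let φ : A →+* Γ(X, ⊤) := b.appTop.hom.comp (Scheme.ΓSpecIso (CommRingCat.of A)).inv.hom
  let E : ∀ d : IsLocalRing.maximalIdeal A, Γ(X, k d ''ᵁ ⊤) ≅ CommRingCat.of (Alg _ d) := fun d =>
    (k d).appIso ⊤ ≪≫ Scheme.ΓSpecIso _
  have hE : ∀ d x, (E d).hom ((X.presheaf.map (homOfLE (le_top : k d ''ᵁ ⊤ ≤ ⊤)).op) (φ x)) =
      algebraMap A (Alg _ d) x := by
    intro d x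
    have key : b.appTop ≫ X.presheaf.map (homOfLE (le_top : k d ''ᵁ ⊤ ≤ ⊤)).op ≫ (E d).hom =
        (Scheme.ΓSpecIso (CommRingCat.of A)).hom ≫ CommRingCat.ofHom (algebraMap A (Alg _ d)) := by
      rw [← Scheme.ΓSpecIso_naturality, ← (hk d).2]
      simp only [E, Iso.trans_hom, Scheme.Hom.appIso_hom']
      rw [← Category.assoc (X.presheaf.map _), Scheme.Hom.map_appLE, Scheme.Hom.comp_appTop, Category.assoc]
      simp [Scheme.Hom.appLE]
    have h := congr($key ((Scheme.ΓSpecIso (CommRingCat.of A)).inv x))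
    rwa [CommRingCat.comp_apply, CommRingCat.comp_apply, CommRingCat.comp_apply,
      Iso.inv_hom_id_apply] at h
  let tt : ∀ d d' : IsLocalRing.maximalIdeal A, Γ(X, k d ''ᵁ ⊤) := fun d d' => (E d).inv (frac _ d d')
  have hmul : ∀ d d', tt d d' * X.presheaf.map (homOfLE (le_top : k d ''ᵁ ⊤ ≤ ⊤)).op (φ d) =
      X.presheaf.map (homOfLE (le_top : k d ''ᵁ ⊤ ≤ ⊤)).op (φ d') := fun d d' => by
    apply (ConcreteCategory.bijective_of_isIso (E d).hom).1
    rw [map_mul, hE, hE, Iso.inv_hom_id_apply, frac_spec]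
  set U := k a ''ᵁ ⊤ with hUdef
  set V := k c ''ᵁ ⊤ with hVdef
  have hU : IsAffineOpen U := (isAffineOpen_top _).image_of_isOpenImmersion _
  have hV : IsAffineOpen V := (isAffineOpen_top _).image_of_isOpenImmersion _
  have ht : X.basicOpen (tt a c) = U ⊓ V := by
    have h1 : X.basicOpen (tt a c) = k a ''ᵁ (PrimeSpectrum.basicOpen (frac _ a c)) := by
      simp only [tt, E, Iso.trans_inv]
      rw [ConcreteCategory.comp_apply]
      rw [← Scheme.image_basicOpen, basicOpen_eq_of_affine]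
    rw [h1]
    ext w
    constructor
    · rintro ⟨q, hq, rfl⟩
      exact ⟨⟨q, trivial, rfl⟩, by obtain ⟨r, hr⟩ := (hover a c q).2 hq; exact ⟨r, trivial, hr⟩⟩
    · rintro ⟨⟨q, -, rfl⟩, ⟨r, -, hr⟩⟩
      exact ⟨q, (hover a c q).1 ⟨r, hr⟩, rfl⟩
  refine subsingleton_HH_one_of_gg U V hU hV (eq_top_iff.2 fun w _ => ?_) (tt a c) ht (hU.inf hV) ?_ F hF hgg
  · rcases hcov w with ⟨q, rfl⟩ | ⟨q, rfl⟩
    · exact Or.inl ⟨q, trivial, rfl⟩
    · exact Or.inr ⟨q, trivial, rfl⟩
  refine exists_add_res U V hU (tt a c) ht (tt c a) ?_ φ fun r => ?_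
  · -- the coordinates are inverse to each other on the overlap
    haveI : IsDomain (Localization.Away (a : A)) :=
      IsLocalization.isDomain_localization ((Submonoid.powers_le).2 hpair.x_reg)
    haveI : IsDomain Γ(X, U) := (E a).commRingCatIsoToRingEquiv.toMulEquiv.isDomain (Alg _ a)
    haveI := hU.isLocalization_basicOpen (tt a c)
    have htne : tt a c ≠ 0 := fun h0 => by
      have h1 := hmul a c
      rw [h0, zero_mul] at h1
      have h2 := congrArg (E a).hom h1
      rw [map_zero, hE] at h2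
      exact nonZeroDivisors.ne_zero hpair.y_reg (algebraMap_alg_injective _ a hpair.x_reg (h2.symm.trans (map_zero _).symm))
    have hinj : Function.Injective (X.presheaf.map (homOfLE (inf_le_left : U ⊓ V ≤ U)).op) := by
      have h := IsLocalization.injective (M := Submonoid.powers (tt a c)) Γ(X, X.basicOpen (tt a c))
        ((Submonoid.powers_le).2 (mem_nonZeroDivisors_of_ne_zero htne))
      have e : X.presheaf.map (homOfLE (inf_le_left : U ⊓ V ≤ U)).op ≫ X.presheaf.map (homOfLE ht.le).op =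
          CommRingCat.ofHom (algebraMap Γ(X, U) Γ(X, X.basicOpen (tt a c))) := by
        rw [← Functor.map_comp]; rfl
      intro p q hpq
      have ep := congr($e p)
      have eq := congr($e q)
      rw [CommRingCat.comp_apply] at ep eq
      exact h (ep.symm.trans ((congrArg _ hpq).trans eq))
    let ρU := (X.presheaf.map (homOfLE (inf_le_left : U ⊓ V ≤ U)).op).hom
    let ρV := (X.presheaf.map (homOfLE (inf_le_right : U ⊓ V ≤ V)).op).hom
    haveI : IsDomain Γ(X, U ⊓ V) := by
      haveI : IsDomain Γ(X, X.basicOpen (tt a c)) := IsLocalization.isDomain_of_le_nonZeroDivisors Γ(X, X.basicOpen (tt a c)) (M := Submonoid.powers (tt a c))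
        ((Submonoid.powers_le).2 (mem_nonZeroDivisors_of_ne_zero htne))
      exact ht ▸ this
    have e1 := congrArg ρU (hmul a c)
    have e2 := congrArg ρV (hmul c a)
    have hres : ∀ x, ρV (X.presheaf.map (homOfLE (le_top : V ≤ ⊤)).op (φ x)) =
        ρU (X.presheaf.map (homOfLE (le_top : U ≤ ⊤)).op (φ x)) := fun x => by
      simp only [ρU, ρV, ← CommRingCat.comp_apply, ← Functor.map_comp]; rfl
    rw [map_mul] at e1 e2
    rw [hres, hres] at e2
    have hane : ρU (X.presheaf.map (homOfLE (le_top : U ≤ ⊤)).op (φ (a : A))) ≠ 0 := fun h0 => by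
      have h1 : (E a).hom (X.presheaf.map (homOfLE (le_top : U ≤ ⊤)).op (φ (a : A))) = 0 := by
        rw [hinj (h0.trans (map_zero _).symm), map_zero]
      rw [hE] at h1
      exact nonZeroDivisors.ne_zero hpair.x_reg (algebraMap_alg_injective _ a hpair.x_reg (h1.trans (map_zero _).symm))
    refine mul_right_cancel₀ hane ?_
    show ρU (tt a c) * ρV (tt c a) * _ = 1 * _
    rw [mul_right_comm, e1, mul_comm, e2, one_mul]
  · obtain ⟨p, hp⟩ := aeval_frac_surjective _ a c hspan ((E a).hom r)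
    refine ⟨p, (ConcreteCategory.bijective_of_isIso (E a).hom).1 ?_⟩
    rw [← hp, Polynomial.aeval_def]
    show (E a).hom.hom (Polynomial.eval₂ _ _ _) = _
    rw [Polynomial.hom_eval₂]
    congr 1
    · exact RingHom.ext (hE a)
    · exact Iso.inv_hom_id_apply (E a) _

end BlowUp

end Groth.Agent.H28Contr
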