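import Groth.Agent.H28Contr.ProjLine
import Groth.Agent.H28Contr.TwoCover
import Groth.Agent.H28Contr.BlowRegular
import Groth.Agent.H29Blow.IdealMod
import Groth.Prelude.Def_ModelsG

/-!
# The exceptional divisor of the blow-up in the closed point of a regular local ring of dimension two
-/

set_option autoImplicit false
set_option linter.style.haveILetI false
set_option backward.isDefEq.respectTransparency.types false

universe u

open CategoryTheory CategoryTheory.Limits AlgebraicGeometry Opposite TopologicalSpace Polynomial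
open Groth.Agent.H11Ample Groth.Agent.H11Tilde

namespace Groth.Agent.H28Contr

/-- A regular generator of the ideal on an affine open generates the ideal module there. -/
theorem isGen_idealSect {X : Scheme.{u}} (I : X.IdealSheafData) (hI : BlowUp.IsEffCartierIdeal I)
    {U : X.Opens} (hU : IsAffineOpen U) {f : Γ(X, U)} (hf : f ∈ nonZeroDivisors Γ(X, U))
    (hIU : I.ideal ⟨U, hU⟩ = Ideal.span {f}) (m : Γ(ClSub.idealMod I, U)) (hm : OmegaSh.idealSect I U m = f) :
    IsGen (ClSub.idealMod I) m := by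
  intro y hy
  obtain ⟨V, e, hyV, he⟩ := exists_gen (H29Blow.isInvertible_of_isEffCartierIdeal I hI) y
  obtain ⟨t, ht, hyt⟩ := hU.exists_basicOpen_le (V := U ⊓ V) ⟨y, hy, hyV⟩ hy
  set W := X.basicOpen t with hW
  have hWU : W ≤ U := ht.trans inf_le_left
  have hWV : W ≤ V := ht.trans inf_le_right
  have hWa : IsAffineOpen W := hU.basicOpen t
  let f' := X.presheaf.map (homOfLE hWU).op f
  have hf' : f' ∈ nonZeroDivisors Γ(X, W) := by
    haveI := hU.isLocalization_basicOpen t
    exact IsLocalization.map_nonZeroDivisors_le (Submonoid.powers t) _ (Submonoid.mem_map_of_mem _ hf)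
  have hIW : I.ideal ⟨W, hWa⟩ = Ideal.span {f'} := by
    rw [← I.map_ideal (U := ⟨W, hWa⟩) (V := ⟨U, hU⟩) hWU, hIU, Ideal.map_span, Set.image_singleton]
    rfl
  let eW := (ClSub.idealMod I).presheaf.map (homOfLE hWV).op e
  obtain ⟨a, ha⟩ := exists_coeff (he.res hWV) ((ClSub.idealMod I).presheaf.map (homOfLE hWU).op m)
  have h1 : f' = a * OmegaSh.idealSect I W eW := by
    rw [← H29Blow.idealSect_smul, ← ha, H29Blow.idealSect_res, hm]
  obtain ⟨d, hd⟩ := Ideal.mem_span_singleton'.1 (hIW ▸ (H29Blow.mem_ideal_iff_exists_idealSect I hWa _).2 ⟨eW, rfl⟩)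
  have hu : IsUnit a := by
    refine IsUnit.of_mul_eq_one (a := a) d ((mul_cancel_right_mem_nonZeroDivisors hf').1 ?_)
    rw [mul_assoc, hd, ← h1, one_mul]
  have hg := isGen_res he hWV hu y hyt
  rw [← ha, TopCat.Presheaf.germ_res_apply] at hg
  exact hg

section Algebra

open H26Blow

variable {A : Type u} [CommRing A] (I : Ideal A) (a b : I)

/-- The reduction of a chart of the blow-up modulo the equation of the exceptional divisor is a polynomial ring. -/
theorem map_eq_zero_of_aeval_mem (hI : I = Ideal.span {(a : A), (b : A)}) (hab : RegPair (a : A) b) (p : A[X])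
    (hp : Polynomial.aeval (frac I a b) p ∈ Ideal.span {algebraMap A (Alg I a) (a : A)}) :
    p.map (Ideal.Quotient.mk I) = 0 := by
  obtain ⟨z, hz⟩ := Ideal.mem_span_singleton.1 hp
  obtain ⟨r, rfl⟩ := aeval_frac_surjective I a b hI z
  obtain ⟨s, hs⟩ := dvd_of_aeval_frac_eq_zero I a b hab (p - C (a : A) * r) (by
    rw [map_sub, map_mul, Polynomial.aeval_C]; exact sub_eq_zero.2 hz)
  have e : p = C (a : A) * r + (C (a : A) * X - C (b : A)) * s := by rw [← hs]; ring
  rw [e]
  simp [Ideal.Quotient.eq_zero_iff_mem.2 a.2, Ideal.Quotient.eq_zero_iff_mem.2 b.2]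

theorem RegPair.symm {x y : A} (h : RegPair x y) : RegPair y x := by
  refine ⟨h.y_reg, h.x_reg, fun z hz => ?_⟩
  obtain ⟨w, hw⟩ := hz
  obtain ⟨v, rfl⟩ := h.mod w ⟨z, hw.symm⟩
  refine ⟨v, (mul_cancel_left_mem_nonZeroDivisors h.x_reg).1 ?_⟩
  rw [hw]; ring

end Algebra

section BlowUp

variable {A : Type u} [CommRing A] [IsRegularLocalRing A] (hA : ringKrullDim A = 2)
  {X : Scheme.{u}} {b : X ⟶ Spec (CommRingCat.of A)}
  (hb : BlowUp.IsBlowUp b (Curv2.idealSheaf A (IsLocalRing.maximalIdeal A)))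

local notation "Ee" => BlowUp.exceptional b (Curv2.idealSheaf A (IsLocalRing.maximalIdeal A))

/-- The two charts as affine opens: coordinate, equation of the divisor. -/
structure Coord (b : X ⟶ Spec (CommRingCat.of A)) where
  U : Fin 2 → X.Opens
  aff : ∀ i, IsAffineOpen (U i)
  cov : ∀ x, ∃ i, x ∈ U i
  g : Fin 2 → A
  g_mem : ∀ i, g i ∈ IsLocalRing.maximalIdeal A
  t : ∀ i, Γ(X, U i)
  rel : ∀ i, t i * consts b (U i) (g i) = consts b (U i) (g (i + 1))
  inter : ∀ i, X.basicOpen (t i) = U i ⊓ U (i + 1)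
  reg : ∀ i, consts b (U i) (g i) ∈ nonZeroDivisors Γ(X, U i)
  ideal_eq : ∀ i, (BlowUp.exceptional b (Curv2.idealSheaf A (IsLocalRing.maximalIdeal A))).ideal ⟨U i, aff i⟩ =
    Ideal.span {consts b (U i) (g i)}
  surj : ∀ i, Function.Surjective (Polynomial.eval₂RingHom (consts b (U i)) (t i))
  inj : ∀ i p, Polynomial.eval₂RingHom (consts b (U i)) (t i) p ∈ Ideal.span {consts b (U i) (g i)} →
    p.map (Ideal.Quotient.mk (IsLocalRing.maximalIdeal A)) = 0

include hA hb in
open H26Blow in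
theorem exists_coord : Nonempty (Coord b) := by
  haveI := Groth.Agent.H4Depth.isDomain_of_isRegularLocalRing A
  set m := IsLocalRing.maximalIdeal A with hm
  obtain ⟨a, c, hspan, hpair⟩ := exists_regPair_maximalIdeal hA
  obtain ⟨k, hk, hcov, hover⟩ := exists_two_charts hb a c hspan
  haveI := fun d => (hk d).1
  let d : Fin 2 → m := ![a, c]
  let E : ∀ d : m, Γ(X, k d ''ᵁ ⊤) ≅ CommRingCat.of (Alg _ d) := fun d => (k d).appIso ⊤ ≪≫ Scheme.ΓSpecIso _
  have hE : ∀ d x, (E d).hom (consts b (k d ''ᵁ ⊤) x) = algebraMap A (Alg _ d) x := by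
    intro d x
    have key : b.appTop ≫ X.presheaf.map (homOfLE (le_top : k d ''ᵁ ⊤ ≤ ⊤)).op ≫ (E d).hom =
        (Scheme.ΓSpecIso (CommRingCat.of A)).hom ≫ CommRingCat.ofHom (algebraMap A (Alg _ d)) := by
      rw [← Scheme.ΓSpecIso_naturality, ← (hk d).2]
      simp only [E, Iso.trans_hom, Scheme.Hom.appIso_hom']
      rw [← Category.assoc (X.presheaf.map _), Scheme.Hom.map_appLE, Scheme.Hom.comp_appTop, Category.assoc]
      simp [Scheme.Hom.appLE]
      rfl
    have h := congr($key ((Scheme.ΓSpecIso (CommRingCat.of A)).inv x))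
    rwa [CommRingCat.comp_apply, CommRingCat.comp_apply, CommRingCat.comp_apply, Iso.inv_hom_id_apply] at h
  let tt : ∀ i, Γ(X, k (d i) ''ᵁ ⊤) := fun i => (E (d i)).inv (frac _ (d i) (d (i + 1)))
  have hinj : ∀ d : m, Function.Injective (E d).hom := fun d => (ConcreteCategory.bijective_of_isIso _).1
  have heval : ∀ i p, (E (d i)).hom (Polynomial.eval₂RingHom (consts b _) (tt i) p) =
      Polynomial.aeval (frac _ (d i) (d (i + 1))) p := by
    intro i p
    show (E (d i)).hom.hom (Polynomial.eval₂ _ _ _) = _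
    rw [Polynomial.hom_eval₂, Polynomial.aeval_def]
    congr 1
    · exact RingHom.ext (hE (d i))
    · exact Iso.inv_hom_id_apply (E (d i)) _
  have hdspan : ∀ i, m = Ideal.span {(d i : A), (d (i + 1) : A)} := by
    intro i; fin_cases i
    · exact hspan
    · show m = Ideal.span {(c : A), (a : A)}; rw [Set.pair_comm]; exact hspan
  have hdpair : ∀ i, RegPair (d i : A) (d (i + 1)) := by
    intro i; fin_cases i
    · exact hpair
    · exact hpair.symm
  refine ⟨⟨fun i => (k (d i) ''ᵁ ⊤), fun i => (isAffineOpen_top _).image_of_isOpenImmersion _, fun x => ?_,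
    fun i => (d i : A), fun i => (d i).2, tt, fun i => ?_, fun i => ?_, fun i => ?_, fun i => ?_, fun i z => ?_,
    fun i p hp => ?_⟩⟩
  · rcases hcov x with ⟨q, rfl⟩ | ⟨q, rfl⟩
    · exact ⟨0, q, trivial, rfl⟩
    · exact ⟨1, q, trivial, rfl⟩
  · refine hinj (d i) ?_
    rw [map_mul, hE, hE]
    show (E (d i)).hom ((E (d i)).inv _) * _ = _
    rw [Iso.inv_hom_id_apply, frac_spec]
  · have h1 : X.basicOpen (tt i) = k (d i) ''ᵁ (PrimeSpectrum.basicOpen (frac _ (d i) (d (i + 1)))) := by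
      simp only [tt, E, Iso.trans_inv]
      rw [ConcreteCategory.comp_apply]
      rw [← Scheme.image_basicOpen, basicOpen_eq_of_affine]
    rw [h1]
    ext w
    constructor
    · rintro ⟨q, hq, rfl⟩
      exact ⟨⟨q, trivial, rfl⟩, by obtain ⟨r, hr⟩ := (hover _ _ q).2 hq; exact ⟨r, trivial, hr⟩⟩
    · rintro ⟨⟨q, -, rfl⟩, ⟨r, -, hr⟩⟩
      exact ⟨q, (hover _ _ q).1 ⟨r, hr⟩, rfl⟩
  · refine mem_nonZeroDivisors_iff_right.2 fun z hz => hinj (d i) ?_
    have h1 := congrArg (E (d i)).hom hz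
    rw [map_mul, hE, map_zero] at h1
    rw [map_zero]
    exact mem_nonZeroDivisors_iff_right.1 (algebraMap_mem_nonZeroDivisors m (d i)) _ h1
  · rw [H29Blow.ideal_comap (Curv2.idealSheaf A m) b ⟨⊤, isAffineOpen_top _⟩ _ le_top,
      show Curv2.idealSheaf A m = centre m from rfl, ideal_centre_top, Ideal.map_map]
    have hφ : (b.appLE ⊤ (k (d i) ''ᵁ ⊤) le_top).hom.comp (Scheme.ΓSpecIso (CommRingCat.of A)).inv.hom =
        consts b (k (d i) ''ᵁ ⊤) := rfl
    rw [hφ]
    refine le_antisymm (Ideal.map_le_iff_le_comap.2 fun x hx => ?_) ?_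
    · rw [Ideal.mem_comap, Ideal.mem_span_singleton]
      refine ⟨(E (d i)).inv (frac _ (d i) ⟨x, hx⟩), hinj (d i) ?_⟩
      rw [map_mul, hE, hE, Iso.inv_hom_id_apply, mul_comm, frac_spec]
    · rw [Ideal.span_le, Set.singleton_subset_iff]
      exact Ideal.mem_map_of_mem _ (d i).2
  · obtain ⟨p, hp⟩ := aeval_frac_surjective _ (d i) (d (i + 1)) (hdspan i) ((E (d i)).hom z)
    exact ⟨p, hinj (d i) ((heval i p).trans hp)⟩
  · refine map_eq_zero_of_aeval_mem m (d i) (d (i + 1)) (hdspan i) (hdpair i) p ?_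
    obtain ⟨z, hz⟩ := Ideal.mem_span_singleton'.1 hp
    rw [← heval, ← hz, map_mul, hE]
    exact Ideal.mul_mem_left _ _ (Ideal.mem_span_singleton_self _)

include hb in
theorem isProper_blowUp_local : IsProper b :=
  H26Blow.isProper_of_isBlowUp hb fun _ =>
    ⟨⟨⊤, isAffineOpen_top _⟩, trivial, by
      haveI : IsNoetherianRing Γ(Spec (CommRingCat.of A), ⊤) :=
        isNoetherianRing_of_ringEquiv A (Scheme.ΓSpecIso (CommRingCat.of A)).commRingCatIsoToRingEquiv.symm
      exact IsNoetherian.noetherian _⟩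

include hb in
theorem exists_globalSec (g : A) (hg : g ∈ IsLocalRing.maximalIdeal A) :
    ∃ v : Γ(ClSub.idealMod Ee, ⊤), OmegaSh.idealSect Ee ⊤ v = ProjUP.toGlobal b g := by
  haveI := isProper_blowUp_local hb
  refine H29Blow.exists_kernelι_app_eq (ClSub.toSubscheme Ee) ⊤ _ ?_
  have h : Curv2.idealSheaf A (IsLocalRing.maximalIdeal A) ≤ (Ee).map b :=
    Scheme.IdealSheafData.le_map_iff_comap_le.2 le_rfl
  have h1 := h ⟨⊤, isAffineOpen_top _⟩ (show (Scheme.ΓSpecIso (CommRingCat.of A)).inv g ∈ _ by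
    rw [show Curv2.idealSheaf A (IsLocalRing.maximalIdeal A) = H26Blow.centre (IsLocalRing.maximalIdeal A) from rfl,
      H26Blow.ideal_centre_top]
    exact Ideal.mem_map_of_mem _ hg)
  rw [Scheme.IdealSheafData.map, Scheme.Hom.ker_apply, RingHom.mem_ker] at h1
  exact h1

include hA hb in
/-- The two sections of the conormal module with their loci of generation and their ratios. -/
theorem exists_conormal_sections : PicF.IsInvertible (ClSub.idealMod Ee) ∧
    ∃ (C : Coord b) (v : Fin 2 → Γ(ClSub.idealMod Ee, ⊤)),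
      (∀ i, gen (ClSub.idealMod Ee) (v i) = C.U i) ∧
      ∀ i, (ClSub.idealMod Ee).presheaf.map (homOfLE (le_top : C.U i ≤ ⊤)).op (v (i + 1)) =
        C.t i • (ClSub.idealMod Ee).presheaf.map (homOfLE (le_top : C.U i ≤ ⊤)).op (v i) := by
  obtain ⟨C⟩ := exists_coord hA hb
  choose v hv using fun i => exists_globalSec hb (C.g i) (C.g_mem i)
  have hvi : ∀ i j, OmegaSh.idealSect Ee (C.U i)
      ((ClSub.idealMod Ee).presheaf.map (homOfLE (le_top : C.U i ≤ ⊤)).op (v j)) = consts b (C.U i) (C.g j) :=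
    fun i j => by rw [H29Blow.idealSect_res, hv]; rfl
  have hgen : ∀ i, IsGen (ClSub.idealMod Ee) ((ClSub.idealMod Ee).presheaf.map (homOfLE (le_top : C.U i ≤ ⊤)).op (v i)) :=
    fun i => isGen_idealSect _ hb.1 (C.aff i) (C.reg i) (C.ideal_eq i) _ (hvi i i)
  have hrat : ∀ i, (ClSub.idealMod Ee).presheaf.map (homOfLE (le_top : C.U i ≤ ⊤)).op (v (i + 1)) =
      C.t i • (ClSub.idealMod Ee).presheaf.map (homOfLE (le_top : C.U i ≤ ⊤)).op (v i) := fun i =>
    H29Blow.idealSect_injective _ _ (by rw [H29Blow.idealSect_smul, hvi, hvi, C.rel])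
  refine ⟨H29Blow.isInvertible_of_isEffCartierIdeal _ hb.1, C, v, fun i => ?_, hrat⟩
  refine le_antisymm (fun x hx => ?_) (fun x hx => mem_gen_of_isGen (hgen i) hx)
  obtain ⟨j, hj⟩ := C.cov x
  by_cases hij : j = i
  · exact hij ▸ hj
  have hji : j + 1 = i := by fin_cases i <;> fin_cases j <;> first | rfl | exact absurd rfl hij
  subst hji
  have h := gen_inf_eq_basicOpen (hgen j) (v (j + 1)) (C.t j) (hrat j)
  have hx' : x ∈ gen (ClSub.idealMod Ee) (v (j + 1)) ⊓ C.U j := ⟨hx, hj⟩
  rw [h, C.inter] at hx'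
  exact hx'.2

include hA hb in
/-- The blow-up is a closed subscheme of the projective line over the base, with `O(1)` the exceptional ideal. -/
theorem exists_closedImmersion_P1 :
    ∃ r : X ⟶ CohB1.ProjSpace 1 A, IsClosedImmersion r ∧ r ≫ CohB1.ProjSpace.toSpec 1 A = b ∧
      Nonempty ((Scheme.Modules.pullback r).obj (Twist.twistProjSpace 1 A 1) ≅ ClSub.idealMod Ee) := by
  obtain ⟨hL, C, v, hgen, hrat⟩ := exists_conormal_sections hA hb
  have key : ∀ i (U : X.Opens) (_ : U = C.U i), IsAffineOpen U ∧ ∃ c : Γ(X, U),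
      (ClSub.idealMod Ee).presheaf.map (homOfLE (le_top : U ≤ ⊤)).op (v (i + 1)) =
        c • (ClSub.idealMod Ee).presheaf.map (homOfLE (le_top : U ≤ ⊤)).op (v i) ∧
      Function.Surjective (Polynomial.eval₂RingHom (consts b U) c) := by
    rintro i _ rfl
    exact ⟨C.aff i, C.t i, hrat i, C.surj i⟩
  choose haff c hc hs using fun i => key i _ (hgen i)
  obtain ⟨r, h1, h2, h3, -⟩ := exists_toP1 b hL v (fun x => (C.cov x).imp fun i hi => (hgen i).ge hi) haff c hc hs
  exact ⟨r, h1, h2, h3⟩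

include hA hb in
/-- The exceptional divisor is an exceptional curve of the first kind, namely a projective line over the
residue field. -/
theorem exists_iso_P1_exceptional : ∃ r : (Ee).subscheme ⟶ CohB1.ProjSpace 1 (IsLocalRing.ResidueField A),
    IsIso r ∧ r ≫ CohB1.ProjSpace.toSpec 1 (IsLocalRing.ResidueField A) ≫
        Spec.map (CommRingCat.ofHom (algebraMap A (IsLocalRing.ResidueField A))) = (Ee).subschemeι ≫ b ∧
      Nonempty ((Scheme.Modules.pullback r).obj (Twist.twistProjSpace 1 (IsLocalRing.ResidueField A) 1) ≅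
        (Scheme.Modules.pullback (Ee).subschemeι).obj (ClSub.idealMod Ee)) := by
  obtain ⟨hL, C, v, hgen, hrat⟩ := exists_conormal_sections hA hb
  let m := IsLocalRing.maximalIdeal A
  let ι := (Ee).subschemeι
  let θ : A →+* Γ((Ee).subscheme, ⊤) := ι.appTop.hom.comp (ProjUP.toGlobal b)
  have hθ : ∀ g ∈ m, θ g = 0 := fun g hg => by
    obtain ⟨w, hw⟩ := exists_globalSec hb g hg
    show ι.appTop (ProjUP.toGlobal b g) = 0
    rw [← hw]
    show (ClSub.idealModι Ee ≫ ClSub.toSubscheme Ee).app ⊤ w = 0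
    rw [show ClSub.idealModι Ee ≫ ClSub.toSubscheme Ee = 0 from kernel.condition _]; rfl
  let θ' : IsLocalRing.ResidueField A →+* Γ((Ee).subscheme, ⊤) := Ideal.Quotient.lift m θ hθ
  let q : (Ee).subscheme ⟶ Spec (CommRingCat.of (IsLocalRing.ResidueField A)) :=
    (Ee).subscheme.toSpecΓ ≫ Spec.map (CommRingCat.ofHom θ')
  have hq : q ≫ Spec.map (CommRingCat.ofHom (algebraMap A (IsLocalRing.ResidueField A))) = ι ≫ b := by
    refine ext_of_isAffine ?_
    simp only [q, Scheme.Hom.comp_appTop]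
    have e1 : (Spec.map (CommRingCat.ofHom (algebraMap A (IsLocalRing.ResidueField A)))).appTop ≫
        (Spec.map (CommRingCat.ofHom θ')).appTop ≫ (Ee).subscheme.toSpecΓ.appTop =
        (Scheme.ΓSpecIso (CommRingCat.of A)).hom ≫ CommRingCat.ofHom θ := by
      rw [← cancel_epi (Scheme.ΓSpecIso (CommRingCat.of A)).inv, Iso.inv_hom_id_assoc,
        ← Category.assoc (Scheme.ΓSpecIso (CommRingCat.of A)).inv, ← Scheme.ΓSpecIso_inv_naturality,
        Category.assoc, ← Category.assoc (Scheme.ΓSpecIso _).inv, ← Scheme.ΓSpecIso_inv_naturality,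
        Category.assoc, Scheme.toSpecΓ_appTop]
      erw [Iso.inv_hom_id, Category.comp_id]
      rfl
    refine e1.trans ?_
    refine CommRingCat.hom_ext (RingHom.ext fun z => ?_)
    show ι.appTop (b.appTop ((Scheme.ΓSpecIso (CommRingCat.of A)).inv ((Scheme.ΓSpecIso (CommRingCat.of A)).hom z))) = _
    exact (congrArg (fun w => ι.appTop (b.appTop w)) (Iso.hom_inv_id_apply (Scheme.ΓSpecIso (CommRingCat.of A)) z))
  have hθq : ∀ x, ProjUP.toGlobal q x = θ' x := by
    intro x
    show q.appTop ((Scheme.ΓSpecIso _).inv x) = θ' x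
    simp only [q, Scheme.Hom.comp_appTop, CommRingCat.comp_apply]
    rw [Scheme.toSpecΓ_appTop, ← CommRingCat.comp_apply (Spec.map _).appTop, Scheme.ΓSpecIso_naturality]
    rw [CommRingCat.comp_apply, Iso.inv_hom_id_apply]
    rfl
  have hcst : ∀ (U : X.Opens) x, consts q (ι ⁻¹ᵁ U) (Ideal.Quotient.mk m x) = ι.app U (consts b U x) := by
    intro U x
    show (Ee).subscheme.presheaf.map _ (ProjUP.toGlobal q (Ideal.Quotient.mk m x)) = _
    rw [hθq]
    show (ι.appTop ≫ (Ee).subscheme.presheaf.map _) (ProjUP.toGlobal b x) = _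
    exact congr($((Scheme.Hom.naturality ι (homOfLE (le_top : U ≤ ⊤)).op).symm) (ProjUP.toGlobal b x))
  let L := (Scheme.Modules.pullback ι).obj (ClSub.idealMod Ee)
  have hL' : PicF.IsInvertible L := PicLoc.isInvertible_pullback ι hL
  let w : Fin 2 → Γ(L, ⊤) := fun i => pullTop ι (v i)
  have hgw : ∀ i, gen L (w i) = ι ⁻¹ᵁ C.U i := fun i => by
    have := gen_smul_pullSect ι hL (v i) (isUnit_one (M := Γ((Ee).subscheme, ⊤)))
    rw [one_smul, hgen] at this
    exact this
  have key : ∀ i (U : (Ee).subscheme.Opens) (_ : U = ι ⁻¹ᵁ C.U i), IsAffineOpen U ∧ ∃ c : Γ((Ee).subscheme, U),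
      L.presheaf.map (homOfLE (le_top : U ≤ ⊤)).op (w (i + 1)) =
        c • L.presheaf.map (homOfLE (le_top : U ≤ ⊤)).op (w i) ∧
      Function.Bijective (Polynomial.eval₂RingHom (consts q U) c) := by
    rintro i _ rfl
    refine ⟨(C.aff i).preimage ι, ι.app (C.U i) (C.t i), ?_, ?_⟩
    · have e : ∀ j, L.presheaf.map (homOfLE (le_top : ι ⁻¹ᵁ C.U i ≤ ⊤)).op (w j) = OmegaSh.pullSect ι _ (C.U i)
          ((ClSub.idealMod Ee).presheaf.map (homOfLE (le_top : C.U i ≤ ⊤)).op (v j)) := fun j =>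
        pullTop_res ι (v j) (C.U i)
      rw [e, e, hrat, OmegaSh.pullSect_smul]
    · have hev : ∀ p : A[X], Polynomial.eval₂RingHom (consts q (ι ⁻¹ᵁ C.U i)) (ι.app (C.U i) (C.t i))
          (p.map (Ideal.Quotient.mk m)) = ι.app (C.U i) (Polynomial.eval₂RingHom (consts b (C.U i)) (C.t i) p) := by
        intro p
        rw [Polynomial.coe_eval₂RingHom, Polynomial.coe_eval₂RingHom, Polynomial.hom_eval₂, Polynomial.eval₂_map]
        congr 1
        exact RingHom.ext (hcst (C.U i))
      constructor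
      · refine (injective_iff_map_eq_zero _).2 fun p hp => ?_
        obtain ⟨p, rfl⟩ := Polynomial.map_surjective (Ideal.Quotient.mk m) Ideal.Quotient.mk_surjective p
        refine C.inj i p ?_
        rw [← C.ideal_eq i, ← (Ee).ker_subschemeι_app ⟨C.U i, C.aff i⟩, RingHom.mem_ker]
        exact (hev p).symm.trans hp
      · intro z
        obtain ⟨z, rfl⟩ := ι.app_surjective _ (C.aff i) z
        obtain ⟨p, rfl⟩ := C.surj i z
        exact ⟨p.map (Ideal.Quotient.mk m), hev p⟩
  choose haff c hc hs using fun i => key i _ (hgw i)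
  obtain ⟨r, h1, h2, h3⟩ := exists_iso_P1 q hL' w (fun x => (C.cov (ι x)).imp fun i hi => (hgw i).ge hi) haff c hc hs
  exact ⟨r, h1, by rw [← Category.assoc, h2, hq], h3⟩

include hA hb in
theorem isExcCurve_exceptional : Models.IsExcCurve (Ee).subschemeι := by
  obtain ⟨r, hr, -, ⟨τ⟩⟩ := exists_iso_P1_exceptional hA hb
  haveI := hr
  refine ⟨by rw [Scheme.IdealSheafData.ker_subschemeι]; exact hb.1, IsLocalRing.ResidueField A, inferInstance,
    (asIso r).symm, ?_⟩
  rw [Scheme.IdealSheafData.ker_subschemeι]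
  exact ⟨((Scheme.Modules.pullbackComp (asIso r).symm.hom (Ee).subschemeι).app (ClSub.idealMod Ee)).symm ≪≫
    (Scheme.Modules.pullback (asIso r).symm.hom).mapIso τ.symm ≪≫
    (Scheme.Modules.pullbackComp (asIso r).symm.hom r).app _ ≪≫
    (Scheme.Modules.pullbackCongr (asIso r).inv_hom_id).app _ ≪≫
    (Scheme.Modules.pullbackId _).app _⟩

end BlowUp

end Groth.Agent.H28Contr
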