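import Groth.Agent.H11Ample.ToPn
import Groth.Agent.H11Proj.ProjSpace
import Groth.Agent.LeadPic.PnPic

/-!
# Morphisms to the projective line given by two sections with coordinate charts
-/

set_option autoImplicit false
set_option linter.style.haveILetI false
set_option backward.isDefEq.respectTransparency.types false

universe u

open CategoryTheory CategoryTheory.Limits AlgebraicGeometry Opposite TopologicalSpace Polynomial
open Groth.Agent.H11Ample Groth.Agent.H11Tilde CohB1

namespace Groth.Agent.H28Contr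

/-- A surjective endomorphism of a Noetherian ring is injective. -/
theorem injective_of_surjective_endo {P : Type u} [CommRing P] [IsNoetherianRing P] (f : P →+* P)
    (hf : Function.Surjective f) : Function.Injective f := by
  let K : ℕ →o Ideal P := ⟨fun n => RingHom.ker (f ^ n), monotone_nat_of_le_succ fun n x hx => by
    show (f ^ (n + 1)) x = 0
    rw [pow_succ']
    show f ((f ^ n) x) = 0
    rw [show (f ^ n) x = 0 from hx, map_zero]⟩
  obtain ⟨n, hn⟩ := monotone_stabilizes_iff_noetherian.2 inferInstance K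
  refine (injective_iff_map_eq_zero f).2 fun x hx => ?_
  have hs : Function.Surjective (f ^ n : P →+* P) := by
    rw [RingHom.coe_pow]; exact hf.iterate n
  obtain ⟨y, rfl⟩ := hs x
  have hy : y ∈ K (n + 1) := by
    show (f ^ (n + 1)) y = 0
    rw [pow_succ']; exact hx
  rw [← hn (n + 1) (Nat.le_succ n)] at hy
  exact hy

theorem surjective_comp_isIso {A B C : CommRingCat.{u}} (f : A ⟶ B) (g : B ⟶ C) (hg : IsIso g)
    (hf : Function.Surjective f) : Function.Surjective (f ≫ g) := by
  intro z
  obtain ⟨y, rfl⟩ := (ConcreteCategory.bijective_of_isIso g).2 z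
  obtain ⟨x, rfl⟩ := hf y
  exact ⟨x, rfl⟩

theorem bijective_comp_isIso {A B C : CommRingCat.{u}} (f : A ⟶ B) (g : B ⟶ C) (hg : IsIso g)
    (hf : Function.Bijective f) : Function.Bijective (f ≫ g) :=
  ⟨fun _ _ h => hf.1 ((ConcreteCategory.bijective_of_isIso g).1 h), surjective_comp_isIso f g hg hf.2⟩

variable {R : Type u} [CommRing R] {X : Scheme.{u}}

/-- The constants on an open. -/
noncomputable def consts (q : X ⟶ Spec (CommRingCat.of R)) (U : X.Opens) : R →+* Γ(X, U) :=
  (X.presheaf.map (homOfLE (le_top : U ≤ ⊤)).op).hom.comp (ProjUP.toGlobal q)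

/-- The coordinate ring of a standard chart of the projective line. -/
theorem exists_chart_equiv (R : Type u) [CommRing R] [IsDomain R] (i : Fin 2) :
    Nonempty (R[X] ≃+* Γ(ProjSpace 1 R, Proj.basicOpen (polyGrading 1 R) (MvPolynomial.X i))) := by
  haveI : Unique {j : Fin 2 // j ≠ i} := by
    refine ⟨⟨⟨i + 1, by fin_cases i <;> simp⟩⟩, fun j => ?_⟩
    obtain ⟨j, hj⟩ := j
    refine Subtype.ext ?_
    fin_cases i <;> fin_cases j <;> first | rfl | exact absurd rfl hj
  exact ⟨(MvPolynomial.uniqueAlgEquiv R {j : Fin 2 // j ≠ i}).symm.toRingEquiv.trans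
    (LeadPic.Pn.chartEquiv 1 R i)⟩

variable {L : X.Modules}

/-- A morphism to the projective line from two sections, surjective on the charts. -/
theorem exists_toP1 (q : X ⟶ Spec (CommRingCat.of R)) (hL : PicF.IsInvertible L) (v : Fin 2 → Γ(L, ⊤))
    (hcov : ∀ x, ∃ i, x ∈ gen L (v i)) (haff : ∀ i, IsAffineOpen (gen L (v i)))
    (c : ∀ i, Γ(X, gen L (v i)))
    (hc : ∀ i, L.presheaf.map (homOfLE (le_top : gen L (v i) ≤ ⊤)).op (v (i + 1)) =
      c i • L.presheaf.map (homOfLE (le_top : gen L (v i) ≤ ⊤)).op (v i))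
    (hsur : ∀ i, Function.Surjective (Polynomial.eval₂RingHom (consts q (gen L (v i))) (c i))) :
    ∃ r : X ⟶ ProjSpace 1 R, IsClosedImmersion r ∧ r ≫ ProjSpace.toSpec 1 R = q ∧
      Nonempty ((Scheme.Modules.pullback r).obj (Twist.twistProjSpace 1 R 1) ≅ L) ∧
      ∀ i, r ⁻¹ᵁ Proj.basicOpen (polyGrading 1 R) (MvPolynomial.X i) = gen L (v i) ∧
        Function.Surjective (r.app (Proj.basicOpen (polyGrading 1 R) (MvPolynomial.X i))) := by
  obtain ⟨r, hr, hiso, hpre, hρ⟩ := exists_toPn q hL v hcov
  have hsurj : ∀ i, Function.Surjective (r.app (Proj.basicOpen (polyGrading 1 R) (MvPolynomial.X i))) := by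
    intro i
    set D := Proj.basicOpen (polyGrading 1 R) (MvPolynomial.X i : MvPolynomial (Fin 2) R) with hD
    obtain ⟨ρ, hρ⟩ := hρ i (i + 1)
    have key : ∀ (U : X.Opens) (_ : U = r ⁻¹ᵁ D) (c : Γ(X, U)),
        IsGen L (L.presheaf.map (homOfLE (le_top : U ≤ ⊤)).op (v i)) →
        L.presheaf.map (homOfLE (le_top : U ≤ ⊤)).op (v (i + 1)) =
          c • L.presheaf.map (homOfLE (le_top : U ≤ ⊤)).op (v i) →
        Function.Surjective (Polynomial.eval₂RingHom (consts q U) c) → Function.Surjective (r.app D) := by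
      rintro U rfl c hg hc hs
      have hce : r.app D ρ = c := by
        refine ((hg.bijective le_rfl).1 ?_).symm
        beta_reduce
        rw [H10Coh.mres_self, ← hc]
        exact hρ
      have hcst : ∀ a, consts q (r ⁻¹ᵁ D) a = r.app D (consts (ProjSpace.toSpec 1 R) D a) := by
        intro a
        subst hr
        show X.presheaf.map _ ((r ≫ ProjSpace.toSpec 1 R).appTop _) = r.app D ((ProjSpace 1 R).presheaf.map _ _)
        rw [Scheme.Hom.comp_appTop, CommRingCat.comp_apply, ← CommRingCat.comp_apply _ (r.app D),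
          Scheme.Hom.naturality, CommRingCat.comp_apply]
        rfl
      intro z
      obtain ⟨p, hp⟩ := hs z
      refine ⟨Polynomial.eval₂RingHom (consts (ProjSpace.toSpec 1 R) D) ρ p, ?_⟩
      rw [← hp, Polynomial.coe_eval₂RingHom, Polynomial.coe_eval₂RingHom, Polynomial.hom_eval₂]
      congr 1
      · exact RingHom.ext fun a => (hcst a).symm
    exact key _ (hpre i).symm (c i) (isGen_gen (v i)) (hc i) (hsur i)
  refine ⟨r, ?_, hr, hiso, fun i => ⟨hpre i, hsurj i⟩⟩
  have hD : ∀ i, IsAffineOpen (Proj.basicOpen (polyGrading 1 R) (MvPolynomial.X i : MvPolynomial (Fin 2) R)) :=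
    fun i => Proj.isAffineOpen_basicOpen _ _ (H11Ample.X_mem i) one_pos
  refine (IsZariskiLocalAtTarget.iff_of_iSup_eq_top (P := @IsClosedImmersion) _
    (H11Proj.ProjSpace.iSup_basicOpen (n := 1) (R := R))).2 fun i => ?_
  haveI : IsAffine (Proj.basicOpen (polyGrading 1 R) (MvPolynomial.X i : MvPolynomial (Fin 2) R)).toScheme := hD i
  haveI : IsAffine (r ⁻¹ᵁ Proj.basicOpen (polyGrading 1 R) (MvPolynomial.X i : MvPolynomial (Fin 2) R)).toScheme := by
    rw [hpre i]; exact haff i
  refine @IsClosedImmersion.of_surjective_of_isAffine _ _ ?_ ?_ _ ?_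
  · exact (congrArg IsAffineOpen (hpre i)).mpr (haff i)
  · exact hD i
  rw [morphismRestrict_appTop]
  refine surjective_comp_isIso _ _ (Functor.map_isIso X.presheaf _) ?_
  have h : ∀ (V : (ProjSpace 1 R).Opens) (hV : V = Proj.basicOpen (polyGrading 1 R) (MvPolynomial.X i)),
      Function.Surjective (r.app V) := by rintro V rfl; exact hsurj i
  exact h _ (Scheme.Opens.ι_image_top _)

/-- With bijective charts over a field the morphism is an isomorphism. -/
theorem exists_iso_P1 {k : Type u} [Field k] (q : X ⟶ Spec (CommRingCat.of k)) (hL : PicF.IsInvertible L)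
    (v : Fin 2 → Γ(L, ⊤)) (hcov : ∀ x, ∃ i, x ∈ gen L (v i)) (haff : ∀ i, IsAffineOpen (gen L (v i)))
    (c : ∀ i, Γ(X, gen L (v i)))
    (hc : ∀ i, L.presheaf.map (homOfLE (le_top : gen L (v i) ≤ ⊤)).op (v (i + 1)) =
      c i • L.presheaf.map (homOfLE (le_top : gen L (v i) ≤ ⊤)).op (v i))
    (hbij : ∀ i, Function.Bijective (Polynomial.eval₂RingHom (consts q (gen L (v i))) (c i))) :
    ∃ r : X ⟶ ProjSpace 1 k, IsIso r ∧ r ≫ ProjSpace.toSpec 1 k = q ∧
      Nonempty ((Scheme.Modules.pullback r).obj (Twist.twistProjSpace 1 k 1) ≅ L) := by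
  obtain ⟨r, -, hr, hiso, hch⟩ := exists_toP1 q hL v hcov haff c hc fun i => (hbij i).2
  refine ⟨r, ?_, hr, hiso⟩
  refine (IsZariskiLocalAtTarget.iff_of_iSup_eq_top (P := MorphismProperty.isomorphisms Scheme.{u}) _
    (H11Proj.ProjSpace.iSup_basicOpen (n := 1) (R := k))).2 fun i => ?_
  set D := Proj.basicOpen (polyGrading 1 k) (MvPolynomial.X i : MvPolynomial (Fin 2) k) with hDdef
  haveI : IsAffine D.toScheme := Proj.isAffineOpen_basicOpen _ _ (H11Ample.X_mem i) one_pos
  haveI : IsAffine (r ⁻¹ᵁ D).toScheme := by rw [(hch i).1]; exact haff i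
  have hb : Function.Bijective (r.app D) := by
    refine ⟨?_, (hch i).2⟩
    obtain ⟨e⟩ := exists_chart_equiv k i
    have key : ∀ (U : X.Opens) (_ : U = r ⁻¹ᵁ D) (θ : k[X] →+* Γ(X, U)), Function.Bijective θ →
        Function.Injective (r.app D) := by
      rintro U rfl θ hθ
      let E := RingEquiv.ofBijective θ hθ
      have h := injective_of_surjective_endo ((E.symm.toRingHom.comp (r.app D).hom).comp e.toRingHom)
        ((E.symm.surjective.comp (hch i).2).comp e.surjective)
      intro a b hab
      obtain ⟨a, rfl⟩ := e.surjective a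
      obtain ⟨b, rfl⟩ := e.surjective b
      exact congrArg e (h (congrArg E.symm hab))
    exact key _ (hch i).1.symm _ (hbij i)
  have hI : IsIso (r ∣_ D).appTop := by
    refine (ConcreteCategory.isIso_iff_bijective _).2 ?_
    rw [morphismRestrict_appTop]
    have h : ∀ (V : (ProjSpace 1 k).Opens) (hV : V = D), Function.Bijective (r.app V) := by
      rintro V rfl
      exact hb
    refine bijective_comp_isIso _ _ (Functor.map_isIso X.presheaf _) ?_
    exact h _ (Scheme.Opens.ι_image_top D)
  have hsrc : IsAffine (r ⁻¹ᵁ D).toScheme := (congrArg IsAffineOpen (hch i).1).mpr (haff i)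
  exact (HasAffineProperty.iff_of_isAffine (P := MorphismProperty.isomorphisms Scheme.{u})).2
    ⟨hsrc, hI⟩

end Groth.Agent.H28Contr
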