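import Groth.Agent.S1539
import Groth.Agent.S0246
import Groth.Agent.H7Flat.GeomInt.Counts
import Groth.Agent.H10ZMT.Stein
import Groth.Prelude.Def_Pi1
import Mathlib.AlgebraicGeometry.Geometrically.Connected

/-!
# Fibres over an open set of the base of a morphism with connected fibres and normal source
-/

set_option autoImplicit false
set_option linter.style.haveILetI false
set_option backward.isDefEq.respectTransparency.types false

universe u

open CategoryTheory Limits AlgebraicGeometry TopologicalSpace

namespace Groth.Agent.H28Contr

variable {X S : Scheme.{u}}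

/-- The generic fibre of a normal integral scheme is normal and integral. -/
theorem normal_generic_fiber [IsIntegral X] [IsIntegral S] [IsLocallyNoetherian X] (hX : Pi1.IsNormalScheme X)
    (q : X ⟶ S) (hq : q (genericPoint X) = genericPoint S) :
    IsIntegral (q.fiber (genericPoint S)) ∧ Pi1.IsNormalScheme (q.fiber (genericPoint S)) := by
  set η := genericPoint S
  have hinjres : Function.Injective (S.residue η) :=
    RingHom.injective (show S.functionField →+* _ from (S.residue η).hom)
  haveI : IsIso (S.residue η) := by
    rw [ConcreteCategory.isIso_iff_bijective]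
    exact ⟨hinjres, S.residue_surjective η⟩
  haveI : Flat (S.fromSpecStalk η) := inferInstance
  haveI : Flat (S.fromSpecResidueField η) := by
    dsimp only [Scheme.fromSpecResidueField]
    infer_instance
  haveI : Flat (q.fiberι η) := inferInstanceAs (Flat (pullback.fst q (S.fromSpecResidueField η)))
  have hbij : ∀ v : q.fiber η, Function.Bijective ((q.fiberι η).stalkMap v) := fun v => by
    refine ⟨?_, (q.fiberι η).stalkMap_surjective v⟩
    letI := ((q.fiberι η).stalkMap v).hom.toAlgebra
    haveI : Module.Flat _ _ := Flat.stalkMap (q.fiberι η) v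
    haveI : IsLocalHom (algebraMap (X.presheaf.stalk (q.fiberι η v)) ((q.fiber η).presheaf.stalk v)) :=
      inferInstanceAs (IsLocalHom ((q.fiberι η).stalkMap v).hom)
    haveI := Module.FaithfullyFlat.of_flat_of_isLocalHom (A := X.presheaf.stalk (q.fiberι η v)) (B := (q.fiber η).presheaf.stalk v)
    exact FaithfulSMul.algebraMap_injective (X.presheaf.stalk (q.fiberι η v)) ((q.fiber η).presheaf.stalk v)
  let e : ∀ v : q.fiber η, X.presheaf.stalk (q.fiberι η v) ≃+* (q.fiber η).presheaf.stalk v :=
    fun v => RingEquiv.ofBijective ((q.fiberι η).stalkMap v).hom (hbij v)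
  have hn : Pi1.IsNormalScheme (q.fiber η) := fun v => by
    haveI := (hX (q.fiberι η v)).1
    haveI := (hX (q.fiberι η v)).2
    exact ⟨(e v).toMulEquiv.symm.isDomain _, IsIntegrallyClosed.of_equiv (e v)⟩
  haveI : AlgebraicGeometry.IsReduced (q.fiber η) := by
    haveI : ∀ v, _root_.IsReduced ((q.fiber η).presheaf.stalk v) := fun v => by
      haveI := (hn v).1
      infer_instance
    exact isReduced_of_isReduced_stalk _
  obtain ⟨v₀, hv₀⟩ : genericPoint X ∈ Set.range (q.fiberι η) := by rw [q.range_fiberι]; exact hq
  haveI : IrreducibleSpace (q.fiber η) := by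
    have hcl : closure ({v₀} : Set (q.fiber η)) = Set.univ := Set.eq_univ_of_forall fun v => by
      rw [← specializes_iff_mem_closure, ← (q.fiberι η).isEmbedding.isInducing.specializes_iff, hv₀]
      exact genericPoint_specializes _
    rw [irreducibleSpace_def, Set.top_eq_univ, ← hcl]
    exact isIrreducible_singleton.closure
  exact ⟨isIntegral_of_irreducibleSpace_of_isReduced _, hn⟩

/-- A normal geometrically connected scheme over a field is geometrically irreducible. -/
theorem geometricallyIrreducible_of_normal (k : Type u) [Field k] (F : Scheme.{u}) [F.Over (Spec (CommRingCat.of k))]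
    [IsIntegral F] (hF : Pi1.IsNormalScheme F) [GeometricallyConnected (F ↘ Spec (CommRingCat.of k))] :
    GeometricallyIrreducible (F ↘ Spec (CommRingCat.of k)) := by
  refine S1539.result k F fun k' _ _ _ _ => ?_
  let s : Spec (CommRingCat.of k') ⟶ Spec (CommRingCat.of k) := Spec.map (CommRingCat.ofHom (algebraMap k k'))
  haveI : IsFinite s := by
    rw [IsFinite.SpecMap_iff]
    exact RingHom.finite_algebraMap.2 inferInstance
  haveI : Etale s := by
    rw [HasRingHomProperty.Spec_iff (P := @Etale)]
    haveI : Algebra.FormallyEtale k k' := Algebra.FormallyEtale.of_isSeparable k k'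
    haveI : Algebra.FinitePresentation k k' := Algebra.FinitePresentation.of_finiteType.1 inferInstance
    exact RingHom.etale_algebraMap.2 (⟨‹_›, ‹_›⟩ : Algebra.Etale k k')
  let Y : FEt.Cat F := MorphismProperty.Over.mk ⊤ (pullback.fst (F ↘ Spec (CommRingCat.of k)) s)
    ⟨inferInstance, inferInstance⟩
  haveI : ConnectedSpace Y.left :=
    GeometricallyConnected.geometrically_connectedSpace (f := F ↘ Spec (CommRingCat.of k)) s _ _
      (IsPullback.of_hasPullback _ s)
  obtain ⟨h, -⟩ := S0246.result hF Y
  haveI : IsIntegral (Curv2.bc k F k') := h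
  infer_instance

/-- Over a nonempty open set the fibres are irreducible. -/
theorem exists_open_isIrreducible_fibre [IsIntegral X] [IsIntegral S] [IsLocallyNoetherian X]
    (hX : Pi1.IsNormalScheme X) (q : X ⟶ S) [LocallyOfFiniteType q] [QuasiCompact q] [GeometricallyConnected q]
    (hq : q (genericPoint X) = genericPoint S) :
    ∃ O : S.Opens, genericPoint S ∈ O ∧ ∀ s ∈ O, IsIrreducible (q ⁻¹' {s}) := by
  set η := genericPoint S
  obtain ⟨_, hn⟩ := normal_generic_fiber hX q hq
  letI : Field (S.residueField η) := inferInstance
  letI : (q.fiber η).Over (Spec (CommRingCat.of (S.residueField η))) := ⟨q.fiberToSpecResidueField η⟩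
  haveI : GeometricallyConnected ((q.fiber η) ↘ Spec (CommRingCat.of (S.residueField η))) :=
    inferInstanceAs (GeometricallyConnected (q.fiberToSpecResidueField η))
  have hgi : GeometricallyIrreducible (q.fiberToSpecResidueField η) :=
    geometricallyIrreducible_of_normal (S.residueField η) (q.fiber η) hn
  obtain ⟨O, hηO, hO⟩ := H7Flat.GeomInt.exists_opens_counts q η
  refine ⟨O, hηO, fun s hs => ?_⟩
  have hone := (hO s hs (genericPoint_specializes s)).1.trans
    ((H7Flat.GeomInt.geometricallyIrreducible_fiber_iff q η).1 hgi)
  haveI := (H7Flat.GeomInt.geometricallyIrreducible_fiber_iff q s).2 hone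
  haveI : IrreducibleSpace (q.fiber s) :=
    GeometricallyIrreducible.irreducibleSpace_of_subsingleton (q.fiberToSpecResidueField s)
  rw [← q.range_fiberι, ← Set.image_univ]
  exact (IrreducibleSpace.isIrreducible_univ _).image _ (q.fiberι s).continuous.continuousOn

end Groth.Agent.H28Contr
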