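import Groth.Agent.H28Contr.NormBlowStep
import Groth.Agent.H28Contr.GeomIrredGeneric
import Groth.Agent.H28Vert.SmoothRelMin
import Groth.Agent.H17.Dim
import Groth.Agent.H05EGA4.Topo

/-!
# Contractions of an arithmetic surface are bounded
-/

set_option autoImplicit false
set_option linter.style.haveILetI false
set_option backward.isDefEq.respectTransparency.types false

universe u

open CategoryTheory Limits AlgebraicGeometry TopologicalSpace Polynomial

namespace Groth.Agent.H28Contr

variable {X Y : Scheme.{u}}

/-- A bijection of function fields gives a bijection of residue fields at the generic points. -/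
theorem residueFieldMap_bijective [IsIntegral X] [IsIntegral Y] (f : X ⟶ Y)
    (hbij : Function.Bijective (f.stalkMap (genericPoint X))) :
    Function.Bijective (f.residueFieldMap (genericPoint X)).hom := by
  refine ⟨(f.residueFieldMap (genericPoint X)).hom.injective, fun r => ?_⟩
  obtain ⟨t, rfl⟩ := X.residue_surjective _ r
  obtain ⟨a, rfl⟩ := hbij.2 t
  exact ⟨Y.residue _ a, congr($(Scheme.residue_residueFieldMap f _) a)⟩

theorem dim_stalk_le_two [IsLocallyNoetherian X] (h : topologicalKrullDim X ≤ 2) (x : X) :
    ringKrullDim (X.presheaf.stalk x) ≤ 2 := (ringKrullDim_stalk_le_top x).trans h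

/-- A point of a surface whose local ring is not of dimension at most one is closed. -/
theorem isClosed_of_dim_two [IsLocallyNoetherian X] (h : topologicalKrullDim X ≤ 2) {x : X}
    (hx : ¬ ringKrullDim (X.presheaf.stalk x) ≤ 1) : IsClosed ({x} : Set X) := by
  rw [← closure_subset_iff_isClosed]
  intro w hw
  by_contra hne
  have := ringKrullDim_stalk_lt (specializes_iff_mem_closure.2 hw) fun e => hne e.symm
  rw [eq_two_of_le (dim_stalk_le_two h x) hx] at this
  exact (this.trans_le (dim_stalk_le_two h w)).false

theorem eq_genericPoint_of_dim_lt_one [IsIntegral X] [IsLocallyNoetherian X] {w : X}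
    (h : ringKrullDim (X.presheaf.stalk w) < 1) : w = genericPoint X := by
  by_contra hne
  have h1 := ringKrullDim_stalk_lt (genericPoint_specializes w) fun e => hne e.symm
  have h0 : (0 : WithBot ℕ∞) ≤ ringKrullDim (X.presheaf.stalk (genericPoint X)) := ringKrullDim_nonneg_of_nontrivial
  revert h1 h h0
  generalize ringKrullDim (X.presheaf.stalk w) = a
  generalize ringKrullDim (X.presheaf.stalk (genericPoint X)) = b
  intro h h1 h0
  induction a using WithBot.recBotCoe with
  | bot => exact (not_lt_bot h1).elim
  | coe a =>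
    have ha : a < 1 := by exact_mod_cast h
    rw [ENat.lt_one_iff_eq_zero] at ha
    subst ha
    exact (lt_of_le_of_lt h0 h1).false

/-- Points of codimension at most one in a closed set avoiding the generic point are finitely many. -/
theorem finite_codimOne [IsIntegral X] [IsNoetherian X] {Z : Set X} (hZ : IsClosed Z) (hη : genericPoint X ∉ Z) :
    {ξ ∈ Z | ringKrullDim (X.presheaf.stalk ξ) ≤ 1}.Finite := by
  obtain ⟨T, hTfin, hT1, hT2, hT3⟩ := NoetherianSpace.exists_finite_set_isClosed_irreducible hZ
  haveI : Finite T := hTfin.to_subtype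
  refine (Set.finite_range fun t : T => (hT2 t.1 t.2).genericPoint).subset ?_
  rintro ξ ⟨hξZ, hξ⟩
  obtain ⟨t, htT, hξt⟩ : ∃ t ∈ T, ξ ∈ t := by
    rw [hT3] at hξZ
    exact Set.mem_sUnion.1 hξZ
  refine ⟨⟨t, htT⟩, ?_⟩
  have hg := (hT2 t htT).isGenericPoint_genericPoint (hT1 t htT)
  show (hT2 t htT).genericPoint = ξ
  by_contra hne
  have hlt := (ringKrullDim_stalk_lt (hg.specializes hξt) hne).trans_le hξ
  refine hη ?_
  rw [← eq_genericPoint_of_dim_lt_one hlt, hT3]
  exact Set.mem_sUnion.2 ⟨t, htT, hg.mem⟩

section Base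

variable {R : Type u} [CommRing R] [IsDomain R] [IsDedekindDomain R]

/-- A birational proper map of surfaces contracting no curve is an isomorphism. -/
theorem isIso_of_no_contracted {Y Y' : Over (Spec (CommRingCat.of R))} [IsIntegral Y.left] [IsProper Y.hom]
    [IsProper Y'.hom] (hdY : topologicalKrullDim Y.left ≤ 2)
    (hY' : ∀ y : Y'.left, IsRegularLocalRing (Y'.left.presheaf.stalk y)) [IsIntegral Y'.left] (g : Y ⟶ Y')
    (hgen : g.left (genericPoint Y.left) = genericPoint Y'.left)
    (hbij : Function.Bijective (g.left.stalkMap (genericPoint Y.left)))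
    (h : ∀ z : Y.left, ringKrullDim (Y.left.presheaf.stalk z) ≤ 1 →
      ringKrullDim (Y'.left.presheaf.stalk (g.left z)) ≤ 1) : IsIso g := by
  classical
  haveI : IsLocallyNoetherian Y.left := LocallyOfFiniteType.isLocallyNoetherian Y.hom
  haveI : IsLocallyNoetherian Y'.left := LocallyOfFiniteType.isLocallyNoetherian Y'.hom
  haveI : CompactSpace Y.left := QuasiCompact.compactSpace_of_compactSpace Y.hom
  haveI : CompactSpace Y'.left := QuasiCompact.compactSpace_of_compactSpace Y'.hom
  haveI : IsNoetherian Y.left := ⟨⟩
  haveI hgp : IsProper g.left := by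
    haveI : IsProper (g.left ≫ Y'.hom) := by rw [Over.w g]; infer_instance
    exact IsProper.of_comp g.left Y'.hom
  have hnor : Pi1.IsNormalScheme Y'.left := H29Ref.isNormalScheme_of_regular hY'
  haveI : IsDominant g.left := H10ZMT.isDominant_of_apply_genericPoint g.left hgen
  have hsurj : Function.Surjective g.left := fun t => by
    have h1 : Set.range g.left = Set.univ := by
      rw [← g.left.isClosedMap.isClosed_range.closure_eq]
      exact g.left.denseRange.closure_range
    exact h1.ge (Set.mem_univ t)
  have hrb := residueFieldMap_bijective g.left hbij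
  have hstar : ∀ y : Y'.left, IsClosed ({y} : Set Y'.left) → ∀ u v, g.left u = y → g.left v = y → u = v := by
    intro y hy u v hu hv
    have hFc : IsClosed (g.left ⁻¹' {y}) := hy.preimage g.left.continuous
    by_cases hall : ∀ z ∈ g.left ⁻¹' {y}, IsClosed ({z} : Set Y.left)
    · haveI : T1Space (g.left ⁻¹' {y} : Set Y.left) := ⟨fun z => by
        have e : ({z} : Set (g.left ⁻¹' {y} : Set Y.left)) = Subtype.val ⁻¹' {z.1} := by
          ext w; exact ⟨fun hw => congrArg Subtype.val hw, fun hw => Subtype.ext hw⟩
        rw [e]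
        exact (hall z.1 z.2).preimage continuous_subtype_val⟩
      haveI : Finite (g.left ⁻¹' {y} : Set Y.left) := (finite_of_closed_points hFc hall).to_subtype
      haveI : DiscreteTopology (g.left ⁻¹' {y} : Set Y.left) := inferInstance
      haveI : PreconnectedSpace (g.left ⁻¹' {y} : Set Y.left) :=
        Subtype.preconnectedSpace (H28Pinch.isPreconnected_fibre_of_birational g.left hnor hgen hbij y)
      haveI : Subsingleton (g.left ⁻¹' {y} : Set Y.left) := PreconnectedSpace.trivial_of_discrete
      exact congrArg Subtype.val (Subsingleton.elim (⟨u, hu⟩ : (g.left ⁻¹' {y} : Set Y.left)) ⟨v, hv⟩)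
    · push Not at hall
      obtain ⟨z, hz, hzc⟩ := hall
      exfalso
      obtain ⟨w, hzw, hne⟩ : ∃ w, z ⤳ w ∧ z ≠ w := by
        by_contra hcon
        push Not at hcon
        refine hzc (closure_subset_iff_isClosed.1 fun w hw => ?_)
        exact (hcon w (specializes_iff_mem_closure.2 hw)).symm
      have hz1 : ringKrullDim (Y.left.presheaf.stalk z) ≤ 1 := by
        by_contra h1
        exact hzc (isClosed_of_dim_two hdY h1)
      have hw : g.left w = y := (show w ∈ g.left ⁻¹' {y} from hzw.mem_closed hFc hz)
      have hzη : z ≠ genericPoint Y.left := fun e => by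
        have hy0 : g.left w = genericPoint Y'.left := by
          rw [hw, ← (show g.left z = y from hz), e, hgen]
        have h1 := ringKrullDim_stalk_lt hzw hne
        have h2 := stalk_dim_le_of_birational g.left hrb w
        rw [hy0, show ringKrullDim (Y'.left.presheaf.stalk (genericPoint Y'.left)) = 0 from
          ringKrullDim_eq_zero_of_isField (Field.toIsField Y'.left.functionField)] at h2
        exact (h1.trans_le h2).not_ge ringKrullDim_nonneg_of_nontrivial
      have hw2 : ¬ ringKrullDim (Y.left.presheaf.stalk w) ≤ 1 := fun h1 =>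
        hzη (eq_genericPoint_of_dim_lt_one ((ringKrullDim_stalk_lt hzw hne).trans_le h1))
      refine hw2 ((stalk_dim_le_of_birational g.left hrb w).trans ?_)
      rw [hw, ← (show g.left z = y from hz)]
      exact h z hz1
  haveI : IsIso g.left.fromNormalization := H10ZMT.isIso_fromNormalization g.left fun V _ =>
    ⟨(H28Pinch.bijective_app_of_birational g.left hnor hgen hbij V).1,
      fun b _ => (H28Pinch.bijective_app_of_birational g.left hnor hgen hbij V).2 b⟩
  obtain ⟨V, hV, hVq⟩ := H10ZMT.exists_open_isIso_quasiFinite g.left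
  have hVtop : V = ⊤ := by
    by_contra hVne
    obtain ⟨y, hyV, hy⟩ := V.2.isClosed_compl.exists_closed_singleton
      (Set.nonempty_compl.2 fun e => hVne (Opens.ext e))
    obtain ⟨x, rfl⟩ := hsurj y
    refine hyV ((hVq x).2 ?_)
    rw [Scheme.Hom.quasiFiniteAt_iff_isOpen_singleton_asFiber]
    haveI : Subsingleton (g.left.fiber (g.left x)) := ⟨fun u v => by
      have hu : g.left (g.left.fiberι _ u) = g.left x := (g.left.range_fiberι (g.left x)).subset ⟨u, rfl⟩
      have hv : g.left (g.left.fiberι _ v) = g.left x := (g.left.range_fiberι (g.left x)).subset ⟨v, rfl⟩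
      exact (g.left.fiberι _).isEmbedding.injective (hstar _ hy _ _ hu hv)⟩
    exact isOpen_discrete _
  haveI : IsIso g.left := by
    refine IsZariskiLocalAtTarget.of_iSup_eq_top (P := MorphismProperty.isomorphisms Scheme) (fun _ : PUnit.{u+1} => V)
      (by rw [iSup_const, hVtop]) fun _ => hV
  haveI : IsIso ((Over.forget _).map g) := ‹IsIso g.left›
  exact isIso_of_reflects_iso g (Over.forget _)

/-- The curves contracted by morphisms out of an arithmetic surface, invertible on generic fibres,
lie in a finite set. -/
theorem exists_finite_contracted (hR : ¬ IsField R) (X : Over (Spec (CommRingCat.of R))) [IsIntegral X.left]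
    [IsProper X.hom] [Flat X.hom] (hXn : Pi1.IsNormalScheme X.left) (hdim : topologicalKrullDim X.left = 2) :
    ∃ T : Set X.left, T.Finite ∧ ∀ (Y : Over (Spec (CommRingCat.of R))) (f : X ⟶ Y),
      (∀ y : Y.left, IsRegularLocalRing (Y.left.presheaf.stalk y)) → IsProper Y.hom → Flat Y.hom →
      IsIso ((Neron.genericFibre R).map f) → topologicalKrullDim Y.left ≤ 2 →
      ∀ ξ : X.left, ringKrullDim (X.left.presheaf.stalk ξ) ≤ 1 →
        ¬ ringKrullDim (Y.left.presheaf.stalk (f.left ξ)) ≤ 1 → ξ ∈ T := by
  classical
  haveI : IsLocallyNoetherian X.left := LocallyOfFiniteType.isLocallyNoetherian X.hom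
  haveI : CompactSpace X.left := QuasiCompact.compactSpace_of_compactSpace X.hom
  haveI : IsNoetherian X.left := ⟨⟩
  set h := X.hom.fromNormalization
  set q := X.hom.toNormalization
  haveI : IsFinite h := S1297.result X.hom
  haveI : IsProper q := by
    haveI : IsProper (q ≫ h) := by rw [X.hom.toNormalization_fromNormalization]; infer_instance
    exact IsProper.of_comp q h
  haveI : GeometricallyConnected q := H10ZMT.geometricallyConnected_toNormalization X.hom
  haveI : IsDominant q := inferInstance
  have hqgen : q (genericPoint X.left) = genericPoint X.hom.normalization := H7Lim.genericPoint_of_isDominant q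
  haveI : IsAffine X.hom.normalization := isAffine_of_isAffineHom h
  obtain ⟨O, hηO, hO⟩ := exists_open_isIrreducible_fibre hXn q hqgen
  refine ⟨{ξ ∈ q ⁻¹' (O : Set X.hom.normalization)ᶜ | ringKrullDim (X.left.presheaf.stalk ξ) ≤ 1},
    finite_codimOne (O.2.isClosed_compl.preimage q.continuous) (fun hc => hc (show q _ ∈ O by rw [hqgen]; exact hηO)),
    fun Y f hY hYp hYf hf hdY ξ hξ hy => ⟨fun hqO => ?_, hξ⟩⟩
  obtain ⟨hYi, hgen, hbij, -⟩ := H28Vert.birational_of_genericFibre hY f hf
  haveI := hYp
  haveI : IsLocallyNoetherian Y.left := LocallyOfFiniteType.isLocallyNoetherian Y.hom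
  haveI : CompactSpace Y.left := QuasiCompact.compactSpace_of_compactSpace Y.hom
  haveI hfp : IsProper f.left := by
    haveI : IsProper (f.left ≫ Y.hom) := by rw [Over.w f]; infer_instance
    exact IsProper.of_comp f.left Y.hom
  haveI : IsDominant f.left := H10ZMT.isDominant_of_apply_genericPoint f.left hgen
  have hsurj : Function.Surjective f.left := fun t => by
    have h1 : Set.range f.left = Set.univ := by
      rw [← f.left.isClosedMap.isClosed_range.closure_eq]
      exact f.left.denseRange.closure_range
    exact h1.ge (Set.mem_univ t)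
  have hcomm : ∀ z, Y.hom (f.left z) = X.hom z := fun z => by rw [← Scheme.Hom.comp_apply, Over.w f]
  set y := f.left ξ with hydef
  have hyc : IsClosed ({y} : Set Y.left) := isClosed_of_dim_two hdY hy
  have hsc : IsClosed ({Y.hom y} : Set (Spec (CommRingCat.of R))) := by
    have := Y.hom.isClosedMap _ hyc
    rwa [Set.image_singleton] at this
  -- `ξ` is not in the generic fibre
  have hs0 : X.hom ξ ≠ (⊥ : PrimeSpectrum R) := fun h0 => by
    rw [← hcomm ξ] at h0
    rw [show Y.hom y = _ from h0] at hsc
    obtain ⟨I, hI, hI'⟩ := Ring.not_isField_iff_exists_ideal_bot_lt_and_lt_top.1 hR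
    obtain ⟨M, hM, hle⟩ := Ideal.exists_le_maximal I hI'.ne
    have : (⟨M, hM.isPrime⟩ : PrimeSpectrum R) = ⊥ :=
      ((PrimeSpectrum.le_iff_specializes _ _).1 (bot_le : (⊥ : PrimeSpectrum R) ≤ ⟨M, hM.isPrime⟩)).mem_closed hsc rfl
    have hMbot : M = ⊥ := congrArg PrimeSpectrum.asIdeal this
    exact hI.ne' (le_bot_iff.1 (hMbot ▸ hle))
  -- the fibre of the Stein factorisation through `ξ` is contracted
  have hqne : q ξ ≠ genericPoint X.hom.normalization := fun e => hs0 (by
    have h1 : h (q ξ) = h (q (genericPoint X.left)) := by rw [e, hqgen]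
    rw [← Scheme.Hom.comp_apply, ← Scheme.Hom.comp_apply, X.hom.toNormalization_fromNormalization] at h1
    rw [h1]
    exact H28Vert.hom_genericPoint_eq_bot)
  have hir := hO (q ξ) hqO
  have hFsub : q ⁻¹' {q ξ} ⊆ closure {ξ} := by
    have hw := hir.isGenericPoint_genericPoint_closure
    set w := hir.genericPoint
    have hwξ : w ⤳ ξ := hw.specializes (subset_closure rfl)
    have hwe : w = ξ := by
      by_contra hne
      have hwg := eq_genericPoint_of_dim_lt_one ((ringKrullDim_stalk_lt hwξ hne).trans_le hξ)
      have h1 : q ξ ⤳ genericPoint X.hom.normalization := by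
        rw [specializes_iff_mem_closure, ← hqgen, ← hwg]
        exact map_mem_closure q.continuous hw.mem fun z hz => hz
      exact hqne ((genericPoint_specializes (q ξ)).antisymm h1).eq.symm
    rw [show closure {ξ} = closure {w} by rw [hwe], hw.def]
    exact subset_closure
  have hFy : ∀ z, q z = q ξ → f.left z = y := fun z hz => by
    have h1 : y ⤳ f.left z := (specializes_iff_mem_closure.2 (hFsub hz)).map f.left.continuous
    exact h1.mem_closed hyc rfl
  -- descend the Stein factorisation
  have hnorY : Pi1.IsNormalScheme Y.left := H29Ref.isNormalScheme_of_regular hY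
  haveI : IsIso f.left.appTop :=
    (ConcreteCategory.isIso_iff_bijective _).2 (H28Pinch.bijective_app_of_birational f.left hnorY hgen hbij ⊤)
  let r : Y.left ⟶ X.hom.normalization :=
    Y.left.toSpecΓ ≫ Spec.map (q.appTop ≫ inv f.left.appTop) ≫ X.hom.normalization.isoSpec.inv
  have hr : f.left ≫ r = q := by
    simp only [r]
    rw [Scheme.toSpecΓ_naturality_assoc, ← Spec.map_comp_assoc, Category.assoc, IsIso.inv_hom_id, Category.comp_id,
      ← Scheme.toSpecΓ_naturality_assoc, ← Scheme.isoSpec_hom, Iso.hom_inv_id, Category.comp_id]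
  have hrh : r ≫ h = Y.hom := by
    refine ext_of_isDominant (f.left) ?_
    rw [reassoc_of% hr, X.hom.toNormalization_fromNormalization, Over.w f]
  have hfin : (h ⁻¹' {Y.hom y}).Finite := h.finite_preimage_singleton _
  let Z : Set Y.left := r ⁻¹' (h ⁻¹' {Y.hom y} \ {q ξ})
  have hZc : IsClosed Z := by
    refine IsClosed.preimage r.continuous ?_
    rw [← Set.biUnion_of_singleton (h ⁻¹' {Y.hom y} \ {q ξ})]
    exact hfin.diff.isClosed_biUnion fun t ht => closure_subset_iff_isClosed.1 fun t' ht' => by
      have htt : t ⤳ t' := specializes_iff_mem_closure.2 ht'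
      exact (H05EGA4.eq_of_specializes_of_fibre h htt
        ((htt.map h.continuous).mem_closed hsc ht.1 ▸ (show h t = Y.hom y from ht.1))).symm
  let W : Y.left.Opens := ⟨Zᶜ, hZc.isOpen_compl⟩
  have hry : r y = q ξ := by rw [hydef, ← Scheme.Hom.comp_apply, hr]
  have hyW : y ∈ W := fun hc => hc.2 hry
  have hW : ∀ z ∈ W, Y.hom z = Y.hom y → z = y := fun z hz hzs => by
    obtain ⟨a, rfl⟩ := hsurj z
    refine hFy a ?_
    by_contra hne
    refine hz ⟨?_, ?_⟩
    · show h (r (f.left a)) = Y.hom y
      rw [← Scheme.Hom.comp_apply, hrh, hzs]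
    · show r (f.left a) ≠ q ξ
      rw [← Scheme.Hom.comp_apply, hr]
      exact hne
  -- so the function field is algebraic over the base
  let η := genericPoint X.left
  have hgmap : ∀ r, f.left.stalkMap η (DualGr.stalkHom Y.hom (f.left η) r) = DualGr.stalkHom X.hom η r :=
    fun r => H28Vert.stalkHom_stalkMap f η r
  have hinjX : Function.Injective (DualGr.stalkHom X.hom η) := by
    intro r r' hrr'
    by_contra hd
    have hu : IsUnit (DualGr.stalkHom X.hom η (r - r')) := by
      refine (H28Vert.isUnit_stalkHom_iff' X.hom η _).2 ?_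
      rw [H28Vert.hom_genericPoint_eq_bot]
      exact fun hm => hd (sub_eq_zero.1 hm)
    rw [map_sub, hrr', sub_self] at hu
    exact not_isUnit_zero hu
  have hinjY : Function.Injective (DualGr.stalkHom Y.hom (f.left η)) := fun r r' hrr' =>
    hinjX (by rw [← hgmap, ← hgmap, hrr'])
  haveI := hYi
  have halg : ∀ p : Y.left, genericPoint Y.left = p → Function.Injective (DualGr.stalkHom Y.hom p) →
      ∀ b : Y.left.presheaf.stalk p, ∃ P : R[X], P ≠ 0 ∧ P.eval₂ (DualGr.stalkHom Y.hom p) b = 0 := by
    rintro _ rfl hinj b
    exact H28Vert.isAlgebraic_functionField_of_isolated Y.hom hinj y W hyW hW b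
  have hle : topologicalKrullDim X.left ≤ ((1 : ℕ) : WithBot ℕ∞) := by
    refine H28Vert.topologicalKrullDim_le_of_stalks _ fun z => ?_
    have hψ : Function.Injective (DualGr.stalkHom X.hom z) := fun r r' hrr' => hinjX (by
      rw [← H28Vert.algebraMap_stalkHom_base X.hom z r, ← H28Vert.algebraMap_stalkHom_base X.hom z r', hrr'])
    refine H28Vert.ringKrullDim_le_one_of_algebraic' _ hψ fun b => ?_
    obtain ⟨c, hc⟩ := hbij.2 (algebraMap (X.left.presheaf.stalk z) X.left.functionField b)
    obtain ⟨P, hP, hPc⟩ := halg _ hgen.symm hinjY c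
    refine ⟨P, hP, IsFractionRing.injective (X.left.presheaf.stalk z) X.left.functionField ?_⟩
    rw [map_zero, hom_eval₂, ← hc, show (algebraMap (X.left.presheaf.stalk z) X.left.functionField).comp (DualGr.stalkHom X.hom z) =
      (f.left.stalkMap η).hom.comp (DualGr.stalkHom Y.hom (f.left η)) from RingHom.ext fun r =>
        (H28Vert.algebraMap_stalkHom_base X.hom z r).trans (hgmap r).symm, ← hom_eval₂, hPc, map_zero]
  rw [hdim] at hle
  exact absurd hle (by decide)

end Base

end Groth.Agent.H28Contr
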