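import Groth.Agent.H28Contr.DomExt

/-!
# Point blow-ups dominate proper modifications of surfaces
-/

set_option autoImplicit false
set_option linter.style.haveILetI false
set_option backward.isDefEq.respectTransparency.types false

universe u

open CategoryTheory Limits AlgebraicGeometry TopologicalSpace

namespace Groth.Agent.H28Contr

variable {X Y : Scheme.{u}}

theorem ringKrullDim_stalk_lt [IsLocallyNoetherian X] {z w : X} (h : z ⤳ w) (hne : z ≠ w) :
    ringKrullDim (X.presheaf.stalk z) < ringKrullDim (X.presheaf.stalk w) := by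
  obtain ⟨W, hW, hwW, -⟩ := exists_isAffineOpen_mem_and_subset (X := X) (x := w) (U := ⊤) trivial
  have hzW : z ∈ W := h.mem_open W.2 hwW
  haveI : IsNoetherianRing Γ(X, W) := IsLocallyNoetherian.component_noetherian ⟨W, hW⟩
  have hd : ∀ x (hx : x ∈ W), ringKrullDim (X.presheaf.stalk x) = (hW.primeIdealOf ⟨x, hx⟩).asIdeal.height :=
    fun x hx => by
      letI := TopCat.Presheaf.algebra_section_stalk X.presheaf (⟨x, hx⟩ : W)
      haveI := hW.isLocalization_stalk ⟨x, hx⟩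
      exact IsLocalization.AtPrime.ringKrullDim_eq_height (hW.primeIdealOf ⟨x, hx⟩).asIdeal (X.presheaf.stalk x)
  rw [hd z hzW, hd w hwW]
  refine WithBot.coe_lt_coe.2 (Ideal.height_strict_mono_of_isPrime (lt_of_le_of_ne ?_ ?_))
  · refine (PrimeSpectrum.le_iff_specializes _ _).2 (hW.fromSpec.isOpenEmbedding.isInducing.specializes_iff.1 ?_)
    erw [hW.fromSpec_primeIdealOf ⟨z, hzW⟩, hW.fromSpec_primeIdealOf ⟨w, hwW⟩]
    exact h
  · intro e
    have := congrArg hW.fromSpec (PrimeSpectrum.ext e : hW.primeIdealOf ⟨z, hzW⟩ = hW.primeIdealOf ⟨w, hwW⟩)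
    erw [hW.fromSpec_primeIdealOf ⟨z, hzW⟩, hW.fromSpec_primeIdealOf ⟨w, hwW⟩] at this
    exact hne this

theorem ringKrullDim_stalk_le_top (x : X) : ringKrullDim (X.presheaf.stalk x) ≤ topologicalKrullDim X := by
  rw [← PrimeSpectrum.topologicalKrullDim_eq_ringKrullDim]
  exact (X.fromSpecStalk x).isEmbedding.isInducing.topologicalKrullDim_le

theorem stepHom_stalkMap {X' : Scheme.{u}} {b : X' ⟶ X} [IsLocallyNoetherian X] {x : X'}
    (hy : IsClosed ({b x} : Set X)) (hreg : IsRegularLocalRing (X.presheaf.stalk (b x)))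
    (hdim : ringKrullDim (X.presheaf.stalk (b x)) = 2)
    (hb : BlowUp.IsBlowUp b (Scheme.IdealSheafData.vanishingIdeal ⟨{b x}, hy⟩)) :
    IsRegularLocalRing (X'.presheaf.stalk x) ∧ ringKrullDim (X'.presheaf.stalk x) ≤ 2 ∧
      StepHom (b.stalkMap x).hom := by
  obtain ⟨h1, h2, φ, hφ, hstep⟩ := exists_stepHom hy hreg hdim hb x rfl
  refine ⟨h1, h2, ?_⟩
  rw [← Scheme.SpecMap_stalkMap_fromSpecStalk, cancel_mono] at hφ
  rwa [← Spec.map_injective hφ]

/-- Blow up finitely many points, keeping track of a property of the remaining ones. -/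
theorem exists_round' {X : Scheme.{u}} (Φ : ∀ Z : Scheme.{u}, (Z ⟶ X) → Set Z → Prop)
    (hΦ : ∀ (Z Z₁ : Scheme.{u}) [IsNoetherian Z] [IsNoetherian Z₁] (r : Z ⟶ X) (b : Z₁ ⟶ Z) (B : Set Z) (y : Z)
      (hy : IsClosed ({y} : Set Z)), y ∈ B → IsRegularLocalRing (Z.presheaf.stalk y) →
      ringKrullDim (Z.presheaf.stalk y) = 2 →
      BlowUp.IsBlowUp b (Scheme.IdealSheafData.vanishingIdeal ⟨{y}, hy⟩) →
      Φ Z r B → Φ Z₁ (b ≫ r) (b ⁻¹' (B \ {y})))
    (n : ℕ) : ∀ (Z : Scheme.{u}) [IsNoetherian Z] (r : Z ⟶ X), Models.IsContractionSeq r →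
    ∀ B : Set Z, B.Finite → B.ncard ≤ n → Φ Z r B →
    (∀ y ∈ B, IsClosed ({y} : Set Z) ∧ IsRegularLocalRing (Z.presheaf.stalk y) ∧ ringKrullDim (Z.presheaf.stalk y) = 2) →
    ∃ (Z' : Scheme.{u}) (q : Z' ⟶ Z), IsNoetherian Z' ∧ Models.IsContractionSeq (q ≫ r) ∧ Φ Z' (q ≫ r) ∅ ∧
      (∀ V : Z.Opens, Disjoint (V : Set Z) B → IsIso (q ∣_ V)) ∧
      ∀ x, q x ∈ B → IsRegularLocalRing (Z'.presheaf.stalk x) ∧ ringKrullDim (Z'.presheaf.stalk x) ≤ 2 ∧
        StepHom (q.stalkMap x).hom := by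
  induction n with
  | zero =>
    intro Z _ r hr B hB hn hΦB hpt
    obtain rfl := (Set.ncard_eq_zero hB).1 (Nat.le_zero.1 hn)
    exact ⟨Z, 𝟙 Z, ‹_›, by rwa [Category.id_comp], by rwa [Category.id_comp], fun V _ => inferInstance,
      fun x hx => hx.elim⟩
  | succ n ih =>
    intro Z _ r hr B hB hn hΦB hpt
    by_cases hle : B.ncard ≤ n
    · exact ih Z r hr B hB hle hΦB hpt
    obtain ⟨y, hyB⟩ : B.Nonempty := Set.nonempty_of_ncard_ne_zero (by omega)
    obtain ⟨hy, hreg, hdim⟩ := hpt y hyB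
    set J := Scheme.IdealSheafData.vanishingIdeal (⟨{y}, hy⟩ : TopologicalSpace.Closeds Z) with hJ
    obtain ⟨Z₁, b, hb⟩ := H26Blow.exists_isBlowUp J
    obtain ⟨hexc, hcontr⟩ := isExcCurve_and_isContractionOf hy hreg hdim hb
    haveI : IsProper b := hcontr.2.1
    haveI : IsNoetherian Z₁ := isNoetherian_blowUp (b := b)
    have hiso : ∀ V : Z.Opens, y ∉ V → IsIso (b ∣_ V) := fun V hV => H29Blow.isIso_morphismRestrict hb V fun x hx hsupp => by
      rw [hJ, ← SetLike.mem_coe, Scheme.IdealSheafData.coe_support_vanishingIdeal] at hsupp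
      exact hV ((show x = y from hsupp) ▸ hx)
    let U : Z.Opens := ⟨{y}ᶜ, hy.isOpen_compl⟩
    haveI := hiso U (fun h => h rfl)
    have huniq : ∀ x x' : Z₁, b x ≠ y → b x' = b x → x' = x := fun x x' hx hxx' => by
      have hinj : Function.Injective (b ∣_ U) := (b ∣_ U).homeomorph.injective
      have := @hinj ⟨x', show b x' ∈ U by rw [hxx']; exact hx⟩ ⟨x, hx⟩ (Subtype.ext (by simpa using hxx'))
      exact congrArg Subtype.val this
    set B₁ : Set Z₁ := b ⁻¹' (B \ {y})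
    have hB₁ : Set.InjOn b B₁ := fun x hx x' _ e => (huniq x x' hx.2 e.symm).symm
    have hn₁ : B₁.ncard ≤ n := by
      have : B₁.ncard ≤ (B \ {y}).ncard := Set.ncard_le_ncard_of_injOn b (fun x hx => hx) hB₁ hB.diff
      rw [Set.ncard_diff_singleton_of_mem hyB] at this
      omega
    obtain ⟨Z', q, hZ', hseq, hΦ', hqiso, hq⟩ := ih Z₁ (b ≫ r)
      (Models.IsContractionSeq.step _ b r inferInstance hexc hcontr hr) B₁
      (Set.Finite.of_finite_image (hB.diff.subset (Set.image_preimage_subset _ _)) hB₁) hn₁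
      (hΦ Z Z₁ r b B y hy hyB hreg hdim hb hΦB) (fun x hx => by
        obtain ⟨hc, hr', hd⟩ := hpt _ hx.1
        haveI := isIso_stalkMap_of_restrict b U x hx.2
        let e := (asIso (b.stalkMap x)).commRingCatIsoToRingEquiv
        refine ⟨?_, IsRegularLocalRing.of_ringEquiv e, (ringKrullDim_eq_of_ringEquiv e).symm.trans hd⟩
        have : b ⁻¹' {b x} = {x} := Set.eq_singleton_iff_unique_mem.2 ⟨rfl, fun x' hx' => huniq x x' hx.2 hx'⟩
        rw [← this]
        exact hc.preimage b.continuous)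
    refine ⟨Z', q ≫ b, hZ', by rwa [Category.assoc], by rwa [Category.assoc], fun V hV => ?_, fun x hx => ?_⟩
    · haveI := hiso V (fun h => Set.disjoint_left.1 hV h hyB)
      haveI := hqiso (b ⁻¹ᵁ V) (Set.disjoint_left.2 fun x hx hx' => Set.disjoint_left.1 hV hx hx'.1)
      rw [morphismRestrict_comp]
      exact IsIso.comp_isIso' (hqiso _ (Set.disjoint_left.2 fun x hx hx' => Set.disjoint_left.1 hV hx hx'.1))
        (hiso V fun h => Set.disjoint_left.1 hV h hyB)
    · rw [Scheme.Hom.stalkMap_comp]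
      by_cases hxy : b (q x) = y
      · have hq₁ : q x ∉ B₁ := fun h => h.2 hxy
        have hclosed : IsClosed B₁ := IsClosed.preimage b.continuous <| by
          rw [← Set.biUnion_of_singleton (B \ {y})]
          exact hB.diff.isClosed_biUnion fun z hz => (hpt z hz.1).1
        haveI := hqiso ⟨B₁ᶜ, hclosed.isOpen_compl⟩ (disjoint_compl_left)
        haveI := isIso_stalkMap_of_restrict q ⟨B₁ᶜ, hclosed.isOpen_compl⟩ x hq₁
        let e := (asIso (q.stalkMap x)).commRingCatIsoToRingEquiv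
        have key : ∀ (w : Z₁), b w = y → IsRegularLocalRing (Z₁.presheaf.stalk w) ∧
            ringKrullDim (Z₁.presheaf.stalk w) ≤ 2 ∧ StepHom (b.stalkMap w).hom := by
          intro w hw; subst hw; exact stepHom_stalkMap hy hreg hdim hb
        obtain ⟨h1, h2, h3⟩ := key _ hxy
        exact ⟨IsRegularLocalRing.of_ringEquiv e, (ringKrullDim_eq_of_ringEquiv e).symm.trans_le h2, h3.comp_equiv e⟩
      · obtain ⟨h1, h2, h3⟩ := hq x ⟨hx, hxy⟩
        haveI := isIso_stalkMap_of_restrict b U (q x) hxy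
        exact ⟨h1, h2, h3.equiv_comp (asIso (b.stalkMap (q x))).commRingCatIsoToRingEquiv⟩

/-- Blow up finitely many points. -/
theorem exists_round (n : ℕ) (Z X : Scheme.{u}) [IsNoetherian Z] (r : Z ⟶ X) (hr : Models.IsContractionSeq r)
    (B : Set Z) (hB : B.Finite) (hn : B.ncard ≤ n)
    (hpt : ∀ y ∈ B, IsClosed ({y} : Set Z) ∧ IsRegularLocalRing (Z.presheaf.stalk y) ∧
      ringKrullDim (Z.presheaf.stalk y) = 2) :
    ∃ (Z' : Scheme.{u}) (q : Z' ⟶ Z), IsNoetherian Z' ∧ Models.IsContractionSeq (q ≫ r) ∧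
      (∀ V : Z.Opens, Disjoint (V : Set Z) B → IsIso (q ∣_ V)) ∧
      ∀ x, q x ∈ B → IsRegularLocalRing (Z'.presheaf.stalk x) ∧ ringKrullDim (Z'.presheaf.stalk x) ≤ 2 ∧
        StepHom (q.stalkMap x).hom := by
  obtain ⟨Z', q, h1, h2, -, h3, h4⟩ := exists_round' (fun _ _ _ => True) (by intros; trivial)
    n Z r hr B hB hn trivial hpt
  exact ⟨Z', q, h1, h2, h3, h4⟩

/-- A morphism from the spectrum of a valuation ring descends to a finite stage. -/
theorem exists_descend (p : Y ⟶ X) [LocallyOfFiniteType p] {V : CommRingCat.{u}} [IsLocalRing V]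
    {R : ℕ → CommRingCat.{u}} [∀ n, IsLocalRing (R n)] (ι : ∀ n, R n ⟶ V) (hloc : ∀ n, IsLocalHom (ι n).hom)
    (hinj : ∀ n, Function.Injective (ι n)) (hmono : Monotone fun n => (ι n).hom.range)
    (hsur : ∀ v : V, ∃ n r, ι n r = v) (i : ∀ n, Spec (R n) ⟶ X) (l : Spec V ⟶ Y)
    (hl : ∀ n, Spec.map (ι n) ≫ i n = l ≫ p) :
    ∃ (N : ℕ) (φ : Spec (R N) ⟶ Y), φ ≫ p = i N ∧ Spec.map (ι N) ≫ φ = l := by
  set y := l (IsLocalRing.closedPoint V) with hy
  obtain ⟨A, hA, hpyA, -⟩ := exists_isAffineOpen_mem_and_subset (X := X) (x := p y) (U := ⊤) trivial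
  obtain ⟨W, hW, hyW, hWA⟩ := exists_isAffineOpen_mem_and_subset (X := Y) (x := y) (U := p ⁻¹ᵁ A) hpyA
  obtain ⟨w, hw⟩ : ∃ w : Γ(Y, W) ⟶ V, Spec.map w ≫ hW.fromSpec = l := by
    refine ⟨Y.presheaf.germ W y hyW ≫ Scheme.stalkClosedPointTo l, ?_⟩
    simp only [Spec.map_comp, Category.assoc]
    rw [← IsAffineOpen.fromSpecStalk, IsAffineOpen.fromSpecStalk_eq_fromSpecStalk,
      Scheme.Spec_stalkClosedPointTo_fromSpecStalk]
  have hi : ∀ n, i n (IsLocalRing.closedPoint (R n)) ∈ A := fun n => by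
    haveI := hloc n
    have h1 : (Spec.map (ι n) ≫ i n) (IsLocalRing.closedPoint V) ∈ A := by rw [hl]; exact hpyA
    rwa [Scheme.Hom.comp_apply, show Spec.map (ι n) (IsLocalRing.closedPoint V) = IsLocalRing.closedPoint (R n) from
      IsLocalRing.comap_closedPoint (ι n).hom] at h1
  have hvex : ∀ n, ∃ v : Γ(X, A) ⟶ R n, Spec.map v ≫ hA.fromSpec = i n := fun n => by
    refine ⟨X.presheaf.germ A _ (hi n) ≫ Scheme.stalkClosedPointTo (i n), ?_⟩
    simp only [Spec.map_comp, Category.assoc]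
    rw [← IsAffineOpen.fromSpecStalk, IsAffineOpen.fromSpecStalk_eq_fromSpecStalk,
      Scheme.Spec_stalkClosedPointTo_fromSpecStalk]
  choose v hv using hvex
  have hvw : ∀ n, p.appLE A W hWA ≫ w = v n ≫ ι n := fun n => by
    apply Spec.map_injective
    rw [← cancel_mono hA.fromSpec, Spec.map_comp, Spec.map_comp, Category.assoc, Category.assoc,
      IsAffineOpen.SpecMap_appLE_fromSpec p hA hW hWA, reassoc_of% hw, hv, hl]
  letI := (p.appLE A W hWA).hom.toAlgebra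
  haveI : Algebra.FiniteType Γ(X, A) Γ(Y, W) := p.finiteType_appLE hA hW hWA
  obtain ⟨S, hS⟩ := (Algebra.FiniteType.out : (⊤ : Subalgebra Γ(X, A) Γ(Y, W)).FG)
  choose nn rr hnn using fun a => hsur (w a)
  set N := S.sup nn
  have hmem : ∀ a, w a ∈ (ι N).hom.range := fun a => by
    have ha : a ∈ Algebra.adjoin Γ(X, A) (S : Set Γ(Y, W)) := by rw [hS]; trivial
    induction ha using Algebra.adjoin_induction with
    | mem a ha => exact hmono (Finset.le_sup ha) ⟨rr a, hnn a⟩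
    | algebraMap r => exact ⟨v N r, (congrArg (fun f : Γ(X, A) ⟶ V => f r) (hvw N)).symm⟩
    | add a b _ _ ha hb => rw [map_add]; exact add_mem ha hb
    | mul a b _ _ ha hb => rw [map_mul]; exact mul_mem ha hb
  let e : R N ≃+* (ι N).hom.range := RingEquiv.ofBijective (ι N).hom.rangeRestrict
    ⟨fun a b h => hinj N (congrArg Subtype.val h), RingHom.rangeRestrict_surjective _⟩
  let ψ : Γ(Y, W) ⟶ R N := CommRingCat.ofHom (e.symm.toRingHom.comp (w.hom.codRestrict _ hmem))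
  have hψ : ψ ≫ ι N = w := by
    ext a
    exact congrArg Subtype.val (e.apply_symm_apply ⟨w a, hmem a⟩)
  have hψ' : p.appLE A W hWA ≫ ψ = v N := by
    haveI := ConcreteCategory.mono_of_injective (ι N) (hinj N)
    rw [← cancel_mono (ι N), Category.assoc, hψ, hvw]
  refine ⟨N, Spec.map ψ ≫ hW.fromSpec, ?_, ?_⟩
  · rw [Category.assoc, ← IsAffineOpen.SpecMap_appLE_fromSpec p hA hW hWA, ← Spec.map_comp_assoc, hψ', hv]
  · rw [← Spec.map_comp_assoc, hψ, hw]

/-- A stage of the sequence of blow-ups. -/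
structure Stage (X : Scheme.{u}) (U : X.Opens) where
  Z : Scheme.{u}
  noeth : IsNoetherian Z
  g : Z ⟶ X
  seq : Models.IsContractionSeq g
  iso : IsIso (g ∣_ U)
  inv : Inv U g

attribute [instance] Stage.noeth

variable {p : Y ⟶ X} {U : X.Opens} {s : (U : Scheme.{u}) ⟶ Y}

/-- The points where the section does not extend. -/
def Stage.bad (S : Stage X U) (p : Y ⟶ X) (s : (U : Scheme.{u}) ⟶ Y) : Set S.Z :=
  {z | ¬ Ext p U s S.g z}

theorem eq_two_of_le {d : WithBot ℕ∞} (h : d ≤ 2) (h' : ¬ d ≤ 1) : d = 2 := by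
  induction d using WithBot.recBotCoe with
  | bot => exact absurd bot_le h'
  | coe d =>
    induction d using ENat.recTopCoe with
    | top => exact absurd h (by decide)
    | coe d =>
      have h1 : d ≤ 2 := Nat.cast_le.1 (WithBot.coe_le_coe.1 (h : _ ≤ (((2 : ℕ) : ℕ∞) : WithBot ℕ∞)))
      have h2 : ¬ d ≤ 1 := fun h => h' (show _ ≤ (((1 : ℕ) : ℕ∞) : WithBot ℕ∞) from
        WithBot.coe_le_coe.2 (Nat.cast_le.2 h))
      obtain rfl : d = 2 := by omega
      rfl

theorem Stage.bad_props [IsProper p] (hs : s ≫ p = U.ι) (S : Stage X U) :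
    (S.bad p s).Finite ∧ ∀ z ∈ S.bad p s, S.g z ∉ U ∧ IsClosed ({z} : Set S.Z) ∧
      IsRegularLocalRing (S.Z.presheaf.stalk z) ∧ ringKrullDim (S.Z.presheaf.stalk z) = 2 := by
  have hU : ∀ z ∈ S.bad p s, S.g z ∉ U := fun z hz h => hz (Ext.of_mem hs S.g h)
  have hd : ∀ z ∈ S.bad p s, ringKrullDim (S.Z.presheaf.stalk z) = 2 := fun z hz =>
    eq_two_of_le (S.inv.dim z (hU z hz)) fun h => hz (Ext.of_dim_le_one hs S.inv (hU z hz) h)
  have hcl : IsClosed (S.bad p s) := (isOpen_ext S.g).isClosed_compl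
  have hpt : ∀ z ∈ S.bad p s, IsClosed ({z} : Set S.Z) := fun z hz => by
    rw [← closure_subset_iff_isClosed]
    intro w hw
    by_contra hne
    have hwb : w ∈ S.bad p s := hcl.closure_subset_iff.2 (Set.singleton_subset_iff.2 hz) hw
    have := ringKrullDim_stalk_lt (specializes_iff_mem_closure.2 hw) fun e => hne e.symm
    rw [hd z hz, hd w hwb] at this
    exact this.false
  exact ⟨finite_of_closed_points hcl hpt, fun z hz => ⟨hU z hz, hpt z hz, S.inv.reg z (hU z hz), hd z hz⟩⟩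

/-- One round of blow-ups, keeping track of a property. -/
theorem Stage.exists_next' [IsProper p] (hs : s ≫ p = U.ι) (Φ : ∀ Z : Scheme.{u}, (Z ⟶ X) → Set Z → Prop)
    (hΦ : ∀ (Z Z₁ : Scheme.{u}) [IsNoetherian Z] [IsNoetherian Z₁] (r : Z ⟶ X) (b : Z₁ ⟶ Z) (B : Set Z) (y : Z)
      (hy : IsClosed ({y} : Set Z)), y ∈ B → IsRegularLocalRing (Z.presheaf.stalk y) →
      ringKrullDim (Z.presheaf.stalk y) = 2 →
      BlowUp.IsBlowUp b (Scheme.IdealSheafData.vanishingIdeal ⟨{y}, hy⟩) →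
      Φ Z r B → Φ Z₁ (b ≫ r) (b ⁻¹' (B \ {y})))
    (S : Stage X U) (hS : Φ S.Z S.g (S.bad p s)) :
    ∃ (S' : Stage X U) (q : S'.Z ⟶ S.Z), q ≫ S.g = S'.g ∧ Φ S'.Z S'.g ∅ ∧
      ∀ x ∈ S'.bad p s, q x ∈ S.bad p s ∧ StepHom (q.stalkMap x).hom := by
  obtain ⟨hfin, hpt⟩ := S.bad_props (p := p) hs
  obtain ⟨Z', q, hZ', hseq, hΦ', hiso, hq⟩ := exists_round' Φ hΦ _ S.Z S.g S.seq _ hfin le_rfl hS
    fun y hy => (hpt y hy).2
  have hBc : IsOpen (S.bad p s)ᶜ := by simpa [Stage.bad, Set.compl_setOf] using isOpen_ext (p := p) (s := s) S.g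
  have hreg : ∀ x, S.g (q x) ∉ U → IsRegularLocalRing (Z'.presheaf.stalk x) ∧
      ringKrullDim (Z'.presheaf.stalk x) ≤ 2 ∧ Function.Injective (q.stalkMap x) := fun x hx => by
    by_cases hxB : q x ∈ S.bad p s
    · obtain ⟨h1, h2, h3⟩ := hq x hxB
      exact ⟨h1, h2, h3.inj⟩
    · haveI := hiso ⟨_, hBc⟩ disjoint_compl_left
      haveI := isIso_stalkMap_of_restrict q ⟨_, hBc⟩ x hxB
      let e := (asIso (q.stalkMap x)).commRingCatIsoToRingEquiv
      haveI := S.inv.reg _ hx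
      exact ⟨IsRegularLocalRing.of_ringEquiv e,
        (ringKrullDim_eq_of_ringEquiv e).symm.trans_le (S.inv.dim _ hx), e.injective⟩
  have hinv : Inv U (q ≫ S.g) := by
    refine ⟨fun x hx => (hreg x hx).1, fun x hx => (hreg x hx).2.1, fun x hx P hP => ?_⟩
    have := S.inv.gen (q x) hx (PrimeSpectrum.comap (q.stalkMap x).hom P) (by
      rw [PrimeSpectrum.comap_asIdeal, hP, Ideal.comap_bot_of_injective _ (hreg x hx).2.2])
    rw [show S.Z.fromSpecStalk (q x) (PrimeSpectrum.comap (q.stalkMap x).hom P) = q (Z'.fromSpecStalk x P) from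
      congrArg (fun f : Spec (Z'.presheaf.stalk x) ⟶ S.Z => f P) (Scheme.SpecMap_stalkMap_fromSpecStalk (f := q) (x := x))] at this
    exact this
  have hisoU : IsIso ((q ≫ S.g) ∣_ U) := by
    haveI := S.iso
    haveI := hiso (S.g ⁻¹ᵁ U) (Set.disjoint_left.2 fun z hz hz' => (hpt z hz').1 hz)
    rw [morphismRestrict_comp]
    exact IsIso.comp_isIso' (hiso (S.g ⁻¹ᵁ U) (Set.disjoint_left.2 fun z hz hz' => (hpt z hz').1 hz)) S.iso
  refine ⟨⟨Z', hZ', q ≫ S.g, hseq, hisoU, hinv⟩, q, rfl, hΦ', fun x hx => ?_⟩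
  have hxB : q x ∈ S.bad p s := fun h => hx (h.comap q)
  exact ⟨hxB, (hq x hxB).2.2⟩

/-- Some stage with a given property has no bad point, if every stage with bad points has a successor. -/
theorem exists_stage_good' [IsProper p] (hs : s ≫ p = U.ι) (P : Stage X U → Prop)
    (hnext : ∀ S : Stage X U, P S → ∃ (S' : Stage X U) (q : S'.Z ⟶ S.Z), q ≫ S.g = S'.g ∧ P S' ∧
      ∀ x ∈ S'.bad p s, q x ∈ S.bad p s ∧ StepHom (q.stalkMap x).hom)
    (S₀ : Stage X U) (hS₀ : P S₀) : ∃ S : Stage X U, P S ∧ S.bad p s = ∅ := by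
  by_contra hcon'
  push Not at hcon'
  choose nxt q hqg hP hq using fun S : {S : Stage X U // P S} => hnext S.1 S.2
  let T : ℕ → {S : Stage X U // P S} := Nat.rec ⟨S₀, hS₀⟩ fun _ T => ⟨nxt T, hP T⟩
  let S : ℕ → Stage X U := fun n => (T n).1
  have hcon : ∀ n, (S n).bad p s ≠ ∅ := fun n => Set.nonempty_iff_ne_empty.1 (hcon' _ (T n).2)
  let qn : ∀ n, (S (n + 1)).Z ⟶ (S n).Z := fun n => q (T n)
  let mp : ∀ n, (S (n + 1)).bad p s → (S n).bad p s := fun n x => ⟨qn n x.1, (hq (T n) x.1 x.2).1⟩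
  let F : ℕᵒᵖ ⥤ Type u := Functor.ofOpSequence (X := fun n => ↥((S n).bad p s)) fun n => ↾(mp n)
  haveI : ∀ j, Finite (F.obj j) := fun j => ((S j.unop).bad_props (p := p) hs).1.to_subtype
  haveI : ∀ j, Nonempty (F.obj j) := fun j => (Set.nonempty_iff_ne_empty.2 (hcon _)).to_subtype
  obtain ⟨z', hz'⟩ := nonempty_sections_of_finite_inverse_system F
  let z : ∀ n, (S n).Z := fun n => (z' ⟨n⟩).1
  have hzb : ∀ n, z n ∈ (S n).bad p s := fun n => (z' ⟨n⟩).2
  have hz : ∀ n, qn n (z (n + 1)) = z n := fun n => by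
    have := hz' (homOfLE (Nat.le_succ n)).op
    rw [Functor.ofOpSequence_map_homOfLE_succ] at this
    exact congrArg Subtype.val this
  have hprops := fun n => ((S n).bad_props (p := p) hs).2 (z n) (hzb n)
  have hstep : ∀ n, ∃ φ : (S n).Z.presheaf.stalk (z n) ⟶ (S (n + 1)).Z.presheaf.stalk (z (n + 1)),
      Spec.map φ ≫ (S n).Z.fromSpecStalk (z n) = (S (n + 1)).Z.fromSpecStalk (z (n + 1)) ≫ qn n ∧ StepHom φ.hom := by
    intro n
    have key : ∀ y, qn n (z (n + 1)) = y → ∃ φ : (S n).Z.presheaf.stalk y ⟶ (S (n + 1)).Z.presheaf.stalk (z (n + 1)),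
        Spec.map φ ≫ (S n).Z.fromSpecStalk y = (S (n + 1)).Z.fromSpecStalk (z (n + 1)) ≫ qn n ∧ StepHom φ.hom := by
      rintro _ rfl
      exact ⟨(qn n).stalkMap _, Scheme.SpecMap_stalkMap_fromSpecStalk .., (hq (T n) _ (hzb (n + 1))).2⟩
    exact key _ (hz n)
  choose φ hφg hφ using hstep
  haveI : ∀ n, IsDomain ((S n).Z.presheaf.stalk (z n)) := fun n => (S n).inv.isDomain (hprops n).1
  obtain ⟨V, ι, hι0, hιstep, hιinj, hιloc, hιsur⟩ := exists_valuation_ring (R := fun n => (S n).Z.presheaf.stalk (z n))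
    (fun n => (φ n).hom) hφ fun a b ha => by
      haveI := (hprops 0).2.2.1
      exact exists_colBound_of_regular _ (hprops 0).2.2.2 _ fun h => ha <| by
        rw [← Ideal.mem_bot, ← h]; exact Ideal.subset_span (Set.mem_insert a {b})
  have hK : Function.Injective (algebraMap ((S 0).Z.presheaf.stalk (z 0)) (FractionRing ((S 0).Z.presheaf.stalk (z 0)))) := IsFractionRing.injective _ _
  haveI : IsDomain ((S 0).Z.presheaf.stalk (z 0)) := (S 0).inv.isDomain (hprops 0).1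
  letI : Field (FractionRing ((S 0).Z.presheaf.stalk (z 0))) := FractionRing.field _
  obtain ⟨c, hc⟩ := @Inv.exists_lift _ _ _ _ (S 0).inv (z 0) (hprops 0).1 (FractionRing ((S 0).Z.presheaf.stalk (z 0))) _ (algebraMap ((S 0).Z.presheaf.stalk (z 0)) (FractionRing ((S 0).Z.presheaf.stalk (z 0)))) hK
  let ι' : ∀ n, (S n).Z.presheaf.stalk (z n) ⟶ CommRingCat.of V := fun n => CommRingCat.ofHom (ι n)
  let i : ∀ n, Spec ((S n).Z.presheaf.stalk (z n)) ⟶ X := fun n => (S n).Z.fromSpecStalk (z n) ≫ (S n).g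
  have hι' : ∀ n, φ n ≫ ι' (n + 1) = ι' n := fun n => CommRingCat.hom_ext (hιstep n)
  have hi : ∀ n, Spec.map (ι' n) ≫ i n = Spec.map (ι' 0) ≫ i 0 := fun n => by
    induction n with
    | zero => rfl
    | succ n ih =>
      refine Eq.trans ?_ ih
      conv_rhs => rw [← hι' n, Spec.map_comp, Category.assoc]
      congr 1
      show (S (n + 1)).Z.fromSpecStalk (z (n + 1)) ≫ (S (n + 1)).g =
        Spec.map (φ n) ≫ (S n).Z.fromSpecStalk (z n) ≫ (S n).g
      rw [reassoc_of% hφg n, show (S (n + 1)).g = qn n ≫ (S n).g from (hqg (T n)).symm]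
  obtain ⟨l, hl1, hl2⟩ : ∃ l : Spec (CommRingCat.of V) ⟶ Y,
      Spec.map (CommRingCat.ofHom (algebraMap V (FractionRing ((S 0).Z.presheaf.stalk (z 0))))) ≫ l = c ≫ s ∧ l ≫ p = Spec.map (ι' 0) ≫ i 0 := by
    have hp : (ValuativeCriterion ⊓ @QuasiCompact ⊓ @QuasiSeparated ⊓ @LocallyOfFiniteType) p := by
      rw [← IsProper.eq_valuativeCriterion]; infer_instance
    have he : CommRingCat.ofHom (algebraMap ((S 0).Z.presheaf.stalk (z 0)) (FractionRing ((S 0).Z.presheaf.stalk (z 0)))) = ι' 0 ≫ CommRingCat.ofHom (algebraMap V (FractionRing ((S 0).Z.presheaf.stalk (z 0)))) :=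
      CommRingCat.hom_ext (RingHom.ext fun r => (hι0 r).symm)
    obtain ⟨⟨l, h1, h2⟩⟩ := (ValuativeCriterion.existence hp.1.1.1
      { R := V, K := (FractionRing ((S 0).Z.presheaf.stalk (z 0))), i₁ := c ≫ s, i₂ := Spec.map (ι' 0) ≫ i 0
        commSq := ⟨by rw [Category.assoc, hs, hc, ← Spec.map_comp_assoc, ← he]⟩ }).exists_lift
    exact ⟨l, h1, h2⟩
  have hmono : Monotone fun n => (ι' n).hom.range := monotone_nat_of_le_succ fun n => by
    rintro _ ⟨r, rfl⟩
    exact ⟨φ n r, congrArg (fun f : (S n).Z.presheaf.stalk (z n) →+* V => f r) (hιstep n)⟩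
  obtain ⟨N, ψ, hψp, hψl⟩ := exists_descend p ι' hιloc hιinj hmono hιsur i l fun n => (hi n).trans hl2.symm
  haveI : IsLocallyNoetherian (S N).Z := (S N).noeth.toIsLocallyNoetherian
  refine hzb N (@Ext.of_lift _ _ _ _ _ _ _ _ _ hs (S N).g (z N) ((S N).inv.isDomain (hprops N).1) _ _ ((algebraMap V (FractionRing ((S 0).Z.presheaf.stalk (z 0)))).comp (ι N)) ((IsFractionRing.injective V (FractionRing ((S 0).Z.presheaf.stalk (z 0)))).comp (hιinj N)) ψ hψp c ?_ ?_)
  · have := hi N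
    rw [hc]
    have h2 := congrArg (Spec.map (CommRingCat.ofHom (algebraMap V (FractionRing ((S 0).Z.presheaf.stalk (z 0))))) ≫ ·) this
    simp only [i, ← Spec.map_comp_assoc] at h2
    refine Eq.trans ?_ h2.symm
    congr 2
    exact CommRingCat.hom_ext (RingHom.ext fun r => (hι0 r).symm)
  · rw [CommRingCat.ofHom_comp, Spec.map_comp, Category.assoc]
    erw [hψl]
    exact hl1

/-- Some stage has no bad point. -/
theorem exists_stage_good [IsProper p] (hs : s ≫ p = U.ι) (S₀ : Stage X U) :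
    ∃ S : Stage X U, S.bad p s = ∅ := by
  obtain ⟨S, -, hS⟩ := exists_stage_good' (p := p) hs (fun _ => True) (fun S _ => by
    obtain ⟨S', q, h1, -, h3⟩ := S.exists_next' hs (fun _ _ _ => True) (by intros; trivial) trivial
    exact ⟨S', q, h1, trivial, h3⟩) S₀ trivial
  exact ⟨S, hS⟩

/-- Point blow-ups make a section over an open set extend. -/
theorem exists_dominate [IsNoetherian X] (p : Y ⟶ X) [IsProper p] (U : X.Opens) (s : (U : Scheme.{u}) ⟶ Y)
    (hs : s ≫ p = U.ι) (hinv : Inv U (𝟙 X)) :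
    ∃ (X' : Scheme.{u}) (g : X' ⟶ X), Models.IsContractionSeq g ∧ IsIso (g ∣_ U) ∧
      ∃ h : X' ⟶ Y, h ≫ p = g ∧ (g ⁻¹ᵁ U).ι ≫ h = (g ∣_ U) ≫ s := by
  obtain ⟨S, hS⟩ := exists_stage_good (p := p) hs
    (⟨X, ‹_›, 𝟙 X, Models.IsContractionSeq.iso (Iso.refl X), inferInstance, hinv⟩ : Stage X U)
  exact ⟨S.Z, S.g, S.seq, S.iso, exists_hom_of_ext hs S.inv fun z => by
    by_contra h
    exact (Set.eq_empty_iff_forall_notMem.1 hS z) h⟩

end Groth.Agent.H28Contr
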