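import Groth.Agent.H28Contr.CechOne
import Groth.Prelude.Def_Coh

/-!
# Pulling back cocycles of the structure sheaf
-/

set_option autoImplicit false
set_option linter.style.haveILetI false
set_option backward.isDefEq.respectTransparency.types false

universe u

open CategoryTheory CategoryTheory.Limits AlgebraicGeometry Opposite TopologicalSpace

namespace Groth.Agent.H28Contr

open H10Coh

attribute [local instance 10000] hasSheafifyAb hasWeakSheafifyAb hasExtAb enoughInjAb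

/-- The structure sheaf as a module. -/
noncomputable abbrev OO (X : Scheme.{u}) : X.Modules := Coh.structureModule X

variable {X Z : Scheme.{u}} (b : Z ⟶ X)

/-- Pullback of sections. -/
noncomputable def pb (V : X.Opens) : Γ(OO X, V) →+ Γ(OO Z, b ⁻¹ᵁ V) := (b.app V).hom.toAddMonoidHom

theorem pre {V W : X.Opens} (h : W ≤ V) : b ⁻¹ᵁ W ≤ b ⁻¹ᵁ V := fun _ hz => h hz

theorem pb_rs {V W : X.Opens} (h : W ≤ V) (x : Γ(OO X, V)) :
    rs (OO Z) (fun _ hz => h hz : b ⁻¹ᵁ W ≤ b ⁻¹ᵁ V) (pb b V x) = pb b W (rs (OO X) h x) :=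
  (ConcreteCategory.congr_hom (b.naturality (homOfLE h).op) x).symm

variable {κ : Type u} [Finite κ]

/-- A cocycle trivial over the members of a cover of the base is trivial. -/
theorem trivOn_top_of_local (hvan : Subsingleton (HnM (OO X) 1 (⊤ : X.Opens))) (V : κ → X.Opens)
    (hV : ⊤ ≤ iSup V) (hbij : ∀ k l, k ≠ l → ∀ W ≤ V k ⊓ V l, Function.Bijective (pb b W))
    {ι : Type u} {U : ι → Z.Opens} (hU : ⊤ ≤ iSup U) {c : ∀ i j, Γ(OO Z, U i ⊓ U j)}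
    (hloc : ∀ k, TrivOn (OO Z) U c (b ⁻¹ᵁ V k)) : TrivOn (OO Z) U c ⊤ := by
  classical
  choose a ha using hloc
  have hsub : ∀ (W : Z.Opens), W ≤ ⨆ i, U i ⊓ W := fun W x hx => by
    obtain ⟨i, hi⟩ := Opens.mem_iSup.1 (hU (trivial : x ∈ (⊤ : Z.Opens)))
    exact Opens.mem_iSup.2 ⟨i, hi, hx⟩
  have he : ∀ k l, ∃ e : Γ(OO X, V k ⊓ V l), (k = l → e = 0) ∧ ∀ i (W : Z.Opens) (h₁ : W ≤ U i ⊓ b ⁻¹ᵁ V k)
      (h₂ : W ≤ U i ⊓ b ⁻¹ᵁ V l) (h₃ : W ≤ b ⁻¹ᵁ (V k ⊓ V l)),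
        rs _ h₁ (a k i) - rs _ h₂ (a l i) = rs _ h₃ (pb b _ e) := by
    intro k l
    by_cases hkl : k = l
    · subst hkl
      exact ⟨0, fun _ => rfl, fun i W h₁ h₂ h₃ => by rw [map_zero, map_zero]; exact sub_self _⟩
    obtain ⟨e, he⟩ := exists_glue (OO Z) (fun i => U i ⊓ b ⁻¹ᵁ (V k ⊓ V l)) (b ⁻¹ᵁ (V k ⊓ V l)) (fun _ => inf_le_right)
      (hsub _)
      (fun i => rs _ (inf_le_inf le_rfl (pre b inf_le_left)) (a k i) - rs _ (inf_le_inf le_rfl (pre b inf_le_right)) (a l i))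
      fun i j => by
        simp only [map_sub, rs_rs]
        rw [sub_eq_sub_iff_sub_eq_sub,
          ha k i j _ _ _ (le_inf (inf_le_left.trans inf_le_left) (inf_le_right.trans inf_le_left)),
          ha l i j _ _ _ (le_inf (inf_le_left.trans inf_le_left) (inf_le_right.trans inf_le_left))]
    obtain ⟨e', he'⟩ := (hbij k l hkl _ le_rfl).2 e
    refine ⟨e', fun h => absurd h hkl, fun i W h₁ h₂ h₃ => ?_⟩
    have := congrArg (rs (OO Z) (le_inf (h₁.trans inf_le_left) h₃ : W ≤ U i ⊓ b ⁻¹ᵁ (V k ⊓ V l))) (he i)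
    simp only [map_sub, rs_rs] at this
    rw [he', ← this]
  choose e he0 he using he
  have hcoc : IsCocycle (OO X) V e := fun k l m W h₁ h₂ h₃ => by
    by_cases hkl : k = l
    · subst hkl
      rw [he0 k k rfl, map_zero, zero_add]
    refine (hbij k l hkl W h₁).1 ?_
    rw [map_add, ← pb_rs, ← pb_rs, ← pb_rs]
    refine eq_of_cover _ (fun i => U i ⊓ b ⁻¹ᵁ W) (fun _ => inf_le_right) (hsub _) fun i => ?_
    simp only [map_add, rs_rs]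
    rw [← he k l i _ (inf_le_inf le_rfl fun z hz => (h₁ hz).1) (inf_le_inf le_rfl fun z hz => (h₁ hz).2),
      ← he l m i _ (inf_le_inf le_rfl fun z hz => (h₂ hz).1) (inf_le_inf le_rfl fun z hz => (h₂ hz).2),
      ← he k m i _ (inf_le_inf le_rfl fun z hz => (h₃ hz).1) (inf_le_inf le_rfl fun z hz => (h₃ hz).2)]
    exact sub_add_sub_cancel _ _ _
  obtain ⟨f, hf⟩ := trivOn_of_vanish hcoc hV hvan
  have hA : ∀ i, ∃ A : Γ(OO Z, U i ⊓ ⊤), ∀ k (W : Z.Opens) (h₁ : W ≤ U i ⊓ ⊤) (h₂ : W ≤ U i ⊓ b ⁻¹ᵁ V k)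
      (h₃ : W ≤ b ⁻¹ᵁ (V k ⊓ ⊤)), rs _ h₁ A = rs _ h₂ (a k i) - rs _ h₃ (pb b _ (f k)) := by
    intro i
    obtain ⟨A, hA⟩ := exists_glue (OO Z) (fun k => U i ⊓ b ⁻¹ᵁ V k) (U i ⊓ ⊤) (fun k => inf_le_inf le_rfl le_top)
      (fun x hx => by
        obtain ⟨k, hk⟩ := Opens.mem_iSup.1 (hV (trivial : b x ∈ (⊤ : X.Opens)))
        exact Opens.mem_iSup.2 ⟨k, hx.1, hk⟩)
      (fun k => a k i - rs _ (inf_le_right.trans (pre b (le_inf le_rfl le_top))) (pb b _ (f k))) fun k l => by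
        simp only [map_sub, rs_rs]
        rw [sub_eq_sub_iff_sub_eq_sub, he k l i (U i ⊓ b ⁻¹ᵁ V k ⊓ (U i ⊓ b ⁻¹ᵁ V l)) _ _ (fun z hz => ⟨hz.1.2, hz.2.2⟩)]
        have := congrArg (pb b (V k ⊓ V l)) (hf k l (V k ⊓ V l) (le_inf inf_le_left le_top) (le_inf inf_le_right le_top) le_rfl)
        rw [rs_self, map_sub, ← pb_rs, ← pb_rs] at this
        rw [← this, map_sub, rs_rs, rs_rs]
    refine ⟨A, fun k W h₁ h₂ h₃ => ?_⟩
    have := congrArg (rs (OO Z) h₂) (hA k)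
    simp only [map_sub, rs_rs] at this
    exact this
  choose A hA using hA
  refine ⟨A, fun i j W h₁ h₂ h₃ => eq_of_cover _ (fun k => W ⊓ b ⁻¹ᵁ V k) (fun _ => inf_le_left)
    (fun x hx => by
      obtain ⟨k, hk⟩ := Opens.mem_iSup.1 (hV (trivial : b x ∈ (⊤ : X.Opens)))
      exact Opens.mem_iSup.2 ⟨k, hx, hk⟩) fun k => ?_⟩
  simp only [map_sub, rs_rs]
  rw [hA i k (W ⊓ b ⁻¹ᵁ V k) _ (fun z hz => ⟨(h₁ hz.1).1, hz.2⟩) (fun z hz => ⟨hz.2, trivial⟩),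
    hA j k (W ⊓ b ⁻¹ᵁ V k) _ (fun z hz => ⟨(h₂ hz.1).1, hz.2⟩) (fun z hz => ⟨hz.2, trivial⟩), sub_sub_sub_cancel_right]
  exact ha k i j _ _ _ _

/-- Cocycles descend along a morphism bijective on sections. -/
theorem trivOn_of_bijective (hvan : Subsingleton (HnM (OO Z) 1 (⊤ : Z.Opens)))
    (hbij : ∀ W, Function.Bijective (pb b W)) {U : κ → X.Opens} (hU : ⊤ ≤ iSup U)
    {c : ∀ i j, Γ(OO X, U i ⊓ U j)} (hc : IsCocycle (OO X) U c) : TrivOn (OO X) U c ⊤ := by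
  have hc' : IsCocycle (OO Z) (fun i => b ⁻¹ᵁ U i) fun i j => pb b (U i ⊓ U j) (c i j) := fun i j k W h₁ h₂ h₃ => by
    have h123 : W ≤ b ⁻¹ᵁ (U i ⊓ U j ⊓ U k) := fun z hz => ⟨⟨(h₁ hz).1, (h₁ hz).2⟩, (h₂ hz).2⟩
    have := congrArg (rs (OO Z) h123) (congrArg (pb b _) (hc i j k (U i ⊓ U j ⊓ U k) inf_le_left
      (le_inf (inf_le_left.trans inf_le_right) inf_le_right) (le_inf (inf_le_left.trans inf_le_left) inf_le_right)))
    rwa [map_add, map_add, ← pb_rs, ← pb_rs, ← pb_rs, rs_rs, rs_rs, rs_rs] at this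
  obtain ⟨a', ha'⟩ := trivOn_of_vanish hc' (fun z _ => by
    obtain ⟨i, hi⟩ := Opens.mem_iSup.1 (hU (trivial : b z ∈ (⊤ : X.Opens)))
    exact Opens.mem_iSup.2 ⟨i, hi⟩) hvan
  choose a ha using fun i => (hbij (U i ⊓ ⊤)).2 (a' i)
  refine ⟨a, fun i j W h₁ h₂ h₃ => (hbij W).1 ?_⟩
  rw [map_sub, ← pb_rs, ← pb_rs, ← pb_rs, ha, ha]
  exact ha' i j _ _ _ _

end Groth.Agent.H28Contr
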