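import Groth.Agent.H28Contr.Universal

/-!
# Charts of the blow-up near a closed point with regular two-dimensional local ring
-/

set_option autoImplicit false
set_option linter.style.haveILetI false
set_option backward.isDefEq.respectTransparency.types false

universe u

open CategoryTheory Limits AlgebraicGeometry TopologicalSpace

namespace Groth.Agent.H28Contr

open H26Blow

variable {X X' : Scheme.{u}} {b : X' ⟶ X}

/-- Near the point the blow-up is the blow-up of an affine scheme in an ideal generated by a regular pair. -/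
theorem exists_chart_nhd [IsLocallyNoetherian X] {y : X} (hy : IsClosed ({y} : Set X))
    (hreg : IsRegularLocalRing (X.presheaf.stalk y)) (hdim : ringKrullDim (X.presheaf.stalk y) = 2)
    (hb : BlowUp.IsBlowUp b (Scheme.IdealSheafData.vanishingIdeal ⟨{y}, hy⟩)) (O : X.Opens) (hyO : y ∈ O) :
    ∃ (A : CommRingCat.{u}) (e : Spec A ⟶ X) (_ : IsOpenImmersion e) (_ : IsNoetherianRing A)
      (m : PrimeSpectrum A) (_ : m.asIdeal.IsMaximal) (ga gb : m.asIdeal),
      m.asIdeal = Ideal.span {(ga : A), (gb : A)} ∧ RegPair (ga : A) gb ∧ e m = y ∧ Set.range e ⊆ O ∧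
      (Scheme.IdealSheafData.vanishingIdeal ⟨{y}, hy⟩).comap e = centre (A := A) m.asIdeal ∧
      ∃ k : Proj (gr (A := A) m.asIdeal) ⟶ X', IsOpenImmersion k ∧ k ≫ b = π (A := A) m.asIdeal ≫ e ∧
        Set.range k = b ⁻¹' Set.range e := by
  obtain ⟨U, hU, hyU, hUO⟩ := exists_isAffineOpen_mem_and_subset hyO
  haveI : IsNoetherianRing Γ(X, U) := IsLocallyNoetherian.component_noetherian ⟨U, hU⟩
  set P := hU.primeIdealOf ⟨y, hyU⟩ with hPdef
  haveI hPmax : P.asIdeal.IsMaximal := by
    rw [← PrimeSpectrum.isClosed_singleton_iff_isMaximal]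
    have hfy : hU.fromSpec P = y := hU.fromSpec_primeIdealOf ⟨y, hyU⟩
    have : ({P} : Set (PrimeSpectrum Γ(X, U))) = hU.fromSpec ⁻¹' {y} := by
      rw [← hfy]
      exact (Set.preimage_image_eq {P} hU.fromSpec.isOpenEmbedding.injective).symm.trans
        (congrArg _ Set.image_singleton)
    rw [this]
    exact hy.preimage hU.fromSpec.continuous
  letI : Algebra Γ(X, U) (X.presheaf.stalk y) :=
    TopCat.Presheaf.algebra_section_stalk X.presheaf (⟨y, hyU⟩ : U)
  haveI hloc : IsLocalization.AtPrime (X.presheaf.stalk y) P.asIdeal := hU.isLocalization_stalk ⟨y, hyU⟩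
  let el := (IsLocalization.algEquiv P.asIdeal.primeCompl (Localization.AtPrime P.asIdeal)
    (X.presheaf.stalk y)).toRingEquiv
  haveI := hreg
  have hreg' : IsRegularLocalRing (Localization.AtPrime P.asIdeal) := IsRegularLocalRing.of_ringEquiv el.symm
  obtain ⟨s, hs, hsL⟩ := exists_regPair P.asIdeal hreg' ((ringKrullDim_eq_of_ringEquiv el).trans hdim)
  let V : X.Opens := X.basicOpen s
  have hV : IsAffineOpen V := hU.basicOpen s
  have hVU : V ≤ U := X.basicOpen_le s
  have hyV : y ∈ V := by
    by_contra hne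
    refine hs ?_
    rw [X.mem_basicOpen s y hyU] at hne
    by_contra hs'
    exact hne (IsLocalization.map_units (X.presheaf.stalk y) (⟨s, hs'⟩ : P.asIdeal.primeCompl))
  haveI : IsLocalization.Away s Γ(X, V) := hU.isLocalization_basicOpen s
  let A : CommRingCat.{u} := Γ(X, V)
  obtain ⟨a₀, b₀, hspan, hpair, hmax⟩ := hsL A
  let m := hV.primeIdealOf ⟨y, hyV⟩
  have hfm : hV.fromSpec m = y := hV.fromSpec_primeIdealOf ⟨y, hyV⟩
  have hm : P.asIdeal.map (algebraMap Γ(X, U) A) = m.asIdeal := by
    refine hmax.eq_of_le m.2.ne_top (Ideal.map_le_iff_le_comap.2 fun z hz => ?_)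
    rw [Ideal.mem_comap]
    by_contra hzm
    have h2 : y ∈ X.basicOpen (algebraMap Γ(X, U) A z) := by
      have : m ∈ hV.fromSpec ⁻¹ᵁ X.basicOpen (algebraMap Γ(X, U) A z) := by
        rw [hV.fromSpec_preimage_basicOpen]; exact hzm
      rw [← hfm]; exact this
    have h3 : y ∈ X.basicOpen z := by
      rw [RingHom.algebraMap_toAlgebra] at h2
      exact (X.basicOpen_res z (homOfLE hVU).op ▸ h2).2
    have : hU.fromSpec P ∈ X.basicOpen z := by
      rw [hU.fromSpec_primeIdealOf ⟨y, hyU⟩]; exact h3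
    change P ∈ hU.fromSpec ⁻¹ᵁ X.basicOpen z at this
    rw [hU.fromSpec_preimage_basicOpen] at this
    exact this hz
  haveI : m.asIdeal.IsMaximal := hm ▸ hmax
  have hspan' : m.asIdeal = Ideal.span {a₀, b₀} := hm ▸ hspan
  let ga : m.asIdeal := ⟨a₀, hspan' ▸ Ideal.subset_span (Set.mem_insert _ _)⟩
  let gb : m.asIdeal := ⟨b₀, hspan' ▸ Ideal.subset_span (Set.mem_insert_of_mem _ rfl)⟩
  let J := Scheme.IdealSheafData.vanishingIdeal (⟨{y}, hy⟩ : TopologicalSpace.Closeds X)
  have hcentre : J.comap hV.fromSpec = centre (A := A) m.asIdeal := by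
    refine Scheme.IdealSheafData.ext_of_isAffine ?_
    rw [ideal_centre_top,
      H29Blow.ideal_comap J hV.fromSpec ⟨V, hV⟩ ⟨⊤, isAffineOpen_top _⟩ (by
        intro z _; show hV.fromSpec z ∈ (V : Set X)
        rw [← hV.range_fromSpec]; exact Set.mem_range_self z)]
    have hid : J.ideal ⟨V, hV⟩ = m.asIdeal := by
      rw [Scheme.IdealSheafData.vanishingIdeal_ideal]
      have : hV.fromSpec ⁻¹' ({y} : Set X) = {m} := by
        rw [← hfm]
        exact (congrArg _ Set.image_singleton.symm).trans
          (Set.preimage_image_eq {m} hV.fromSpec.isOpenEmbedding.injective)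
      exact (congrArg PrimeSpectrum.vanishingIdeal this).trans (PrimeSpectrum.vanishingIdeal_singleton m)
    rw [hid]
    congr 1
    congr 1
    simp [Scheme.Hom.appLE, IsAffineOpen.fromSpec_app_self, ← Functor.map_comp]
    rfl
  have hblow := Groth.Agent.S1680.result hV.fromSpec J b hb
  rw [hcentre] at hblow
  obtain ⟨e, he⟩ := exists_iso_of_isBlowUp (isBlowUp_π (A := A) m.asIdeal) hblow
  refine ⟨A, hV.fromSpec, inferInstance, IsLocallyNoetherian.component_noetherian ⟨V, hV⟩, m, inferInstance,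
    ga, gb, hspan', hpair, hfm, ?_, hcentre, e.hom ≫ pullback.snd hV.fromSpec b, inferInstance, ?_, ?_⟩
  · rw [hV.range_fromSpec]; exact hVU.trans hUO
  · simp only [Category.assoc, ← pullback.condition, reassoc_of% he]
  · have h1 : Set.range e.hom = Set.univ := Set.range_eq_univ.2 e.hom.homeomorph.surjective
    simp only [Scheme.Hom.comp_base, TopCat.coe_comp]
    rw [Set.range_comp, h1, Set.image_univ, Scheme.Pullback.range_snd]

end Groth.Agent.H28Contr
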