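import Groth.Agent.H28Contr.TwoCover
import Groth.Agent.H28Contr.Nhd
import Groth.Agent.H28Contr.CechPull
import Groth.Agent.H22Alg.PicLiftIso
import Groth.Agent.H17.PullSectLocal

/-!
# No first cohomology over the centre of a blow-up of a point
-/

set_option autoImplicit false
set_option linter.style.haveILetI false
set_option backward.isDefEq.respectTransparency.types false

universe u

open CategoryTheory CategoryTheory.Limits AlgebraicGeometry TopologicalSpace Opposite

namespace Groth.Agent.H28Contr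

open H26Blow

set_option maxHeartbeats 1600000 in
/-- The two charts of the blow-up in two elements split sections on the overlap. -/
theorem exists_charts_split {A : Type u} [CommRing A] (m : Ideal A) (a c : m)
    (hspan : m = Ideal.span {(a : A), (c : A)}) :
    ∃ U V : (Proj (gr m)).Opens, IsAffineOpen U ∧ IsAffineOpen V ∧ U ⊔ V = ⊤ ∧
      ∀ r : Γ(Proj (gr m), U ⊓ V), ∃ (u : Γ(Proj (gr m), U)) (v : Γ(Proj (gr m), V)),
        (Proj (gr m)).presheaf.map (homOfLE (inf_le_left : U ⊓ V ≤ U)).op u +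
          (Proj (gr m)).presheaf.map (homOfLE (inf_le_right : U ⊓ V ≤ V)).op v = r := by
  set P := Proj (gr m)
  let φ : A →+* Γ(P, ⊤) := (π m).appTop.hom.comp (Scheme.ΓSpecIso (CommRingCat.of A)).inv.hom
  let E : ∀ d : m, Γ(P, j m d ''ᵁ ⊤) ≅ CommRingCat.of (Alg m d) := fun d =>
    (j m d).appIso ⊤ ≪≫ Scheme.ΓSpecIso _
  have hE : ∀ d x, (E d).hom ((P.presheaf.map (homOfLE (le_top : j m d ''ᵁ ⊤ ≤ ⊤)).op) (φ x)) =
      algebraMap A (Alg m d) x := by
    intro d x
    have key : (π m).appTop ≫ P.presheaf.map (homOfLE (le_top : j m d ''ᵁ ⊤ ≤ ⊤)).op ≫ (E d).hom =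
        (Scheme.ΓSpecIso (CommRingCat.of A)).hom ≫ CommRingCat.ofHom (algebraMap A (Alg m d)) := by
      rw [← Scheme.ΓSpecIso_naturality, ← j_π m d]
      simp only [E, Iso.trans_hom, Scheme.Hom.appIso_hom']
      rw [← Category.assoc (P.presheaf.map _), Scheme.Hom.map_appLE, Scheme.Hom.comp_appTop, Category.assoc]
      simp [Scheme.Hom.appLE]
    have h := congr($key ((Scheme.ΓSpecIso (CommRingCat.of A)).inv x))
    rwa [CommRingCat.comp_apply, CommRingCat.comp_apply, CommRingCat.comp_apply,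
      Iso.inv_hom_id_apply] at h
  let tt : ∀ d d' : m, Γ(P, j m d ''ᵁ ⊤) := fun d d' => (E d).inv (frac _ d d')
  have hmul : ∀ d d' : m, tt d d' * P.presheaf.map (homOfLE (le_top : j m d ''ᵁ ⊤ ≤ ⊤)).op (φ d) =
      P.presheaf.map (homOfLE (le_top : j m d ''ᵁ ⊤ ≤ ⊤)).op (φ d') := fun d d' => by
    apply (ConcreteCategory.bijective_of_isIso (E d).hom).1
    rw [map_mul, hE, hE, Iso.inv_hom_id_apply, frac_spec]
  set U := j m a ''ᵁ ⊤ with hUdef
  set V := j m c ''ᵁ ⊤ with hVdef
  have hU : IsAffineOpen U := (isAffineOpen_top _).image_of_isOpenImmersion _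
  have hV : IsAffineOpen V := (isAffineOpen_top _).image_of_isOpenImmersion _
  have hrange : ∀ d w, w ∈ j m d ''ᵁ ⊤ ↔ w ∈ Proj.basicOpen (gr m) (T m d) := fun d w => by
    rw [← opensRange_j, ← Scheme.Hom.image_top_eq_opensRange]
  have ht : P.basicOpen (tt a c) = U ⊓ V := by
    have h1 : P.basicOpen (tt a c) = j m a ''ᵁ (PrimeSpectrum.basicOpen (frac _ a c)) := by
      simp only [tt, E, Iso.trans_inv]
      rw [ConcreteCategory.comp_apply]
      rw [← Scheme.image_basicOpen, basicOpen_eq_of_affine]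
    rw [h1]
    ext w
    constructor
    · rintro ⟨q, hq, rfl⟩
      exact ⟨⟨q, trivial, rfl⟩, (hrange c _).2 ((mem_basicOpen_j m a c q).2 hq)⟩
    · rintro ⟨⟨q, -, rfl⟩, h⟩
      exact ⟨q, (mem_basicOpen_j m a c q).1 ((hrange c _).1 h), rfl⟩
  refine ⟨U, V, hU, hV, eq_top_iff.2 fun w _ => ?_, fun r =>
    exists_add_res U V hU (tt a c) ht (tt c a) ?_ φ (fun r => ?_) r⟩
  · rcases mem_basicOpen_or m a c hspan w with h | h
    · exact Or.inl ((hrange a w).2 h)
    · exact Or.inr ((hrange c w).2 h)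
  · haveI := hU.isLocalization_basicOpen (tt a c)
    let ρU := (P.presheaf.map (homOfLE (inf_le_left : U ⊓ V ≤ U)).op).hom
    let ρV := (P.presheaf.map (homOfLE (inf_le_right : U ⊓ V ≤ V)).op).hom
    let g : Γ(P, U) := P.presheaf.map (homOfLE (le_top : U ≤ ⊤)).op (φ (a : A))
    have hg : g ∈ nonZeroDivisors Γ(P, U) := by
      rw [mem_nonZeroDivisors_iff_right]
      intro z hz
      apply (ConcreteCategory.bijective_of_isIso (E a).hom).1
      rw [map_zero]
      refine (mem_nonZeroDivisors_iff_right.1 (algebraMap_mem_nonZeroDivisors m a)) _ ?_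
      rw [← hE a (a : A), ← map_mul, hz, map_zero]
    have hane : ρU g ∈ nonZeroDivisors Γ(P, U ⊓ V) := by
      have h0 := IsLocalization.map_nonZeroDivisors_le (Submonoid.powers (tt a c))
        Γ(P, P.basicOpen (tt a c)) (Submonoid.mem_map_of_mem _ hg)
      let e := P.presheaf.map (homOfLE ht.le).op
      haveI : IsIso e := by
        have : homOfLE ht.le = eqToHom ht := rfl
        simp only [e, this]; infer_instance
      rw [mem_nonZeroDivisors_iff_right]
      intro z hz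
      apply (ConcreteCategory.bijective_of_isIso e).1
      rw [map_zero]
      refine (mem_nonZeroDivisors_iff_right.1 h0) _ ?_
      have he : ∀ x, algebraMap Γ(P, U) Γ(P, P.basicOpen (tt a c)) x = e (ρU x) := fun x => by
        simp only [ρU, e, ← CommRingCat.comp_apply, ← Functor.map_comp]
        rfl
      rw [he, ← map_mul, hz, map_zero]
    have e1 := congrArg ρU (hmul a c)
    have e2 := congrArg ρV (hmul c a)
    have hres : ∀ x, ρV (P.presheaf.map (homOfLE (le_top : V ≤ ⊤)).op (φ x)) =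
        ρU (P.presheaf.map (homOfLE (le_top : U ≤ ⊤)).op (φ x)) := fun x => by
      simp only [ρU, ρV, ← CommRingCat.comp_apply, ← Functor.map_comp]; rfl
    rw [map_mul] at e1 e2
    rw [hres, hres] at e2
    refine (mul_cancel_right_mem_nonZeroDivisors hane).1 ?_
    show ρU (tt a c) * ρV (tt c a) * _ = 1 * _
    rw [mul_right_comm, e1, mul_comm, e2, one_mul]
  · obtain ⟨p, hp⟩ := aeval_frac_surjective _ a c hspan ((E a).hom r)
    refine ⟨p, (ConcreteCategory.bijective_of_isIso (E a).hom).1 ?_⟩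
    rw [← hp, Polynomial.aeval_def]
    show (E a).hom.hom (Polynomial.eval₂ _ _ _) = _
    rw [Polynomial.hom_eval₂]
    congr 1
    · exact RingHom.ext (hE a)
    · exact Iso.inv_hom_id_apply (E a) _

open H10Coh

attribute [local instance 10000] hasSheafifyAb hasWeakSheafifyAb hasExtAb enoughInjAb

variable {P X : Scheme.{u}}

/-- A two-affine cover with splitting sections kills the first cohomology of the image. -/
theorem subsingleton_opensRange (k : P ⟶ X) [IsOpenImmersion k] (U V : P.Opens) (hU : IsAffineOpen U)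
    (hV : IsAffineOpen V) (hcov : U ⊔ V = ⊤)
    (hsplit : ∀ r : Γ(P, U ⊓ V), ∃ (u : Γ(P, U)) (v : Γ(P, V)),
      P.presheaf.map (homOfLE (inf_le_left : U ⊓ V ≤ U)).op u +
        P.presheaf.map (homOfLE (inf_le_right : U ⊓ V ≤ V)).op v = r) :
    Subsingleton (HnM (OO X) 1 k.opensRange) := by
  set U' := k ''ᵁ U
  set V' := k ''ᵁ V
  haveI : (OO X).IsQuasicoherent := isQuasicoherent_unit
  have h := subsingleton_sup_zero (MRes.inj (OO X)) U' V'
    (subsingleton_HnM_of_isAffineOpen (OO X) (hU.image_of_isOpenImmersion k) 0)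
    (subsingleton_HnM_of_isAffineOpen (OO X) (hV.image_of_isOpenImmersion k) 0) fun r => by
      rw [← k.preimage_image_eq U, ← k.preimage_image_eq V] at hsplit
      have hle : ∀ W : P.Opens, k ''ᵁ W ≤ k.opensRange := fun W => k.image_le_opensRange W
      obtain ⟨u, v, huv⟩ := hsplit (pb k (U' ⊓ V') r)
      obtain ⟨u', rfl⟩ := (H17.PullSect.bijective_app_of_le k (hle U)).2 u
      obtain ⟨v', rfl⟩ := (H17.PullSect.bijective_app_of_le k (hle V)).2 v
      refine ⟨u', v', (H17.PullSect.bijective_app_of_le k (inf_le_left.trans (hle U))).1 ?_⟩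
      show pb k (U' ⊓ V') (rs (OO X) _ u' + rs (OO X) _ v') = pb k (U' ⊓ V') r
      refine ((pb k (U' ⊓ V')).map_add _ _).trans ?_
      refine Eq.trans ?_ huv
      exact congrArg₂ (· + ·) (pb_rs k _ _).symm (pb_rs k _ _).symm
  have e : U' ⊔ V' = k.opensRange := by
    rw [← Scheme.Hom.image_top_eq_opensRange, ← hcov]
    ext w
    constructor
    · rintro (⟨z, hz, rfl⟩ | ⟨z, hz, rfl⟩)
      · exact ⟨z, Or.inl hz, rfl⟩
      · exact ⟨z, Or.inr hz, rfl⟩
    · rintro ⟨z, hz | hz, rfl⟩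
      · exact Or.inl ⟨z, hz, rfl⟩
      · exact Or.inr ⟨z, hz, rfl⟩
  rw [e] at h
  exact h

/-- Blowing up a closed regular point of dimension two keeps the first cohomology zero. -/
theorem subsingleton_HnM_blowUp {Z Z₁ : Scheme.{u}} [IsNoetherian Z] {b : Z₁ ⟶ Z} [IsProper b] {y : Z}
    (hy : IsClosed ({y} : Set Z)) (hreg : IsRegularLocalRing (Z.presheaf.stalk y))
    (hdim : ringKrullDim (Z.presheaf.stalk y) = 2)
    (hb : BlowUp.IsBlowUp b (Scheme.IdealSheafData.vanishingIdeal ⟨{y}, hy⟩))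
    (hvan : Subsingleton (HnM (OO Z) 1 (⊤ : Z.Opens))) :
    Subsingleton (HnM (OO Z₁) 1 (⊤ : Z₁.Opens)) := by
  have hiso : ∀ V : Z.Opens, y ∉ V → IsIso (b ∣_ V) := fun V hV => H29Blow.isIso_morphismRestrict hb V fun x hx hsupp => by
    rw [← SetLike.mem_coe, Scheme.IdealSheafData.coe_support_vanishingIdeal] at hsupp
    exact hV ((show x = y from hsupp) ▸ hx)
  let W₀ : Z.Opens := ⟨{y}ᶜ, hy.isOpen_compl⟩
  haveI := hiso W₀ (fun h => h rfl)
  obtain ⟨A, e, he, -, m, -, ga, gb, hspan, -, hem, -, -, k, hk', -, hrange⟩ :=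
    exists_chart_nhd hy hreg hdim hb ⊤ trivial
  haveI := he
  haveI := hk'
  obtain ⟨P₁, P₂, hP₁, hP₂, hPcov, hsplit⟩ := exists_charts_split m.asIdeal ga gb hspan
  have hV₀ : Subsingleton (HnM (OO Z₁) 1 (b ⁻¹ᵁ e.opensRange)) := by
    have : b ⁻¹ᵁ e.opensRange = k.opensRange := Opens.ext hrange.symm
    rw [this]
    exact subsingleton_opensRange k P₁ P₂ hP₁ hP₂ hPcov hsplit
  haveI : IsNoetherian Z₁ := by
    haveI := LocallyOfFiniteType.isLocallyNoetherian b
    haveI : CompactSpace Z₁ := QuasiCompact.compactSpace_of_compactSpace b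
    exact ⟨⟩
  obtain ⟨t, ht⟩ := CompactSpace.elim_nhds_subcover
    (fun z : Z₁ => (((exists_isAffineOpen_mem_and_subset (X := Z₁) (x := z) (U := ⊤) trivial).choose : Z₁.Opens) : Set Z₁))
    (fun z => (exists_isAffineOpen_mem_and_subset (X := Z₁) (x := z) (U := ⊤) trivial).choose.2.mem_nhds
      (exists_isAffineOpen_mem_and_subset (X := Z₁) (x := z) (U := ⊤) trivial).choose_spec.2.1)
  let U : ↥t → Z₁.Opens := fun z => (exists_isAffineOpen_mem_and_subset (X := Z₁) (x := z.1) (U := ⊤) trivial).choose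
  have hUaff : ∀ z, IsAffineOpen (U z) := fun z =>
    (exists_isAffineOpen_mem_and_subset (X := Z₁) (x := z.1) (U := ⊤) trivial).choose_spec.1
  have hU : ⊤ ≤ iSup U := fun x _ => by
    have hx : x ∈ (⊤ : Set Z₁) := trivial
    rw [← ht] at hx
    obtain ⟨z, hz, hxz⟩ := Set.mem_iUnion₂.1 hx
    exact Opens.mem_iSup.2 ⟨⟨z, hz⟩, hxz⟩
  haveI : (OO Z₁).IsQuasicoherent := isQuasicoherent_unit
  refine vanish_of_trivOn hU (fun z => subsingleton_HnM_of_isAffineOpen (OO Z₁) (hUaff z) 0) fun c hc => ?_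
  let V : Option ↥t → Z.Opens := fun o => o.elim e.opensRange fun z =>
    ⟨({y} ∪ b '' (U z : Set Z₁)ᶜ)ᶜ, (hy.union (b.isClosedMap _ (U z).2.isClosed_compl)).isOpen_compl⟩
  have hne : ∀ k l : Option ↥t, k ≠ l → ∀ W ≤ V k ⊓ V l, y ∉ W := by
    intro k l hkl W hW hyW
    have h := hW hyW
    rcases k with _ | z
    · rcases l with _ | z'
      · exact hkl rfl
      · exact h.2 (Or.inl rfl)
    · exact h.1 (Or.inl rfl)
  have hsurj : ∀ x : Z, x ≠ y → ∃ w, b w = x := fun x hx => by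
    obtain ⟨w, hw⟩ := (b ∣_ W₀).homeomorph.surjective ⟨x, hx⟩
    exact ⟨w.1, by simpa using congrArg Subtype.val hw⟩
  refine trivOn_top_of_local b hvan V (fun x _ => ?_) (fun k l hkl W hW => ?_) hU fun o => ?_
  · by_cases hxy : x = y
    · exact Opens.mem_iSup.2 ⟨none, ⟨m, hem.trans hxy.symm⟩⟩
    obtain ⟨w, hw⟩ := hsurj x hxy
    obtain ⟨z, hz⟩ := Opens.mem_iSup.1 (hU (trivial : w ∈ (⊤ : Z₁.Opens)))
    refine Opens.mem_iSup.2 ⟨some z, ?_⟩
    rintro (h | ⟨w', hw', hbw'⟩)
    · exact hxy h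
    · have hinj : Function.Injective (b ∣_ W₀) := (b ∣_ W₀).homeomorph.injective
      have := @hinj ⟨w', show b w' ∈ W₀ by rw [hbw']; exact hxy⟩ ⟨w, show b w ∈ W₀ by rw [hw]; exact hxy⟩
        (Subtype.ext (by simpa using hbw'.trans hw.symm))
      have hww : w' = w := congrArg Subtype.val this
      exact hw' (show w' ∈ (U z : Set Z₁) by rw [hww]; exact hz)
  · exact H22Alg.PicLiftIso.app_bijective b W (hiso W (hne k l hkl W hW)) le_rfl
  · rcases o with _ | z₀
    · exact trivOn_of_vanish hc (le_top.trans hU) hV₀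
    · have hle : b ⁻¹ᵁ V (some z₀) ≤ U z₀ := fun w hw => by
        by_contra h
        exact hw (Or.inr ⟨w, h, rfl⟩)
      refine ⟨fun i => rs _ (le_inf inf_le_left (inf_le_right.trans hle)) (c i z₀), fun i j W h₁ h₂ h₃ => ?_⟩
      rw [rs_rs, rs_rs, sub_eq_iff_eq_add]
      exact (hc i j z₀ W h₃ _ _).symm

end Groth.Agent.H28Contr
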