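import Groth.Agent.H28Contr.Dominate
import Groth.Agent.H28Contr.BlowH1
import Groth.Agent.H28Pinch.ContractionUnique

/-!
# Regular surfaces have rational singularities
-/

set_option autoImplicit false
set_option linter.style.haveILetI false
set_option backward.isDefEq.respectTransparency.types false

universe u

open CategoryTheory CategoryTheory.Limits AlgebraicGeometry TopologicalSpace

namespace Groth.Agent.H28Contr

open H10Coh

attribute [local instance 10000] hasSheafifyAb hasWeakSheafifyAb hasExtAb enoughInjAb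

theorem isProper_and_isNoetherian_of_seq {Y X : Scheme.{u}} {g : Y ⟶ X} (h : Models.IsContractionSeq g) :
    IsNoetherian X → IsProper g := by
  induction h with
  | iso e => exact fun _ => inferInstance
  | step ι b r hι hE hb hr ih =>
    intro hX
    haveI := ih hX
    haveI := hb.2.1
    infer_instance

theorem subsingleton_HnM_of_seq {Y X : Scheme.{u}} {g : Y ⟶ X} (h : Models.IsContractionSeq g) :
    IsNoetherian X → Subsingleton (HnM (OO X) 1 (⊤ : X.Opens)) →
      Subsingleton (HnM (OO Y) 1 (⊤ : Y.Opens)) := by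
  induction h with
  | @iso Y' X' e =>
    intro hX hv
    haveI : CompactSpace Y' := e.hom.homeomorph.symm.compactSpace
    obtain ⟨t, ht⟩ := CompactSpace.elim_nhds_subcover
      (fun z : Y' => (((exists_isAffineOpen_mem_and_subset (X := Y') (x := z) (U := ⊤) trivial).choose : Y'.Opens) : Set Y'))
      (fun z => (exists_isAffineOpen_mem_and_subset (X := Y') (x := z) (U := ⊤) trivial).choose.2.mem_nhds
        (exists_isAffineOpen_mem_and_subset (X := Y') (x := z) (U := ⊤) trivial).choose_spec.2.1)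
    let U : ↥t → Y'.Opens := fun z => (exists_isAffineOpen_mem_and_subset (X := Y') (x := z.1) (U := ⊤) trivial).choose
    have hU : ⊤ ≤ iSup U := fun x _ => by
      have hx : x ∈ (⊤ : Set Y') := trivial
      rw [← ht] at hx
      obtain ⟨z, hz, hxz⟩ := Set.mem_iUnion₂.1 hx
      exact Opens.mem_iSup.2 ⟨⟨z, hz⟩, hxz⟩
    haveI : (OO Y').IsQuasicoherent := isQuasicoherent_unit
    refine vanish_of_trivOn hU (fun z => subsingleton_HnM_of_isAffineOpen (OO Y')
      (exists_isAffineOpen_mem_and_subset (X := Y') (x := z.1) (U := ⊤) trivial).choose_spec.1 0) fun c hc =>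
      trivOn_of_bijective e.inv hv (fun W => ConcreteCategory.bijective_of_isIso (e.inv.app W)) hU hc
  | step ι b r hι hE hb hr ih =>
    intro hX hv
    obtain ⟨hN, hp, y, hy, -, hreg, hdim, hblow⟩ := hb
    haveI := hN
    haveI := hp
    exact subsingleton_HnM_blowUp hy hreg hdim hblow (ih hX hv)

/-- A scheme with domain stalks, all generising into a dense irreducible open, is integral. -/
theorem Inv.isIntegral {Z X : Scheme.{u}} {U : X.Opens} {g : Z ⟶ X} (hg : Inv U g) [IsIntegral X]
    (hU : (U : Set X).Nonempty) [IsIso (g ∣_ U)] : IsIntegral Z := by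
  haveI : Nonempty U.toScheme := ⟨⟨hU.choose, hU.choose_spec⟩⟩
  haveI : IsIntegral U.toScheme := isIntegral_of_isOpenImmersion U.ι
  haveI : Nonempty (g ⁻¹ᵁ U).toScheme := ⟨(g ∣_ U).homeomorph.symm ⟨hU.choose, hU.choose_spec⟩⟩
  haveI : IsIntegral (g ⁻¹ᵁ U).toScheme := isIntegral_of_isOpenImmersion (g ∣_ U)
  have hdom : ∀ z : Z, IsDomain (Z.presheaf.stalk z) := fun z => by
    by_cases hz : g z ∈ U
    · exact ((g ⁻¹ᵁ U).stalkIso ⟨z, hz⟩).symm.commRingCatIsoToRingEquiv.toMulEquiv.isDomain _
    · exact hg.isDomain hz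
  haveI : ∀ z : Z, _root_.IsReduced (Z.presheaf.stalk z) := fun z => by haveI := hdom z; infer_instance
  haveI : IsReduced Z := isReduced_of_isReduced_stalk Z
  set η := (g ⁻¹ᵁ U).ι (genericPoint (g ⁻¹ᵁ U).toScheme)
  have hspec0 : ∀ w : (g ⁻¹ᵁ U).toScheme, genericPoint (g ⁻¹ᵁ U).toScheme ⤳ w := fun w => genericPoint_specializes w
  have hspec : ∀ z : Z, η ⤳ z := fun z => by
    by_cases hz : g z ∈ U
    · exact (hspec0 ⟨z, hz⟩).map (g ⁻¹ᵁ U).ι.continuous
    · haveI := hdom z
      let P : PrimeSpectrum (Z.presheaf.stalk z) := ⟨⊥, Ideal.isPrime_bot⟩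
      have h1 := hg.gen z hz P rfl
      have h2 : Z.fromSpecStalk z P ⤳ z := by
        have : Z.fromSpecStalk z P ∈ Set.range (Z.fromSpecStalk z) := Set.mem_range_self P
        rwa [Scheme.range_fromSpecStalk] at this
      exact ((hspec0 ⟨_, h1⟩).map (g ⁻¹ᵁ U).ι.continuous).trans h2
  haveI : IrreducibleSpace Z := by
    have h : closure {η} = (Set.univ : Set Z) :=
      Set.eq_univ_of_forall fun z => specializes_iff_mem_closure.1 (hspec z)
    haveI : Nonempty Z := ⟨η⟩
    exact { toPreirreducibleSpace := ⟨h ▸ isIrreducible_singleton.closure.2⟩, toNonempty := ‹_› }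
  exact isIntegral_of_irreducibleSpace_of_isReduced Z

/-- A proper birational modification of a regular affine surface germ has no first cohomology. -/
theorem subsingleton_HH_modification (A : Type u) [CommRing A] [IsRegularLocalRing A] (hdim : ringKrullDim A = 2)
    (X : Scheme.{u}) (f : X ⟶ Spec (CommRingCat.of A)) [IsProper f] [IsIntegral X] (hX : Pi1.IsNormalScheme X)
    (U : (Spec (CommRingCat.of A)).Opens) (hU : (U : Set (Spec (CommRingCat.of A))).Nonempty) [IsIso (f ∣_ U)] :
    Subsingleton (Coh.HH X (Coh.structureModule X) 1) := by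
  haveI := H4Depth.isDomain_of_isRegularLocalRing A
  haveI : IsNoetherianRing (CommRingCat.of A) := inferInstanceAs (IsNoetherianRing A)
  haveI : IsNoetherian (Spec (CommRingCat.of A)) := inferInstanceAs (IsNoetherian (Spec (CommRingCat.of A)))
  haveI : IsIntegral (Spec (CommRingCat.of A)) := inferInstanceAs (IsIntegral (Spec (CommRingCat.of A)))
  have hinv : Inv U (𝟙 (Spec (CommRingCat.of A))) := by
    refine ⟨fun z _ => ?_, fun z _ => ?_, fun z _ P hP => ?_⟩
    · haveI := H05EGA4.isRegularLocalRing_localization A z.asIdeal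
      exact IsRegularLocalRing.of_ringEquiv ((Spec.stalkIso (CommRingCat.of A) z).commRingCatIsoToRingEquiv).symm
    · refine (ringKrullDim_stalk_le_top z).trans ?_
      rw [show topologicalKrullDim (Spec (CommRingCat.of A)) = ringKrullDim A from PrimeSpectrum.topologicalKrullDim_eq_ringKrullDim A, hdim]
    · show (Spec (CommRingCat.of A)).fromSpecStalk z P ∈ U
      obtain ⟨Q, hQ⟩ : genericPoint (Spec (CommRingCat.of A)) ∈ Set.range ((Spec (CommRingCat.of A)).fromSpecStalk z) := by
        rw [Scheme.range_fromSpecStalk]; exact genericPoint_specializes z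
      refine (((PrimeSpectrum.le_iff_specializes P Q).1 ?_).map ((Spec (CommRingCat.of A)).fromSpecStalk z).continuous).mem_open U.2 ?_
      · show P.asIdeal ≤ Q.asIdeal
        rw [hP]; exact bot_le
      · rw [hQ]
        exact (genericPoint_specializes hU.choose).mem_open U.2 hU.choose_spec
  let s : (U : Scheme.{u}) ⟶ X := inv (f ∣_ U) ≫ (f ⁻¹ᵁ U).ι
  have hs : s ≫ f = U.ι := by rw [Category.assoc, ← morphismRestrict_ι, IsIso.inv_hom_id_assoc]
  obtain ⟨T, hT⟩ := exists_stage_good (p := f) hs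
    (⟨(Spec (CommRingCat.of A)), inferInstance, 𝟙 (Spec (CommRingCat.of A)), Models.IsContractionSeq.iso (Iso.refl (Spec (CommRingCat.of A))), inferInstance, hinv⟩ : Stage (Spec (CommRingCat.of A)) U)
  obtain ⟨h, hh, hhU⟩ := exists_hom_of_ext hs T.inv fun z => by
    by_contra hz; exact (Set.eq_empty_iff_forall_notMem.1 hT z) hz
  haveI := T.iso
  haveI : IsIntegral T.Z := T.inv.isIntegral hU
  haveI : IsProper T.g := isProper_and_isNoetherian_of_seq T.seq inferInstance
  haveI : IsProper (h ≫ f) := by rw [hh]; infer_instance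
  haveI : IsProper h := IsProper.of_comp h f
  haveI : IsOpenImmersion s := inferInstanceAs (IsOpenImmersion (inv (f ∣_ U) ≫ (f ⁻¹ᵁ U).ι))
  haveI hop : IsOpenImmersion ((T.g ⁻¹ᵁ U).ι ≫ h) := by rw [hhU]; infer_instance
  haveI : Nonempty (T.g ⁻¹ᵁ U).toScheme :=
    ⟨(T.g ∣_ U).homeomorph.symm ⟨hU.choose, hU.choose_spec⟩⟩
  haveI : IsIntegral (T.g ⁻¹ᵁ U).toScheme := isIntegral_of_isOpenImmersion (T.g ⁻¹ᵁ U).ι
  have e1 := genericPoint_eq_of_isOpenImmersion (T.g ⁻¹ᵁ U).ι
  have e2 := genericPoint_eq_of_isOpenImmersion ((T.g ⁻¹ᵁ U).ι ≫ h)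
  have hξ : h (genericPoint T.Z) = genericPoint X := by
    rw [← e1, ← e2]; rfl
  have hbir : Function.Bijective (h.stalkMap (genericPoint T.Z)) := by
    rw [← e1]
    have : IsIso (h.stalkMap ((T.g ⁻¹ᵁ U).ι (genericPoint (T.g ⁻¹ᵁ U).toScheme))) := by
      have := (inferInstance : IsIso (((T.g ⁻¹ᵁ U).ι ≫ h).stalkMap (genericPoint (T.g ⁻¹ᵁ U).toScheme)))
      rw [Scheme.Hom.stalkMap_comp] at this
      exact @IsIso.of_isIso_comp_right _ _ _ _ _ _ ((T.g ⁻¹ᵁ U).ι.stalkMap (genericPoint (T.g ⁻¹ᵁ U).toScheme)) inferInstance this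
    exact ConcreteCategory.bijective_of_isIso _
  haveI : (OO (Spec (CommRingCat.of A))).IsQuasicoherent := isQuasicoherent_unit
  have hvan := subsingleton_HnM_of_seq T.seq inferInstance
    (subsingleton_HnM_of_isAffineOpen (OO (Spec (CommRingCat.of A))) (isAffineOpen_top (Spec (CommRingCat.of A))) 0)
  haveI : CompactSpace X := QuasiCompact.compactSpace_of_compactSpace f
  obtain ⟨t, ht⟩ := CompactSpace.elim_nhds_subcover
    (fun z : X => (((exists_isAffineOpen_mem_and_subset (X := X) (x := z) (U := ⊤) trivial).choose : X.Opens) : Set X))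
    (fun z => (exists_isAffineOpen_mem_and_subset (X := X) (x := z) (U := ⊤) trivial).choose.2.mem_nhds
      (exists_isAffineOpen_mem_and_subset (X := X) (x := z) (U := ⊤) trivial).choose_spec.2.1)
  let W : ↥t → X.Opens := fun z => (exists_isAffineOpen_mem_and_subset (X := X) (x := z.1) (U := ⊤) trivial).choose
  have hW : ⊤ ≤ iSup W := fun x _ => by
    have hx : x ∈ (⊤ : Set X) := trivial
    rw [← ht] at hx
    obtain ⟨z, hz, hxz⟩ := Set.mem_iUnion₂.1 hx
    exact Opens.mem_iSup.2 ⟨⟨z, hz⟩, hxz⟩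
  haveI : (OO X).IsQuasicoherent := isQuasicoherent_unit
  haveI : Subsingleton (HnM (OO X) 1 (⊤ : X.Opens)) := vanish_of_trivOn hW
    (fun z => subsingleton_HnM_of_isAffineOpen (OO X)
      (exists_isAffineOpen_mem_and_subset (X := X) (x := z.1) (U := ⊤) trivial).choose_spec.1 0)
    fun c hc => trivOn_of_bijective h hvan (H28Pinch.bijective_app_of_birational h hX hξ hbir) hW hc
  exact (HHEquiv (OO X) 1).toEquiv.subsingleton

end Groth.Agent.H28Contr
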