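import Groth.Agent.H28Contr.Nhd
import Groth.Agent.H28Contr.ExcDivisor

/-!
# Blowing up a closed point with regular two-dimensional local ring contracts an exceptional curve
-/

set_option autoImplicit false
set_option linter.style.haveILetI false
set_option backward.isDefEq.respectTransparency.types false

universe u

open CategoryTheory CategoryTheory.Limits AlgebraicGeometry Opposite TopologicalSpace Polynomial
open Groth.Agent.H11Ample Groth.Agent.H11Tilde

namespace Groth.Agent.H28Contr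

variable {X X' : Scheme.{u}}

/-- The functions of the base on an open of the chart region. -/
noncomputable def cst {A : Type u} [CommRing A] {W : X'.Opens} (θ : A →+* Γ(X', W)) {V : X'.Opens} (h : V ≤ W) :
    A →+* Γ(X', V) :=
  (X'.presheaf.map (homOfLE h).op).hom.comp θ

/-- The two charts of the exceptional divisor as affine opens, over an affine neighbourhood of the centre. -/
structure CoordOn (E : X'.IdealSheafData) (A : Type u) [CommRing A] (m : Ideal A) where
  W : X'.Opens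
  θ : A →+* Γ(X', W)
  supp : ∀ x ∈ E.support, x ∈ W
  U : Fin 2 → X'.Opens
  le : ∀ i, U i ≤ W
  aff : ∀ i, IsAffineOpen (U i)
  cov : ∀ x ∈ W, ∃ i, x ∈ U i
  g : Fin 2 → A
  g_mem : ∀ i, g i ∈ m
  t : ∀ i, Γ(X', U i)
  rel : ∀ i, t i * cst θ (le i) (g i) = cst θ (le i) (g (i + 1))
  inter : ∀ i, X'.basicOpen (t i) = U i ⊓ U (i + 1)
  reg : ∀ i, cst θ (le i) (g i) ∈ nonZeroDivisors Γ(X', U i)
  ideal_eq : ∀ i, E.ideal ⟨U i, aff i⟩ = Ideal.span {cst θ (le i) (g i)}
  mem_ideal : ∀ i, ∀ z ∈ m, cst θ (le i) z ∈ E.ideal ⟨U i, aff i⟩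
  surj : ∀ i, Function.Surjective (Polynomial.eval₂RingHom (cst θ (le i)) (t i))
  inj : ∀ i p, Polynomial.eval₂RingHom (cst θ (le i)) (t i) p ∈ Ideal.span {cst θ (le i) (g i)} →
    p.map (Ideal.Quotient.mk m) = 0

theorem mem_nonZeroDivisors_of_iso {P Q : CommRingCat.{u}} (e : P ≅ Q) (x : P)
    (hx : e.hom x ∈ nonZeroDivisors Q) : x ∈ nonZeroDivisors P := by
  refine mem_nonZeroDivisors_iff_right.2 fun z hz => (ConcreteCategory.bijective_of_isIso e.hom).1 ?_
  rw [map_zero]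
  exact mem_nonZeroDivisors_iff_right.1 hx _ (by rw [← map_mul, hz, map_zero])

theorem eq_span_of_iso {P Q : CommRingCat.{u}} (e : P ≅ Q) (I : Ideal P) (x : P) (q : Q)
    (hI : ∀ z, z ∈ I ↔ e.hom z ∈ Ideal.span {q}) (hx : e.hom x = q) : I = Ideal.span {x} := by
  ext z
  rw [hI, Ideal.mem_span_singleton', Ideal.mem_span_singleton']
  constructor
  · rintro ⟨r, hr⟩
    exact ⟨e.inv r, (ConcreteCategory.bijective_of_isIso e.hom).1 (by rw [map_mul, Iso.inv_hom_id_apply, hx, hr])⟩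
  · rintro ⟨r, hr⟩
    exact ⟨e.hom r, by rw [← hr, map_mul, hx]⟩

theorem mem_ideal_image {C : CommRingCat.{u}} (c : Spec C ⟶ X') [IsOpenImmersion c] (I : X'.IdealSheafData)
    (K : Ideal C) (h : (I.comap c).ideal ⟨⊤, isAffineOpen_top _⟩ = K.map (Scheme.ΓSpecIso C).inv.hom)
    (z : Γ(X', c ''ᵁ ⊤)) :
    z ∈ I.ideal ⟨c ''ᵁ ⊤, (isAffineOpen_top _).image_of_isOpenImmersion _⟩ ↔
      ((c.appIso ⊤) ≪≫ Scheme.ΓSpecIso C).hom z ∈ K := by
  rw [H29Blow.ideal_comap I c ⟨c ''ᵁ ⊤, (isAffineOpen_top _).image_of_isOpenImmersion _⟩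
    ⟨⊤, isAffineOpen_top _⟩ (by rw [Scheme.Hom.preimage_image_eq]), ← Scheme.Hom.appIso_hom'] at h
  let eA := ((c.appIso ⊤) ≪≫ Scheme.ΓSpecIso C).commRingCatIsoToRingEquiv
  have h2 := congrArg (Ideal.map (Scheme.ΓSpecIso C).hom.hom) h
  rw [Ideal.map_map, Ideal.map_map, ← CommRingCat.hom_comp, ← CommRingCat.hom_comp, Iso.inv_hom_id,
    CommRingCat.hom_id, Ideal.map_id] at h2
  conv_rhs => rw [← h2]
  constructor
  · exact fun hz => Ideal.mem_map_of_mem _ hz
  · intro hz
    obtain ⟨x, hx, hxz⟩ := (Ideal.mem_map_iff_of_surjective _ eA.surjective).1 hz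
    exact (eA.injective hxz) ▸ hx

section Exc

variable {E : X'.IdealSheafData} {A : Type u} [CommRing A] {m : Ideal A}

theorem CoordOn.exists_sec (C : CoordOn E A m) {z : A} (hz : z ∈ m) :
    ∃ v : Γ(ClSub.idealMod E, C.W), OmegaSh.idealSect E C.W v = C.θ z := by
  refine H29Blow.exists_kernelι_app_eq (ClSub.toSubscheme E) C.W _ ?_
  show E.subschemeι.app C.W (C.θ z) = 0
  refine TopCat.Sheaf.eq_of_locally_eq' E.subscheme.sheaf (fun i => E.subschemeι ⁻¹ᵁ C.U i) _
    (fun i => homOfLE (Scheme.Hom.preimage_mono _ (C.le i))) (fun x hx => ?_) _ _ fun i => ?_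
  · exact Opens.mem_iSup.2 (C.cov _ hx)
  · show E.subscheme.presheaf.map _ (E.subschemeι.app C.W (C.θ z)) = E.subscheme.presheaf.map _ 0
    rw [map_zero]
    have h1 := C.mem_ideal i z hz
    rw [← E.ker_subschemeι_app ⟨C.U i, C.aff i⟩, RingHom.mem_ker] at h1
    rw [← h1]
    exact congr($((Scheme.Hom.naturality E.subschemeι (homOfLE (C.le i)).op).symm) (C.θ z))

/-- The exceptional divisor is an exceptional curve of the first kind. -/
theorem CoordOn.isExcCurve [m.IsMaximal] (C : CoordOn E A m) (hE : BlowUp.IsEffCartierIdeal E) :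
    Models.IsExcCurve E.subschemeι := by
  classical
  letI : Field (A ⧸ m) := Ideal.Quotient.field m
  set ι := E.subschemeι with hι
  have hW : (⊤ : E.subscheme.Opens) ≤ ι ⁻¹ᵁ C.W := fun x _ =>
    C.supp _ (by rw [← SetLike.mem_coe, ← E.range_subschemeι]; exact ⟨x, rfl⟩)
  choose v hv using fun i => C.exists_sec (C.g_mem i)
  have hvi : ∀ i j, OmegaSh.idealSect E (C.U i)
      ((ClSub.idealMod E).presheaf.map (homOfLE (C.le i)).op (v j)) = cst C.θ (C.le i) (C.g j) :=
    fun i j => by rw [H29Blow.idealSect_res, hv]; rfl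
  have hgen : ∀ i, IsGen (ClSub.idealMod E) ((ClSub.idealMod E).presheaf.map (homOfLE (C.le i)).op (v i)) :=
    fun i => isGen_idealSect _ hE (C.aff i) (C.reg i) (C.ideal_eq i) _ (hvi i i)
  have hrat : ∀ i, (ClSub.idealMod E).presheaf.map (homOfLE (C.le i)).op (v (i + 1)) =
      C.t i • (ClSub.idealMod E).presheaf.map (homOfLE (C.le i)).op (v i) := fun i =>
    H29Blow.idealSect_injective _ _ (by rw [H29Blow.idealSect_smul, hvi, hvi, C.rel])
  let L := (Scheme.Modules.pullback ι).obj (ClSub.idealMod E)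
  have hL : PicF.IsInvertible L :=
    PicLoc.isInvertible_pullback ι (H29Blow.isInvertible_of_isEffCartierIdeal E hE)
  let w : Fin 2 → Γ(L, ⊤) := fun i => L.presheaf.map (homOfLE hW).op (OmegaSh.pullSect ι _ C.W (v i))
  have hres : ∀ i j, L.presheaf.map (homOfLE (le_top : ι ⁻¹ᵁ C.U i ≤ ⊤)).op (w j) = OmegaSh.pullSect ι _ (C.U i)
      ((ClSub.idealMod E).presheaf.map (homOfLE (C.le i)).op (v j)) := fun i j => by
    rw [H10Coh.mres_mres]
    exact (pullSect_res ι (ClSub.idealMod E) (C.le i) (v j)).symm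
  have hgenw : ∀ i, IsGen L (L.presheaf.map (homOfLE (le_top : ι ⁻¹ᵁ C.U i ≤ ⊤)).op (w i)) := fun i => by
    rw [hres]; exact IsGen.pullSect ι (hgen i)
  have hcoef : ∀ i, L.presheaf.map (homOfLE (le_top : ι ⁻¹ᵁ C.U i ≤ ⊤)).op (w (i + 1)) =
      ι.app (C.U i) (C.t i) • L.presheaf.map (homOfLE (le_top : ι ⁻¹ᵁ C.U i ≤ ⊤)).op (w i) := fun i => by
    rw [hres, hres, hrat, OmegaSh.pullSect_smul]
  have hgw : ∀ i, gen L (w i) = ι ⁻¹ᵁ C.U i := fun i => by
    refine le_antisymm (fun x hx => ?_) (fun x hx => mem_gen_of_isGen (hgenw i) hx)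
    obtain ⟨j, hj⟩ := C.cov _ (hW (show x ∈ (⊤ : E.subscheme.Opens) from trivial))
    by_cases hij : j = i
    · exact hij ▸ hj
    have hji : j + 1 = i := by fin_cases i <;> fin_cases j <;> first | rfl | exact absurd rfl hij
    subst hji
    have h := gen_inf_eq_basicOpen (hgenw j) (w (j + 1)) _ (hcoef j)
    have hx' : x ∈ gen L (w (j + 1)) ⊓ ι ⁻¹ᵁ C.U j := ⟨hx, hj⟩
    rw [h, ← Scheme.preimage_basicOpen, C.inter] at hx'
    exact hx'.2
  let θE : A →+* Γ(E.subscheme, ⊤) := (E.subscheme.presheaf.map (homOfLE hW).op).hom.comp ((ι.app C.W).hom.comp C.θ)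
  have hθE : ∀ g ∈ m, θE g = 0 := fun g hg => by
    obtain ⟨u, hu⟩ := C.exists_sec hg
    have h0 : ι.app C.W (C.θ g) = 0 := by
      rw [← hu]
      show (ClSub.idealModι E ≫ ClSub.toSubscheme E).app C.W u = 0
      rw [show ClSub.idealModι E ≫ ClSub.toSubscheme E = 0 from kernel.condition _]; rfl
    show E.subscheme.presheaf.map _ (ι.app C.W (C.θ g)) = 0
    rw [h0, map_zero]
  let θ' : A ⧸ m →+* Γ(E.subscheme, ⊤) := Ideal.Quotient.lift m θE hθE
  let q : E.subscheme ⟶ Spec (CommRingCat.of (A ⧸ m)) :=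
    E.subscheme.toSpecΓ ≫ Spec.map (CommRingCat.ofHom θ')
  have hθq : ∀ x, ProjUP.toGlobal q x = θ' x := by
    intro x
    show q.appTop ((Scheme.ΓSpecIso _).inv x) = θ' x
    simp only [q, Scheme.Hom.comp_appTop, CommRingCat.comp_apply]
    rw [Scheme.toSpecΓ_appTop, ← CommRingCat.comp_apply (Spec.map _).appTop, Scheme.ΓSpecIso_naturality]
    rw [CommRingCat.comp_apply, Iso.inv_hom_id_apply]
    rfl
  have hcst : ∀ i x, consts q (ι ⁻¹ᵁ C.U i) (Ideal.Quotient.mk m x) = ι.app (C.U i) (cst C.θ (C.le i) x) := by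
    intro i x
    show E.subscheme.presheaf.map _ (ProjUP.toGlobal q (Ideal.Quotient.mk m x)) = _
    rw [hθq]
    show E.subscheme.presheaf.map (homOfLE (le_top : ι ⁻¹ᵁ C.U i ≤ ⊤)).op
      (E.subscheme.presheaf.map (homOfLE hW).op (ι.app C.W (C.θ x))) = _
    rw [H10Coh.rres_rres]
    exact congr($((Scheme.Hom.naturality ι (homOfLE (C.le i)).op).symm) (C.θ x))
  have key : ∀ i (U : E.subscheme.Opens) (_ : U = ι ⁻¹ᵁ C.U i), IsAffineOpen U ∧ ∃ c : Γ(E.subscheme, U),
      L.presheaf.map (homOfLE (le_top : U ≤ ⊤)).op (w (i + 1)) =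
        c • L.presheaf.map (homOfLE (le_top : U ≤ ⊤)).op (w i) ∧
      Function.Bijective (Polynomial.eval₂RingHom (consts q U) c) := by
    rintro i _ rfl
    refine ⟨(C.aff i).preimage ι, ι.app (C.U i) (C.t i), hcoef i, ?_⟩
    have hev : ∀ p : A[X], Polynomial.eval₂RingHom (consts q (ι ⁻¹ᵁ C.U i)) (ι.app (C.U i) (C.t i))
        (p.map (Ideal.Quotient.mk m)) = ι.app (C.U i) (Polynomial.eval₂RingHom (cst C.θ (C.le i)) (C.t i) p) := by
      intro p
      rw [Polynomial.coe_eval₂RingHom, Polynomial.coe_eval₂RingHom, Polynomial.hom_eval₂, Polynomial.eval₂_map]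
      congr 1
      exact RingHom.ext (hcst i)
    constructor
    · refine (injective_iff_map_eq_zero _).2 fun p hp => ?_
      obtain ⟨p, rfl⟩ := Polynomial.map_surjective (Ideal.Quotient.mk m) Ideal.Quotient.mk_surjective p
      refine C.inj i p ?_
      rw [← C.ideal_eq i, ← E.ker_subschemeι_app ⟨C.U i, C.aff i⟩, RingHom.mem_ker]
      exact (hev p).symm.trans hp
    · intro z
      obtain ⟨z, rfl⟩ := ι.app_surjective _ (C.aff i) z
      obtain ⟨p, rfl⟩ := C.surj i z
      exact ⟨p.map (Ideal.Quotient.mk m), hev p⟩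
  choose haff c hc hs using fun i => key i _ (hgw i)
  obtain ⟨r, hr, -, ⟨τ⟩⟩ := exists_iso_P1 q hL w
    (fun x => (C.cov _ (hW (show x ∈ (⊤ : E.subscheme.Opens) from trivial))).imp fun i hi => (hgw i).ge hi) haff c hc hs
  haveI := hr
  refine ⟨by rw [hι, Scheme.IdealSheafData.ker_subschemeι]; exact hE, A ⧸ m, inferInstance, (asIso r).symm, ?_⟩
  rw [hι, Scheme.IdealSheafData.ker_subschemeι]
  exact ⟨((Scheme.Modules.pullbackComp (asIso r).symm.hom E.subschemeι).app (ClSub.idealMod E)).symm ≪≫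
    (Scheme.Modules.pullback (asIso r).symm.hom).mapIso τ.symm ≪≫
    (Scheme.Modules.pullbackComp (asIso r).symm.hom r).app _ ≪≫
    (Scheme.Modules.pullbackCongr (asIso r).inv_hom_id).app _ ≪≫
    (Scheme.Modules.pullbackId _).app _⟩

end Exc

open H26Blow

variable {b : X' ⟶ X}

set_option maxHeartbeats 1600000 in
theorem exists_coordOn [IsLocallyNoetherian X] {y : X} (hy : IsClosed ({y} : Set X))
    (hreg : IsRegularLocalRing (X.presheaf.stalk y)) (hdim : ringKrullDim (X.presheaf.stalk y) = 2)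
    (hb : BlowUp.IsBlowUp b (Scheme.IdealSheafData.vanishingIdeal ⟨{y}, hy⟩)) :
    ∃ (A : CommRingCat.{u}) (m : Ideal A), m.IsMaximal ∧
      Nonempty (CoordOn ((Scheme.IdealSheafData.vanishingIdeal ⟨{y}, hy⟩).comap b) A m) := by
  obtain ⟨A, e, _, _, m, hmax, ga, gb, hspan, hpair, hem, -, hcentre, k, _, hk, hrange⟩ :=
    exists_chart_nhd hy hreg hdim hb ⊤ trivial
  set J := Scheme.IdealSheafData.vanishingIdeal (⟨{y}, hy⟩ : TopologicalSpace.Closeds X) with hJ
  let d : Fin 2 → m.asIdeal := ![ga, gb]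
  have hdspan : ∀ i, m.asIdeal = Ideal.span {(d i : A), (d (i + 1) : A)} := by
    intro i; fin_cases i
    · exact hspan
    · show m.asIdeal = Ideal.span {(gb : A), (ga : A)}; rw [Set.pair_comm]; exact hspan
  have hdpair : ∀ i, RegPair (d i : A) (d (i + 1)) := by
    intro i; fin_cases i
    · exact hpair
    · exact hpair.symm
  let c : ∀ i, Spec (CommRingCat.of (Alg m.asIdeal (d i))) ⟶ X' := fun i => j m.asIdeal (d i) ≫ k
  have hc : ∀ i, c i ≫ b = Spec.map (CommRingCat.ofHom (algebraMap A (Alg m.asIdeal (d i)))) ≫ e := fun i => by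
    simp only [c, Category.assoc, hk]
    rw [← Category.assoc, j_π]
  have hle : ∀ i, c i ''ᵁ ⊤ ≤ k ''ᵁ ⊤ := by
    rintro i _ ⟨q, -, rfl⟩; exact ⟨j m.asIdeal (d i) q, trivial, rfl⟩
  let θ : A →+* Γ(X', k ''ᵁ ⊤) :=
    ((k.appIso ⊤).inv.hom.comp (π (A := A) m.asIdeal).appTop.hom).comp (Scheme.ΓSpecIso A).inv.hom
  let E : ∀ i, Γ(X', c i ''ᵁ ⊤) ≅ CommRingCat.of (Alg m.asIdeal (d i)) := fun i =>
    (c i).appIso ⊤ ≪≫ Scheme.ΓSpecIso _
  have hE : ∀ i x, (E i).hom (cst θ (hle i) x) = algebraMap A (Alg m.asIdeal (d i)) x := by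
    intro i x
    have key : ((k.appIso ⊤).inv ≫ X'.presheaf.map (homOfLE (hle i)).op) ≫ (c i).appLE (c i ''ᵁ ⊤) ⊤
        (by rw [Scheme.Hom.preimage_image_eq]) = (j m.asIdeal (d i)).appTop := by
      rw [Category.assoc, Scheme.Hom.map_appLE, Iso.inv_comp_eq]
      simp only [c, Scheme.Hom.appIso_hom']
      rw [← Scheme.Hom.appLE_comp_appLE (j m.asIdeal (d i)) k (k ''ᵁ ⊤) ⊤ ⊤
        (by rw [Scheme.Hom.preimage_image_eq]) le_top]
      congr 1
    have key2 : (π (A := A) m.asIdeal).appTop ≫ (j m.asIdeal (d i)).appTop ≫ (Scheme.ΓSpecIso _).hom =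
        (Scheme.ΓSpecIso A).hom ≫ CommRingCat.ofHom (algebraMap A (Alg m.asIdeal (d i))) := by
      rw [← Category.assoc, ← Scheme.Hom.comp_appTop, j_π]
      exact Scheme.ΓSpecIso_naturality _
    have h1 := congr($key ((π (A := A) m.asIdeal).appTop ((Scheme.ΓSpecIso A).inv x)))
    show (Scheme.ΓSpecIso _).hom (((c i).appIso ⊤).hom (cst θ (hle i) x)) = _
    rw [Scheme.Hom.appIso_hom']
    refine (congrArg (Scheme.ΓSpecIso _).hom h1).trans ?_
    have h2 := congr($key2 ((Scheme.ΓSpecIso A).inv x))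
    exact h2.trans (congrArg (algebraMap A (Alg m.asIdeal (d i))) (Iso.inv_hom_id_apply (Scheme.ΓSpecIso A) x))
  let tt : ∀ i, Γ(X', c i ''ᵁ ⊤) := fun i => (E i).inv (frac _ (d i) (d (i + 1)))
  have hinj : ∀ i, Function.Injective (E i).hom := fun i => (ConcreteCategory.bijective_of_isIso _).1
  have heval : ∀ i p, (E i).hom (Polynomial.eval₂RingHom (cst θ (hle i)) (tt i) p) =
      Polynomial.aeval (frac _ (d i) (d (i + 1))) p := by
    intro i p
    show (E i).hom.hom (Polynomial.eval₂ _ _ _) = _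
    rw [Polynomial.hom_eval₂, Polynomial.aeval_def]
    congr 1
    · exact RingHom.ext (hE i)
    · exact Iso.inv_hom_id_apply (E i) _
  have hideal : ∀ i z, (z ∈ (J.comap b).ideal ⟨c i ''ᵁ ⊤, (isAffineOpen_top _).image_of_isOpenImmersion _⟩ ↔
      (E i).hom z ∈ Ideal.span {algebraMap A (Alg m.asIdeal (d i)) (d i : A)}) := by
    intro i z
    refine mem_ideal_image (C := CommRingCat.of (Alg m.asIdeal (d i))) (c i) (J.comap b)
      (Ideal.span {algebraMap A (Alg m.asIdeal (d i)) (d i : A)}) ?_ z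
    rw [← Scheme.IdealSheafData.comap_comp, hc, Scheme.IdealSheafData.comap_comp, hcentre, ideal_centre_comap,
        CommRingCat.hom_ofHom, map_eq_span]
  refine ⟨A, m.asIdeal, hmax, ⟨⟨k ''ᵁ ⊤, θ, fun x hx => ?_, fun i => (c i ''ᵁ ⊤), hle,
    fun i => (isAffineOpen_top _).image_of_isOpenImmersion _, fun x hx => ?_, fun i => (d i : A), fun i => (d i).2,
    tt, fun i => ?_, fun i => ?_, fun i => ?_, fun i => ?_, fun i z hz => ?_, fun i z => ?_, fun i p hp => ?_⟩⟩⟩
  · have hbx : b x = y := by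
      have h1 : b x ∈ (J.support : Set X) := by
        rw [Scheme.IdealSheafData.support_comap] at hx
        exact hx
      rw [hJ, Scheme.IdealSheafData.coe_support_vanishingIdeal] at h1
      exact h1
    obtain ⟨q, rfl⟩ : x ∈ Set.range k := by rw [hrange]; exact ⟨m, hem.trans hbx.symm⟩
    exact ⟨q, trivial, rfl⟩
  · obtain ⟨q, -, rfl⟩ := hx
    rcases mem_basicOpen_or m.asIdeal ga gb hspan q with h | h <;> rw [← opensRange_j] at h <;> obtain ⟨P, hP⟩ := h
    · exact ⟨0, P, trivial, by simp only [c, Scheme.Hom.comp_apply]; exact congrArg k hP⟩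
    · exact ⟨1, P, trivial, by simp only [c, Scheme.Hom.comp_apply]; exact congrArg k hP⟩
  · refine hinj i ?_
    rw [map_mul, hE, hE]
    show (E i).hom ((E i).inv _) * _ = _
    rw [Iso.inv_hom_id_apply, frac_spec]
  · have h1 : X'.basicOpen (tt i) = c i ''ᵁ (PrimeSpectrum.basicOpen (frac _ (d i) (d (i + 1)))) := by
      simp only [tt, E, Iso.trans_inv]
      rw [ConcreteCategory.comp_apply]
      rw [← Scheme.image_basicOpen, basicOpen_eq_of_affine]
    rw [h1]
    ext w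
    constructor
    · rintro ⟨q, hq, rfl⟩
      refine ⟨⟨q, trivial, rfl⟩, ?_⟩
      have := (mem_basicOpen_j m.asIdeal (d i) (d (i + 1)) q).2 hq
      rw [← opensRange_j] at this
      obtain ⟨r, hr⟩ := this
      exact ⟨r, trivial, by simp only [c, Scheme.Hom.comp_apply]; exact congrArg k hr⟩
    · rintro ⟨⟨q, -, rfl⟩, ⟨r, -, hr⟩⟩
      refine ⟨q, (mem_basicOpen_j m.asIdeal (d i) (d (i + 1)) q).1 ?_, rfl⟩
      rw [← opensRange_j]
      exact ⟨r, k.isOpenEmbedding.injective hr⟩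
  · exact mem_nonZeroDivisors_of_iso (E i) _ (by rw [hE]; exact algebraMap_mem_nonZeroDivisors m.asIdeal (d i))
  · exact eq_span_of_iso (E i) _ _ _ (hideal i) (hE i _)
  · rw [hideal, hE, ← map_eq_span]
    exact Ideal.mem_map_of_mem _ hz
  · obtain ⟨p, hp⟩ := aeval_frac_surjective _ (d i) (d (i + 1)) (hdspan i) ((E i).hom z)
    exact ⟨p, hinj i ((heval i p).trans hp)⟩
  · refine map_eq_zero_of_aeval_mem m.asIdeal (d i) (d (i + 1)) (hdspan i) (hdpair i) p ?_
    obtain ⟨z, hz⟩ := Ideal.mem_span_singleton'.1 hp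
    rw [← heval, ← hz, map_mul, hE]
    exact Ideal.mul_mem_left _ _ (Ideal.mem_span_singleton_self _)

/-- The blow-up of a closed point with regular two-dimensional local ring is a contraction. -/
theorem isExcCurve_and_isContractionOf [IsNoetherian X] {y : X} (hy : IsClosed ({y} : Set X))
    (hreg : IsRegularLocalRing (X.presheaf.stalk y)) (hdim : ringKrullDim (X.presheaf.stalk y) = 2)
    (hb : BlowUp.IsBlowUp b (Scheme.IdealSheafData.vanishingIdeal ⟨{y}, hy⟩)) :
    Models.IsExcCurve ((Scheme.IdealSheafData.vanishingIdeal ⟨{y}, hy⟩).comap b).subschemeι ∧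
      Models.IsContractionOf ((Scheme.IdealSheafData.vanishingIdeal ⟨{y}, hy⟩).comap b).subschemeι b := by
  obtain ⟨A, m, hm, ⟨C⟩⟩ := exists_coordOn hy hreg hdim hb
  haveI := hm
  have hexc := C.isExcCurve hb.1
  refine ⟨hexc, inferInstance, H26Blow.isProper_of_isBlowUp hb (fun x => ?_), y, hy, ?_, hreg, hdim, hb⟩
  · obtain ⟨U, hU, hxU, -⟩ := exists_isAffineOpen_mem_and_subset (X := X) (x := x) (U := ⊤) trivial
    haveI : IsNoetherianRing Γ(X, U) := IsLocallyNoetherian.component_noetherian ⟨U, hU⟩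
    exact ⟨⟨U, hU⟩, hxU, IsNoetherian.noetherian _⟩
  · have hsub : ∀ z, (((Scheme.IdealSheafData.vanishingIdeal ⟨{y}, hy⟩).comap b).subschemeι ≫ b).base z = y := by
      intro z
      have h1 : ((Scheme.IdealSheafData.vanishingIdeal ⟨{y}, hy⟩).comap b).subschemeι z ∈
          (((Scheme.IdealSheafData.vanishingIdeal ⟨{y}, hy⟩).comap b).support : Set X') := by
        rw [← Scheme.IdealSheafData.range_subschemeι]; exact ⟨z, rfl⟩
      rw [Scheme.IdealSheafData.support_comap] at h1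
      have h2 : b (((Scheme.IdealSheafData.vanishingIdeal ⟨{y}, hy⟩).comap b).subschemeι z) ∈
          ((Scheme.IdealSheafData.vanishingIdeal ⟨{y}, hy⟩).support : Set X) := h1
      rw [Scheme.IdealSheafData.coe_support_vanishingIdeal] at h2
      exact h2
    obtain ⟨-, K, hK, eP, -⟩ := hexc
    haveI := irreducibleSpace_projSpace_one K
    obtain ⟨p⟩ := (inferInstance : Nonempty ↥(CohB1.ProjSpace 1 K))
    refine Set.eq_singleton_iff_unique_mem.2 ⟨⟨eP.hom p, hsub _⟩, ?_⟩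
    rintro _ ⟨z, rfl⟩
    exact hsub z

end Groth.Agent.H28Contr
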