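import Groth.Agent.H28Contr.Universal
import Groth.Agent.H17.TwoGlue

/-!
# Gluing: the universal property of a contraction
-/

set_option autoImplicit false
set_option backward.isDefEq.respectTransparency.types false

universe u

open CategoryTheory Limits AlgebraicGeometry TopologicalSpace

namespace Groth.Agent.H28Contr

variable {E X X' : Scheme.{u}} {ι : E ⟶ X} {b : X ⟶ X'} [IsClosedImmersion ι]

theorem existsUnique_factor_of_isContractionOf (hE : Models.IsExcCurve ι) (hb : Models.IsContractionOf ι b)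
    {Y : Scheme.{u}} (φ : X ⟶ Y) (y' : Y) (hφ : Set.range ((ι ≫ φ).base : E → Y) = {y'}) :
    ∃! ψ : X' ⟶ Y, b ≫ ψ = φ := by
  obtain ⟨hN, hP, y, hy, hrange, hreg, hdim, hblow⟩ := hb
  let J := Scheme.IdealSheafData.vanishingIdeal (⟨{y}, hy⟩ : TopologicalSpace.Closeds X')
  let U : X'.Opens := ⟨({y} : Set X')ᶜ, hy.isOpen_compl⟩
  haveI : IsIso (b ∣_ U) := H29Blow.isIso_morphismRestrict hblow U fun x hx => by
    exact hx
  have cover : ∀ V : X'.Opens, y ∈ V → (⊤ : X'.Opens) = V ⊔ U := fun V hV => by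
    refine (eq_top_iff.2 fun x _ => ?_).symm
    by_cases hx : x = y
    · exact Or.inl (hx ▸ hV)
    · exact Or.inr hx
  have hbsurj : ∀ x : X', x ∈ Set.range b := fun x => by
    by_cases hx : x = y
    · have : y ∈ Set.range (ι ≫ b).base := by rw [hrange]; exact rfl
      obtain ⟨e, he⟩ := this
      exact ⟨ι e, by rw [hx, ← Scheme.Hom.comp_apply]; exact he⟩
    · obtain ⟨w, hw⟩ := (b ∣_ U).homeomorph.surjective ⟨x, hx⟩
      exact ⟨(b ⁻¹ᵁ U).ι w, by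
        rw [← Scheme.Hom.comp_apply, ← morphismRestrict_ι, Scheme.Hom.comp_apply]; exact congrArg Subtype.val hw⟩
  obtain ⟨W, hW, hyW, -⟩ := exists_isAffineOpen_mem_and_subset (show y' ∈ (⊤ : Y.Opens) from trivial)
  -- the fibre is `range ι`
  obtain ⟨V₀, -, -, -, hfib, -⟩ := exists_good_nhd hE hy hrange hreg hdim hblow ⊤ trivial
  -- a neighbourhood whose preimage maps into `W`
  haveI := hP
  have hO : IsOpen (b '' (φ ⁻¹ᵁ W : Set X)ᶜ)ᶜ :=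
    (b.isClosedMap _ (φ ⁻¹ᵁ W).isOpen.isClosed_compl).isOpen_compl
  have hyO : y ∈ (⟨_, hO⟩ : X'.Opens) := by
    rintro ⟨w, hw, hwy⟩
    obtain ⟨e, rfl⟩ := hfib w hwy
    have : φ (ι e) = y' := by
      have : (ι ≫ φ).base e ∈ ({y'} : Set Y) := hφ ▸ Set.mem_range_self e
      exact this
    exact hw (show φ (ι e) ∈ W from this ▸ hyW)
  obtain ⟨V, -, hVO, hyV, -, hdesc⟩ := exists_good_nhd hE hy hrange hreg hdim hblow ⟨_, hO⟩ hyO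
  have hle : b ⁻¹ᵁ V ≤ φ ⁻¹ᵁ W := fun w hw => by
    by_contra hne
    exact hVO hw ⟨w, hne, rfl⟩
  -- uniqueness
  have uniq : ∀ ψ₁ ψ₂ : X' ⟶ Y, b ≫ ψ₁ = φ → b ≫ ψ₂ = φ → ψ₁ = ψ₂ := by
    intro ψ₁ ψ₂ h₁ h₂
    have hpt : ∀ x, ψ₁ x = ψ₂ x := fun x => by
      obtain ⟨w, rfl⟩ := hbsurj x
      rw [← Scheme.Hom.comp_apply, ← Scheme.Hom.comp_apply, h₁, h₂]
    have hU : U.ι ≫ ψ₁ = U.ι ≫ ψ₂ := by
      rw [← cancel_epi (b ∣_ U), morphismRestrict_ι_assoc, morphismRestrict_ι_assoc, h₁, h₂]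
    obtain ⟨W₁, hW₁, hyW₁, -⟩ := exists_isAffineOpen_mem_and_subset (show ψ₁ y ∈ (⊤ : Y.Opens) from trivial)
    obtain ⟨V₁, -, hV₁, hyV₁, -, hd⟩ := exists_good_nhd hE hy hrange hreg hdim hblow (ψ₁ ⁻¹ᵁ W₁) hyW₁
    have hV : V₁.ι ≫ ψ₁ = V₁.ι ≫ ψ₂ := by
      haveI : IsAffine (W₁ : Scheme.{u}) := hW₁
      have r : ∀ ψ : X' ⟶ Y, (∀ x, ψ x = ψ₁ x) → Set.range (V₁.ι ≫ ψ) ⊆ Set.range W₁.ι := by
        rintro ψ hψ _ ⟨v, rfl⟩
        rw [Scheme.Opens.range_ι, Scheme.Hom.comp_apply, hψ]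
        exact hV₁ v.2
      let g₁ := IsOpenImmersion.lift W₁.ι (V₁.ι ≫ ψ₁) (r ψ₁ fun _ => rfl)
      let g₂ := IsOpenImmersion.lift W₁.ι (V₁.ι ≫ ψ₂) (r ψ₂ fun x => (hpt x).symm)
      obtain ⟨g, -, hu⟩ := hd _ ((b ∣_ V₁) ≫ g₁ ≫ hW₁.isoSpec.hom)
      have e₁ := hu (g₁ ≫ hW₁.isoSpec.hom) rfl
      have e₂ := hu (g₂ ≫ hW₁.isoSpec.hom) (by
        show (b ∣_ V₁) ≫ _ = _
        rw [← Category.assoc, ← Category.assoc (b ∣_ V₁) g₁]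
        congr 1
        rw [← cancel_mono W₁.ι, Category.assoc, Category.assoc, IsOpenImmersion.lift_fac,
          IsOpenImmersion.lift_fac, morphismRestrict_ι_assoc, morphismRestrict_ι_assoc, h₁, h₂])
      have : g₁ = g₂ := (cancel_mono hW₁.isoSpec.hom).1 (e₁.trans e₂.symm)
      rw [← IsOpenImmersion.lift_fac W₁.ι (V₁.ι ≫ ψ₁) (r ψ₁ fun _ => rfl),
        ← IsOpenImmersion.lift_fac W₁.ι (V₁.ι ≫ ψ₂) (r ψ₂ fun x => (hpt x).symm)]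
      exact congrArg (· ≫ W₁.ι) this
    let 𝒰 : X'.OpenCover := Scheme.openCoverOfIsOpenCover X' (fun i : ULift.{u} Bool => if i.down then V₁ else U) (by
      refine eq_top_iff.2 ((cover V₁ hyV₁).le.trans (sup_le ?_ ?_))
      · exact le_iSup_of_le ⟨true⟩ le_rfl
      · exact le_iSup_of_le ⟨false⟩ le_rfl)
    refine 𝒰.hom_ext _ _ fun i => ?_
    rcases i with ⟨_ | _⟩
    · exact hU
    · exact hV
  -- existence
  haveI : IsAffine (W : Scheme.{u}) := hW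
  let h : (b ⁻¹ᵁ V : Scheme.{u}) ⟶ W := IsOpenImmersion.lift W.ι ((b ⁻¹ᵁ V).ι ≫ φ) (by
    rintro _ ⟨v, rfl⟩; rw [Scheme.Opens.range_ι, Scheme.Hom.comp_apply]; exact hle v.2)
  obtain ⟨g, hg, -⟩ := hdesc _ (h ≫ hW.isoSpec.hom)
  let f₁ : (V : Scheme.{u}) ⟶ Y := g ≫ hW.isoSpec.inv ≫ W.ι
  let f₂ : (U : Scheme.{u}) ⟶ Y := inv (b ∣_ U) ≫ (b ⁻¹ᵁ U).ι ≫ φ
  have h₁ : (b ∣_ V) ≫ f₁ = (b ⁻¹ᵁ V).ι ≫ φ := by
    simp only [f₁, reassoc_of% hg, Iso.hom_inv_id_assoc, h, IsOpenImmersion.lift_fac]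
  have h₂ : (b ∣_ U) ≫ f₂ = (b ⁻¹ᵁ U).ι ≫ φ := by simp [f₂]
  have hagree : X'.homOfLE (inf_le_left : V ⊓ U ≤ V) ≫ f₁ = X'.homOfLE (inf_le_right : V ⊓ U ≤ U) ≫ f₂ := by
    haveI : IsIso (b ∣_ (V ⊓ U)) := H29Blow.isIso_morphismRestrict hblow _ fun x hx => by
      exact hx.2
    have e : ∀ (T : X'.Opens) (hT : V ⊓ U ≤ T),
        (b ∣_ (V ⊓ U)) ≫ X'.homOfLE hT = X.homOfLE (b.preimage_mono hT) ≫ (b ∣_ T) := by
      intro T hT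
      rw [← cancel_mono T.ι, Category.assoc, Category.assoc, Scheme.homOfLE_ι, morphismRestrict_ι,
        morphismRestrict_ι, Scheme.homOfLE_ι_assoc]
    rw [← cancel_epi (b ∣_ (V ⊓ U)), reassoc_of% (e V inf_le_left), reassoc_of% (e U inf_le_right), h₁, h₂,
      Scheme.homOfLE_ι_assoc, Scheme.homOfLE_ι_assoc]
  obtain ⟨c, hcV, hcU⟩ := H17.exists_glue_two V U f₁ f₂ hagree
  let ψ : X' ⟶ Y := X'.topIso.inv ≫ X'.homOfLE (cover V hyV).le ≫ c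
  have hres : ∀ (T : X'.Opens) (hT : T ≤ V ⊔ U), T.ι ≫ ψ = X'.homOfLE hT ≫ c := fun T hT => by
    have : T.ι ≫ X'.topIso.inv = X'.homOfLE (le_top : T ≤ ⊤) := by
      rw [← cancel_mono X'.topIso.hom, Category.assoc, Iso.inv_hom_id, Category.comp_id, Scheme.topIso_hom,
        Scheme.homOfLE_ι]
    simp only [ψ, reassoc_of% this, Scheme.homOfLE_homOfLE_assoc]
  have hψV : V.ι ≫ ψ = f₁ := (hres V le_sup_left).trans hcV
  have hψU : U.ι ≫ ψ = f₂ := (hres U le_sup_right).trans hcU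
  have hψ : b ≫ ψ = φ := by
    let 𝒰 : X.OpenCover := Scheme.openCoverOfIsOpenCover X
      (fun i : ULift.{u} Bool => if i.down then b ⁻¹ᵁ V else b ⁻¹ᵁ U) (by
      refine eq_top_iff.2 fun x _ => ?_
      rw [Opens.mem_iSup]
      rcases (cover V hyV).le (show b x ∈ (⊤ : X'.Opens) from trivial) with hx | hx
      · exact ⟨⟨true⟩, hx⟩
      · exact ⟨⟨false⟩, hx⟩)
    refine 𝒰.hom_ext _ _ fun i => ?_
    rcases i with ⟨_ | _⟩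
    · show (b ⁻¹ᵁ U).ι ≫ b ≫ ψ = (b ⁻¹ᵁ U).ι ≫ φ
      rw [← morphismRestrict_ι_assoc, hψU, h₂]
    · show (b ⁻¹ᵁ V).ι ≫ b ≫ ψ = (b ⁻¹ᵁ V).ι ≫ φ
      rw [← morphismRestrict_ι_assoc, hψV, h₁]
  exact ⟨ψ, hψ, fun ψ' hψ' => uniq ψ' ψ hψ' hψ⟩

omit b in
theorem existsUnique_iso {X₁ X₂ : Scheme.{u}} {b₁ : X ⟶ X₁} {b₂ : X ⟶ X₂} (hE : Models.IsExcCurve ι)
    (hb₁ : Models.IsContractionOf ι b₁) (hb₂ : Models.IsContractionOf ι b₂) :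
    ∃! e : X₁ ≅ X₂, b₁ ≫ e.hom = b₂ := by
  obtain ⟨-, -, y₁, -, h₁, -⟩ := id hb₁
  obtain ⟨-, -, y₂, -, h₂, -⟩ := id hb₂
  obtain ⟨f, hf, huf⟩ := existsUnique_factor_of_isContractionOf hE hb₁ b₂ y₂ h₂
  obtain ⟨g, hg, -⟩ := existsUnique_factor_of_isContractionOf hE hb₂ b₁ y₁ h₁
  obtain ⟨u₁, -, hu₁⟩ := existsUnique_factor_of_isContractionOf hE hb₁ b₁ y₁ h₁
  obtain ⟨u₂, -, hu₂⟩ := existsUnique_factor_of_isContractionOf hE hb₂ b₂ y₂ h₂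
  refine ⟨⟨f, g, ?_, ?_⟩, hf, fun e he => Iso.ext (huf e.hom he)⟩
  · rw [hu₁ (f ≫ g) (by show _ = _; rw [reassoc_of% hf, hg]), hu₁ (𝟙 _) (Category.comp_id _)]
  · rw [hu₂ (g ≫ f) (by show _ = _; rw [reassoc_of% hg, hf]), hu₂ (𝟙 _) (Category.comp_id _)]

end Groth.Agent.H28Contr
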