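import Groth.Agent.H28Contr.Factor
import Groth.Agent.H7Lim.Birational
import Groth.Agent.H11Curve.NormalizationBasic
import Groth.Agent.H26Blow.Proper
import Groth.Agent.H12AlgSp.NagataSpace
import Groth.Agent.H17.DimIneqScheme
import Groth.Agent.S7359
import Groth.Agent.S2348
import Groth.Agent.S9688
import Groth.Prelude.Def_ResolveSeq

/-!
# One normalized blow-up of a closed point
-/

set_option autoImplicit false
set_option linter.style.haveILetI false
set_option backward.isDefEq.respectTransparency.types false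

universe u

open CategoryTheory Limits AlgebraicGeometry TopologicalSpace

namespace Groth.Agent.H28Contr

variable {X Y : Scheme.{u}}

/-- A bijection of residue fields at the generic points is an isomorphism of function fields. -/
theorem isIso_stalkMap_generic [IsIntegral X] [IsIntegral Y] (f : X ⟶ Y)
    (hgen : f (genericPoint X) = genericPoint Y)
    (hbij : Function.Bijective (f.residueFieldMap (genericPoint X)).hom) :
    IsIso (f.stalkMap (genericPoint X)) := by
  have key : ∀ (W : Scheme.{u}) [IsIntegral W] (η : W), η = genericPoint W →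
      Function.Injective (W.residue η) := by
    rintro W _ _ rfl
    exact RingHom.injective (show W.functionField →+* _ from (W.residue (genericPoint W)).hom)
  have hc : ∀ a, f.residueFieldMap (genericPoint X) (Y.residue _ a) =
      X.residue _ (f.stalkMap (genericPoint X) a) := fun a => congr($(Scheme.residue_residueFieldMap f _) a)
  rw [ConcreteCategory.isIso_iff_bijective]
  refine ⟨fun a b h => key Y _ hgen (hbij.1 ?_), fun z => ?_⟩
  · show f.residueFieldMap (genericPoint X) _ = f.residueFieldMap (genericPoint X) _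
    rw [hc, hc, h]
  · obtain ⟨w, hw⟩ := hbij.2 (X.residue _ z)
    obtain ⟨a, rfl⟩ := Y.residue_surjective _ w
    exact ⟨a, key X _ rfl ((hc a).symm.trans hw)⟩

/-- The dimension inequality for a birational morphism of finite type. -/
theorem stalk_dim_le_of_birational [IsIntegral X] [IsLocallyNoetherian Y] (f : X ⟶ Y) [LocallyOfFiniteType f]
    (hbij : Function.Bijective (f.residueFieldMap (genericPoint X)).hom) (x : X) :
    ringKrullDim (X.presheaf.stalk x) ≤ ringKrullDim (Y.presheaf.stalk (f x)) := by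
  obtain ⟨b, hb, hl⟩ := H17.DimIneq.scheme_ineq f x 0 fun ξ hξ _ => by
    have hξ' : ξ = genericPoint X := by
      have h1 : closure {ξ} = (Set.univ : Set X) := by
        rw [irreducibleComponents_eq_singleton] at hξ
        exact hξ
      exact (genericPoint_spec X).eq h1 |>.symm
    subst hξ'
    letI := (f.residueFieldMap (genericPoint X)).hom.toAlgebra
    haveI : Algebra.IsAlgebraic (Y.residueField (f (genericPoint X))) (X.residueField (genericPoint X)) := ⟨fun r => by
      obtain ⟨r, rfl⟩ := hbij.2 r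
      exact isAlgebraic_algebraMap r⟩
    exact le_of_eq_of_le (trdeg_eq_zero (R := Y.residueField (f (genericPoint X)))) (by simp)
  rw [show Y.presheaf.stalk (f x) = Y.presheaf.stalk (f.base x) from rfl, hb]
  induction hd : ringKrullDim (X.presheaf.stalk x) using WithBot.recBotCoe with
  | bot => exact bot_le
  | coe d =>
    refine WithBot.coe_le_coe.2 (ENat.forall_natCast_le_iff_le.1 fun l hld => ?_)
    have := hl l (by rw [hd]; exact WithBot.coe_le_coe.2 hld)
    rw [Nat.cast_zero, add_zero] at this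
    have h2 : (l : Cardinal.{u}) ≤ (b : Cardinal.{u}) := le_self_add.trans this
    rwa [← Cardinal.ofENat_nat, Cardinal.ofENat_le_ofENat] at h2

/-- A finite birational morphism to a scheme is an isomorphism over its normal locus. -/
theorem isIso_restrict_of_normal [IsIntegral X] [IsIntegral Y] (g : X ⟶ Y) [IsIntegralHom g]
    (hgen : g (genericPoint X) = genericPoint Y) [IsIso (g.stalkMap (genericPoint X))] (W : Y.Opens)
    (hW : ∀ y ∈ W, IsIntegrallyClosed (Y.presheaf.stalk y)) : IsIso (g ∣_ W) := by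
  by_cases hne : (W : Set Y).Nonempty
  swap
  · haveI : IsEmpty W.toScheme := ⟨fun w => hne ⟨w.1, w.2⟩⟩
    infer_instance
  haveI : Nonempty W.toScheme := ⟨⟨hne.choose, hne.choose_spec⟩⟩
  have hη : g (genericPoint X) ∈ W := by
    rw [hgen]
    exact ((genericPoint_spec Y).mem_open_set_iff W.2).2 ⟨hne.choose, trivial, hne.choose_spec⟩
  haveI : Nonempty (g ⁻¹ᵁ W).toScheme := ⟨⟨genericPoint X, hη⟩⟩
  haveI : IsIntegral W.toScheme := isIntegral_of_isOpenImmersion W.ι
  haveI : IsIntegral (g ⁻¹ᵁ W).toScheme := isIntegral_of_isOpenImmersion (g ⁻¹ᵁ W).ι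
  have e1 : (g ⁻¹ᵁ W).ι (genericPoint (g ⁻¹ᵁ W).toScheme) = genericPoint X :=
    genericPoint_eq_of_isOpenImmersion (g ⁻¹ᵁ W).ι
  have hgen' : (g ∣_ W) (genericPoint (g ⁻¹ᵁ W).toScheme) = genericPoint W.toScheme := by
    refine W.ι.isOpenEmbedding.injective ?_
    rw [genericPoint_eq_of_isOpenImmersion W.ι, ← hgen, ← e1]
    exact congr($(morphismRestrict_ι g W) _)
  haveI : IsIso ((g ∣_ W).stalkMap (genericPoint (g ⁻¹ᵁ W).toScheme)) := by
    refine ((MorphismProperty.isomorphisms CommRingCat).arrow_mk_iso_iff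
      (morphismRestrictStalkMap g W (genericPoint (g ⁻¹ᵁ W).toScheme))).2 ?_
    show IsIso (g.stalkMap ((g ⁻¹ᵁ W).ι (genericPoint (g ⁻¹ᵁ W).toScheme)))
    rw [e1]; infer_instance
  haveI : IsIntegralHom (g ∣_ W) := MorphismProperty.of_isPullback (isPullback_morphismRestrict g W).flip inferInstance
  exact H7Lim.isIso_of_isIntegralHom_birational (fun w => by
    haveI : IsIntegrallyClosed (Y.presheaf.stalk (W.ι w)) := hW _ w.2
    exact IsIntegrallyClosed.of_equiv (asIso (W.ι.stalkMap w)).commRingCatIsoToRingEquiv) (g ∣_ W) hgen'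

/-- A normalized blow-up of a closed point of a normal Nagata surface. -/
theorem exists_normBlow_step (Z : Scheme.{u}) [IsIntegral Z] [IsNoetherian Z]
    (hn : Pi1.IsNormalScheme Z) (hN : ∀ U : Z.affineOpens, CAlg.IsNagata Γ(Z, U.1))
    (hd : ∀ z : Z, ringKrullDim (Z.presheaf.stalk z) ≤ 2) {y : Z} (hy : IsClosed ({y} : Set Z))
    (hne : y ≠ genericPoint Z) :
    ∃ (Z' : Scheme.{u}) (_ : IsIntegral Z') (_ : IsNoetherian Z') (q : Z' ⟶ Z), IsProper q ∧
      Pi1.IsNormalScheme Z' ∧ (∀ U : Z'.affineOpens, CAlg.IsNagata Γ(Z', U.1)) ∧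
      (∀ z : Z', ringKrullDim (Z'.presheaf.stalk z) ≤ 2) ∧
      q (genericPoint Z') = genericPoint Z ∧ IsIso (q.stalkMap (genericPoint Z')) ∧
      (∀ V : Z.Opens, y ∉ V → IsIso (q ∣_ V)) ∧
      (∀ x, q x = y → ∃ a, (IsLocalRing.maximalIdeal (Z.presheaf.stalk (q x))).map (q.stalkMap x).hom = Ideal.span {a}) ∧
      ∀ (X : Scheme.{u}) (r : Z ⟶ X), Resolve.IsNormPtBlowupSeq r → Resolve.IsNormPtBlowupSeq (q ≫ r) := by
  set J := Scheme.IdealSheafData.vanishingIdeal (⟨{y}, hy⟩ : TopologicalSpace.Closeds Z) with hJ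
  obtain ⟨Z₁, b, hb⟩ := H26Blow.exists_isBlowUp J
  have hsupp : ∀ z, z ∈ J.support ↔ z = y := fun z => by
    rw [hJ, ← SetLike.mem_coe, Scheme.IdealSheafData.coe_support_vanishingIdeal]; rfl
  have hJ0 : J ≠ ⊥ := fun h => hne ((hsupp _).1 (by rw [h, Scheme.IdealSheafData.support_bot]; trivial)).symm
  obtain ⟨_, hgen₁, hbij₁⟩ := S2348.result J hJ0 b hb
  haveI : IsProper b := H26Blow.isProper_of_isBlowUp hb fun z => by
    obtain ⟨U, hU, hz, -⟩ := exists_isAffineOpen_mem_and_subset (show z ∈ (⊤ : Z.Opens) from trivial)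
    haveI : IsNoetherianRing Γ(Z, U) := IsLocallyNoetherian.component_noetherian ⟨U, hU⟩
    exact ⟨⟨U, hU⟩, hz, IsNoetherian.noetherian _⟩
  haveI : IsNoetherian Z₁ := isNoetherian_blowUp (b := b)
  haveI : QuasiCompact (Z₁.fromSpecStalk (genericPoint Z₁)) := inferInstance
  haveI : QuasiSeparated (Z₁.fromSpecStalk (genericPoint Z₁)) := inferInstance
  obtain ⟨hn', hN', hprop⟩ := S7359.result Z hN y hy Z₁ b hb
  obtain ⟨_, hgen₂, hbij₂⟩ := H11Curve.exists_residueFieldMap_bijective Z₁
  set ν := Curv2.normalizationι Z₁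
  haveI hfin : IsFinite ν := S9688.result Z₁ fun W hW hne' => by
    haveI := hne'
    haveI : IsDomain Γ(Z₁, W) := @IsIntegral.component_integral Z₁ _ W hne'
    exact H1CAlg.isN2_of_ringEquiv (RingEquiv.quotientBot Γ(Z₁, W))
      ((H12AlgSp.isNagata_affineOpens_of_lft b (fun A hA => hN ⟨A, hA⟩) W hW).2 ⊥)
  haveI := hprop
  haveI : IsNoetherian (Curv2.normalization Z₁) := isNoetherian_blowUp (b := ν ≫ b)
  haveI : IsIso (b.stalkMap (genericPoint Z₁)) := isIso_stalkMap_generic b hgen₁ hbij₁
  haveI : IsIso (ν.stalkMap (genericPoint (Curv2.normalization Z₁))) := isIso_stalkMap_generic ν hgen₂ hbij₂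
  have hdim₁ : ∀ z : Z₁, ringKrullDim (Z₁.presheaf.stalk z) ≤ 2 := fun z =>
    (stalk_dim_le_of_birational b hbij₁ z).trans (hd _)
  refine ⟨_, inferInstance, inferInstance, ν ≫ b, inferInstance, hn', hN', fun z =>
    (stalk_dim_le_of_birational ν hbij₂ z).trans (hdim₁ _), ?_, ?_, fun V hV => ?_, fun x hx => ?_, fun X r hr => ?_⟩
  · rw [Scheme.Hom.comp_apply, hgen₂, hgen₁]
  · rw [Scheme.Hom.stalkMap_comp]
    have hb' : ∀ w, w = genericPoint Z₁ → IsIso (b.stalkMap w) := by rintro _ rfl; infer_instance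
    exact IsIso.comp_isIso' (hb' _ hgen₂) (by assumption)
  · haveI hbV : IsIso (b ∣_ V) := H29Blow.isIso_morphismRestrict hb V fun x hx hs => hV ((hsupp x).1 hs ▸ hx)
    have hνV : IsIso (ν ∣_ b ⁻¹ᵁ V) := isIso_restrict_of_normal ν hgen₂ _ fun w hw => by
      haveI := isIso_stalkMap_of_restrict b V w hw
      haveI := (hn (b w)).2
      exact IsIntegrallyClosed.of_equiv (asIso (b.stalkMap w)).commRingCatIsoToRingEquiv
    rw [morphismRestrict_comp]
    exact IsIso.comp_isIso' hνV hbV
  · obtain ⟨V, hxV, c, -, hc⟩ := hb.1 (ν x)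
    have h1 := H3CAlg.DiagStalk.stalkIdeal_comap b J (ν x)
    rw [H29Ref.stalkIdeal_eq _ _ V hxV, hc, Ideal.map_span, Set.image_singleton] at h1
    have hby : b (ν x) = y := hx
    have h2 : IntMult.stalkIdeal J (b (ν x)) = IsLocalRing.maximalIdeal _ := by
      subst hby
      exact stalkIdeal_point hy
    rw [h2] at h1
    refine ⟨ν.stalkMap x (Z₁.presheaf.germ V.1 _ hxV c), ?_⟩
    rw [Scheme.Hom.stalkMap_comp]
    erw [CommRingCat.hom_comp, ← Ideal.map_map]
    erw [← h1]
    rw [Ideal.map_span, Set.image_singleton]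
  · rw [Category.assoc]
    exact Resolve.IsNormPtBlowupSeq.step b r y hy hb hr

end Groth.Agent.H28Contr
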