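import Groth.Agent.H28Contr.NormValAlg
import Groth.Agent.H28Contr.NormBlowStep
import Groth.Agent.H28Contr.Dominate

/-!
# Normalized point blow-ups dominate proper modifications of Nagata surfaces
-/

set_option autoImplicit false
set_option linter.style.haveILetI false
set_option backward.isDefEq.respectTransparency.types false

universe u

open CategoryTheory Limits AlgebraicGeometry TopologicalSpace

namespace Groth.Agent.H28Contr

/-- A Noetherian normal local domain of dimension at most one is a valuation ring. -/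
theorem valuationRing_of_dim_le_one (R : Type u) [CommRing R] [IsDomain R] [IsLocalRing R] [IsNoetherianRing R]
    [IsIntegrallyClosed R] (h : ringKrullDim R ≤ 1) : ValuationRing R := by
  haveI : Ring.KrullDimLE 1 R := Ring.krullDimLE_iff.2 h
  haveI : IsDedekindDomain R := (isDedekindDomain_iff R (FractionRing R)).2
    ⟨inferInstance, inferInstance, ⟨fun hp hP => hP.isMaximal_of_ne_bot hp⟩,
      fun hx => IsIntegrallyClosed.isIntegral_iff.1 hx⟩
  infer_instance

variable {X Y Z : Scheme.{u}} {p : Y ⟶ X} {U : X.Opens} {s : (U : Scheme.{u}) ⟶ Y}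

section IntExt

variable [IsIntegral Z] {g : Z ⟶ X}

theorem exists_lift_of_generic (hg : g (genericPoint Z) ∈ U) (z : Z) {L : Type u} [Field L]
    (ι : Z.presheaf.stalk z →+* L) (hι : Function.Injective ι) :
    ∃ c : Spec (CommRingCat.of L) ⟶ U,
      c ≫ U.ι = Spec.map (CommRingCat.ofHom ι) ≫ Z.fromSpecStalk z ≫ g := by
  refine ⟨IsOpenImmersion.lift U.ι (Spec.map (CommRingCat.ofHom ι) ≫ Z.fromSpecStalk z ≫ g) ?_,
    IsOpenImmersion.lift_fac _ _ _⟩
  rintro _ ⟨t, rfl⟩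
  rw [Scheme.Opens.range_ι]
  obtain ⟨P, hP⟩ : genericPoint Z ∈ Set.range (Z.fromSpecStalk z) := by
    rw [Scheme.range_fromSpecStalk]; exact genericPoint_specializes z
  set Q := (Spec.map (CommRingCat.ofHom ι)) t
  have hQ : Q.asIdeal = ⊥ := by
    show Ideal.comap ι t.asIdeal = ⊥
    rw [(Ideal.eq_bot_or_top t.asIdeal).resolve_right t.2.ne_top, Ideal.comap_bot_of_injective _ hι]
  have hQP : Z.fromSpecStalk z Q = genericPoint Z := by
    refine ((genericPoint_specializes _).antisymm ?_).eq.symm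
    rw [← hP]
    exact ((PrimeSpectrum.le_iff_specializes Q P).1 (show Q.asIdeal ≤ P.asIdeal from hQ.le.trans bot_le)).map
      (Z.fromSpecStalk z).continuous
  show g (Z.fromSpecStalk z Q) ∈ U
  rw [hQP]
  exact hg

theorem Ext.of_dim_le_one_normal [IsProper p] [IsLocallyNoetherian Z] (hs : s ≫ p = U.ι)
    (hg : g (genericPoint Z) ∈ U) {z : Z} [IsIntegrallyClosed (Z.presheaf.stalk z)]
    (hdim : ringKrullDim (Z.presheaf.stalk z) ≤ 1) : Ext p U s g z := by
  haveI : ValuationRing (Z.presheaf.stalk z) := valuationRing_of_dim_le_one _ hdim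
  obtain ⟨c, hc⟩ := exists_lift_of_generic hg z (algebraMap (Z.presheaf.stalk z) (FractionRing (Z.presheaf.stalk z)))
    (IsFractionRing.injective _ _)
  obtain ⟨l, hl₁, hl₂⟩ : ∃ l : Spec (Z.presheaf.stalk z) ⟶ Y,
      Spec.map (CommRingCat.ofHom (algebraMap (Z.presheaf.stalk z) (FractionRing (Z.presheaf.stalk z)))) ≫ l = c ≫ s ∧
        l ≫ p = Z.fromSpecStalk z ≫ g := by
    have hp : (ValuativeCriterion ⊓ @QuasiCompact ⊓ @QuasiSeparated ⊓ @LocallyOfFiniteType) p := by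
      rw [← IsProper.eq_valuativeCriterion]; infer_instance
    obtain ⟨⟨l, h1, h2⟩⟩ := (ValuativeCriterion.existence hp.1.1.1
      { R := Z.presheaf.stalk z, commRing := inferInstance, domain := inferInstance, valuationRing := ‹_›, K := FractionRing (Z.presheaf.stalk z), i₁ := c ≫ s, i₂ := Z.fromSpecStalk z ≫ g
        commSq := ⟨by rw [Category.assoc, hs, hc]⟩ }).exists_lift
    exact ⟨l, h1, h2⟩
  exact Ext.of_lift hs _ (IsFractionRing.injective _ _) l hl₂ c hc hl₁

theorem compat_unique_int [IsSeparated p] (hg : g (genericPoint Z) ∈ U) {W₁ W₂ : Z.Opens}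
    {h₁ : (W₁ : Scheme.{u}) ⟶ Y} {h₂ : (W₂ : Scheme.{u}) ⟶ Y} (H₁ : Compat p U s g W₁ h₁)
    (H₂ : Compat p U s g W₂ h₂) {V : Z.Opens} (e₁ : V ≤ W₁) (e₂ : V ≤ W₂) :
    Z.homOfLE e₁ ≫ h₁ = Z.homOfLE e₂ ≫ h₂ := by
  by_cases hne : (V : Set Z).Nonempty
  swap
  · haveI : IsEmpty V.toScheme := ⟨fun v => hne ⟨v.1, v.2⟩⟩
    exact isInitialOfIsEmpty.hom_ext _ _
  haveI : Nonempty V.toScheme := ⟨⟨hne.choose, hne.choose_spec⟩⟩
  haveI : IsIntegral V.toScheme := isIntegral_of_isOpenImmersion V.ι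
  set T : V.toScheme.Opens := (V.ι ≫ g) ⁻¹ᵁ U
  have hT : genericPoint V.toScheme ∈ T := by
    show g (V.ι (genericPoint V.toScheme)) ∈ U
    rw [genericPoint_eq_of_isOpenImmersion V.ι]
    exact hg
  haveI : IsDominant T.ι := ⟨by
    rw [DenseRange, Scheme.Opens.range_ι]
    exact T.2.dense ⟨_, hT⟩⟩
  refine ext_of_isDominant_of_isSeparated p (by simp [H₁.1, H₂.1]) T.ι ?_
  have a1 := H₁.2 _ (T.ι ≫ Z.homOfLE e₁) ((V.ι ≫ g) ∣_ U) (by simp only [Category.assoc, Scheme.homOfLE_ι_assoc]; exact (morphismRestrict_ι _ _).symm)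
  have a2 := H₂.2 _ (T.ι ≫ Z.homOfLE e₂) ((V.ι ≫ g) ∣_ U) (by simp only [Category.assoc, Scheme.homOfLE_ι_assoc]; exact (morphismRestrict_ι _ _).symm)
  simp only [Category.assoc] at a1 a2
  exact a1.trans a2.symm

/-- If the section extends everywhere, it extends globally. -/
theorem exists_hom_of_ext_int [IsSeparated p] (hs : s ≫ p = U.ι) (hg : g (genericPoint Z) ∈ U)
    (hext : ∀ z, Ext p U s g z) : ∃ h : Z ⟶ Y, h ≫ p = g ∧ (g ⁻¹ᵁ U).ι ≫ h = (g ∣_ U) ≫ s := by
  let I := Σ' W : Z.Opens, {h : (W : Scheme.{u}) ⟶ Y // Compat p U s g W h}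
  have hcov : ⨆ i : I, i.1 = ⊤ := top_le_iff.1 fun z _ => by
    obtain ⟨W, h, hz, hW⟩ := hext z
    exact Opens.mem_iSup.2 ⟨⟨W, h, hW⟩, hz⟩
  let 𝒰 : Z.OpenCover :=
    { I₀ := I, X i := i.1, f i := i.1.ι
      mem₀ := by
        rw [Scheme.presieve₀_mem_precoverage_iff]
        refine ⟨fun z => ?_, inferInstance⟩
        obtain ⟨i, hi⟩ := Opens.mem_iSup.1 (show z ∈ ⨆ i : I, i.1 by rw [hcov]; trivial)
        exact ⟨i, by simpa using hi⟩ }
  have hcomp : ∀ i j : I, pullback.fst (𝒰.f i) (𝒰.f j) ≫ i.2.1 = pullback.snd (𝒰.f i) (𝒰.f j) ≫ j.2.1 := by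
    intro i j
    have hr : Set.range (pullback.fst i.1.ι j.1.ι ≫ i.1.ι) ⊆ Set.range (i.1 ⊓ j.1).ι := by
      rintro _ ⟨t, rfl⟩
      rw [Scheme.Opens.range_ι]
      refine ⟨(pullback.fst i.1.ι j.1.ι t).2, ?_⟩
      rw [pullback.condition]
      exact (pullback.snd i.1.ι j.1.ι t).2
    have e1 : pullback.fst i.1.ι j.1.ι =
        IsOpenImmersion.lift (i.1 ⊓ j.1).ι _ hr ≫ Z.homOfLE inf_le_left := by
      rw [← cancel_mono i.1.ι]; simp
    have e2 : pullback.snd i.1.ι j.1.ι =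
        IsOpenImmersion.lift (i.1 ⊓ j.1).ι _ hr ≫ Z.homOfLE inf_le_right := by
      rw [← cancel_mono j.1.ι]; simp [pullback.condition]
    show pullback.fst i.1.ι j.1.ι ≫ _ = pullback.snd i.1.ι j.1.ι ≫ _
    rw [e1, e2, Category.assoc, Category.assoc, compat_unique_int hg i.2.2 j.2.2]
  refine ⟨𝒰.glueMorphisms (fun i => i.2.1) hcomp, 𝒰.hom_ext _ _ fun i => ?_, ?_⟩
  · rw [Scheme.Cover.ι_glueMorphisms_assoc]; exact i.2.2.1
  · obtain ⟨h1, h2⟩ : Compat p U s g (g ⁻¹ᵁ U) ((g ∣_ U) ≫ s) :=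
      ⟨by rw [Category.assoc, hs, morphismRestrict_ι], fun T a c he => by
        rw [← Category.assoc]
        congr 1
        rw [← cancel_mono U.ι, Category.assoc, morphismRestrict_ι, he]⟩
    exact 𝒰.ι_glueMorphisms (fun i => i.2.1) hcomp ⟨_, _, h1, h2⟩

end IntExt

/-- A stage of the sequence of normalized blow-ups. -/
structure NStage (X : Scheme.{u}) where
  Z : Scheme.{u}
  int : IsIntegral Z
  noeth : IsNoetherian Z
  g : Z ⟶ X
  seq : Resolve.IsNormPtBlowupSeq g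
  normal : Pi1.IsNormalScheme Z
  nagata : ∀ V : Z.affineOpens, CAlg.IsNagata Γ(Z, V.1)
  dim : ∀ z : Z, ringKrullDim (Z.presheaf.stalk z) ≤ 2
  gen : ∀ U : X.Opens, (U : Set X).Nonempty → g (genericPoint Z) ∈ U

attribute [instance] NStage.int NStage.noeth

/-- The points where the section does not extend. -/
def NStage.bad (S : NStage X) (p : Y ⟶ X) (U : X.Opens) (s : (U : Scheme.{u}) ⟶ Y) : Set S.Z :=
  {z | ¬ Ext p U s S.g z}

theorem NStage.bad_props [IsProper p] (hs : s ≫ p = U.ι) (hU : (U : Set X).Nonempty) (S : NStage X) :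
    (S.bad p U s).Finite ∧ ∀ z ∈ S.bad p U s, IsClosed ({z} : Set S.Z) ∧ z ≠ genericPoint S.Z := by
  have hd : ∀ z ∈ S.bad p U s, ringKrullDim (S.Z.presheaf.stalk z) = 2 := fun z hz =>
    eq_two_of_le (S.dim z) fun h => by
      haveI := (S.normal z).2
      exact hz (Ext.of_dim_le_one_normal hs (S.gen U hU) h)
  have hcl : IsClosed (S.bad p U s) := (isOpen_ext S.g).isClosed_compl
  have hpt : ∀ z ∈ S.bad p U s, IsClosed ({z} : Set S.Z) := fun z hz => by
    rw [← closure_subset_iff_isClosed]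
    intro w hw
    by_contra hne
    have hwb : w ∈ S.bad p U s := hcl.closure_subset_iff.2 (Set.singleton_subset_iff.2 hz) hw
    have := ringKrullDim_stalk_lt (specializes_iff_mem_closure.2 hw) fun e => hne e.symm
    rw [hd z hz, hd w hwb] at this
    exact this.false
  exact ⟨finite_of_closed_points hcl hpt, fun z hz => ⟨hpt z hz, fun e => hz (by
    rw [e]; exact Ext.of_mem hs S.g (S.gen U hU))⟩⟩

/-- Blow up finitely many closed points. -/
theorem NStage.exists_round (n : ℕ) : ∀ (S : NStage X) (B : Set S.Z), B.Finite → B.ncard ≤ n →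
    (∀ y ∈ B, IsClosed ({y} : Set S.Z) ∧ y ≠ genericPoint S.Z) →
    ∃ (S' : NStage X) (q : S'.Z ⟶ S.Z), q ≫ S.g = S'.g ∧ q (genericPoint S'.Z) = genericPoint S.Z ∧
      IsIso (q.stalkMap (genericPoint S'.Z)) ∧
      ∀ x, q x ∈ B → ∃ a, (IsLocalRing.maximalIdeal (S.Z.presheaf.stalk (q x))).map (q.stalkMap x).hom = Ideal.span {a} := by
  induction n with
  | zero =>
    intro S B hB hn _
    obtain rfl := (Set.ncard_eq_zero hB).1 (Nat.le_zero.1 hn)
    exact ⟨S, 𝟙 _, Category.id_comp _, rfl, inferInstance, fun x hx => hx.elim⟩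
  | succ n ih =>
    intro S B hB hn hpt
    by_cases hle : B.ncard ≤ n
    · exact ih S B hB hle hpt
    obtain ⟨y, hyB⟩ : B.Nonempty := Set.nonempty_of_ncard_ne_zero (by omega)
    obtain ⟨hy, hyne⟩ := hpt y hyB
    obtain ⟨Z₁, _, _, b, _, hn₁', hN₁, hd₁, hgen₁, hiso₁, hrestr, hprin, hseq⟩ :=
      exists_normBlow_step S.Z S.normal S.nagata S.dim hy hyne
    let S₁ : NStage X := ⟨Z₁, ‹_›, ‹_›, b ≫ S.g, hseq _ _ S.seq, hn₁', hN₁, hd₁, fun U hU => by
      rw [Scheme.Hom.comp_apply, hgen₁]; exact S.gen U hU⟩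
    let W : S.Z.Opens := ⟨{y}ᶜ, hy.isOpen_compl⟩
    haveI := hrestr W (fun h => h rfl)
    have huniq : ∀ x x' : Z₁, b x ≠ y → b x' = b x → x' = x := fun x x' hx hxx' => by
      have hinj : Function.Injective (b ∣_ W) := (b ∣_ W).homeomorph.injective
      have := @hinj ⟨x', show b x' ∈ W by rw [hxx']; exact hx⟩ ⟨x, hx⟩ (Subtype.ext (by simpa using hxx'))
      exact congrArg Subtype.val this
    set B₁ : Set Z₁ := b ⁻¹' (B \ {y})
    have hB₁ : Set.InjOn b B₁ := fun x hx x' _ e => (huniq x x' hx.2 e.symm).symm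
    have hn₁ : B₁.ncard ≤ n := by
      have : B₁.ncard ≤ (B \ {y}).ncard := Set.ncard_le_ncard_of_injOn b (fun x hx => hx) hB₁ hB.diff
      rw [Set.ncard_diff_singleton_of_mem hyB] at this
      omega
    obtain ⟨S', q, hqg, hqgen, hqiso, hq⟩ := ih S₁ B₁
      (Set.Finite.of_finite_image (hB.diff.subset (Set.image_preimage_subset _ _)) hB₁) hn₁ fun x hx => by
        obtain ⟨hc, hne⟩ := hpt _ hx.1
        refine ⟨?_, fun e => hne ((congrArg b e).trans hgen₁)⟩
        have : b ⁻¹' {b x} = {x} := Set.eq_singleton_iff_unique_mem.2 ⟨rfl, fun x' hx' => huniq x x' hx.2 hx'⟩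
        show IsClosed ({x} : Set Z₁)
        rw [← this]
        exact hc.preimage b.continuous
    refine ⟨S', q ≫ b, by rw [Category.assoc]; exact hqg, ?_, ?_, fun x hx => ?_⟩
    · rw [Scheme.Hom.comp_apply]; exact (congrArg b hqgen).trans hgen₁
    · rw [Scheme.Hom.stalkMap_comp]
      have hb' : ∀ w, w = genericPoint Z₁ → IsIso (b.stalkMap w) := by rintro _ rfl; exact hiso₁
      exact IsIso.comp_isIso' (hb' _ hqgen) hqiso
    · rw [Scheme.Hom.stalkMap_comp]
      by_cases hxy : b (q x) = y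
      · obtain ⟨a, ha⟩ := hprin (q x) hxy
        refine ⟨q.stalkMap x a, ?_⟩
        erw [CommRingCat.hom_comp, ← Ideal.map_map, ha, Ideal.map_span, Set.image_singleton]
      · obtain ⟨a, ha⟩ := hq x ⟨hx, hxy⟩
        haveI := isIso_stalkMap_of_restrict b W (q x) hxy
        refine ⟨a, ?_⟩
        erw [CommRingCat.hom_comp, ← Ideal.map_map, IsLocalRing.map_maximalIdeal_of_surjective (b.stalkMap (q x)).hom
          (ConcreteCategory.bijective_of_isIso (b.stalkMap (q x))).2]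
        exact ha

set_option maxHeartbeats 1600000 in
/-- Bad points do not form an infinite chain of centres. -/
theorem not_bad_chain [IsProper p] (hs : s ≫ p = U.ι) (hU : (U : Set X).Nonempty) (S : ℕ → NStage X)
    (qn : ∀ n, (S (n + 1)).Z ⟶ (S n).Z) (hqg : ∀ n, qn n ≫ (S n).g = (S (n + 1)).g)
    (hqgen : ∀ n, qn n (genericPoint (S (n + 1)).Z) = genericPoint (S n).Z)
    (hqiso : ∀ n, IsIso ((qn n).stalkMap (genericPoint (S (n + 1)).Z)))
    (z : ∀ n, (S n).Z) (hz : ∀ n, qn n (z (n + 1)) = z n) (hzb : ∀ n, z n ∈ (S n).bad p U s)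
    (hprin : ∀ n, ∃ a, (IsLocalRing.maximalIdeal ((S n).Z.presheaf.stalk (qn n (z (n + 1))))).map
      ((qn n).stalkMap (z (n + 1))).hom = Ideal.span {a}) : False := by
  have hstep : ∀ n, ∃ φ : (S n).Z.presheaf.stalk (z n) ⟶ (S (n + 1)).Z.presheaf.stalk (z (n + 1)),
      Spec.map φ ≫ (S n).Z.fromSpecStalk (z n) = (S (n + 1)).Z.fromSpecStalk (z (n + 1)) ≫ qn n ∧
      IsLocalHom φ.hom ∧ Function.Injective φ ∧
      (∀ v, ∃ a c, c ≠ 0 ∧ φ c * v = φ a) ∧
      ∃ a, (IsLocalRing.maximalIdeal ((S n).Z.presheaf.stalk (z n))).map φ.hom = Ideal.span {a} := by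
    intro n
    have key : ∀ y, qn n (z (n + 1)) = y → ∃ φ : (S n).Z.presheaf.stalk y ⟶ (S (n + 1)).Z.presheaf.stalk (z (n + 1)),
        Spec.map φ ≫ (S n).Z.fromSpecStalk y = (S (n + 1)).Z.fromSpecStalk (z (n + 1)) ≫ qn n ∧
        IsLocalHom φ.hom ∧ Function.Injective φ ∧ (∀ v, ∃ a c, c ≠ 0 ∧ φ c * v = φ a) ∧
        ∃ a, (IsLocalRing.maximalIdeal ((S n).Z.presheaf.stalk y)).map φ.hom = Ideal.span {a} := by
      rintro _ rfl
      haveI : IsIso ((qn n).stalkMap (genericPoint (S (n + 1)).Z)) := hqiso n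
      obtain ⟨hinj, hbir⟩ := stalkMap_birational (X := (S (n + 1)).Z) (Y := (S n).Z) (qn n) (hqgen n) (z (n + 1))
      exact ⟨(qn n).stalkMap _, Scheme.SpecMap_stalkMap_fromSpecStalk .., inferInstance, hinj, hbir,
        hprin n⟩
    exact key _ (hz n)
  choose φ hφg hφloc hφinj hφbir hφprin using hstep
  haveI : ∀ n, IsIntegrallyClosed ((S n).Z.presheaf.stalk (z n)) := fun n => ((S n).normal (z n)).2
  obtain ⟨V, ι, hι0, hιstep, hιinj, hιloc, hιsur⟩ :=
    exists_valuation_ring_norm (R := fun n => (S n).Z.presheaf.stalk (z n)) ((S 0).dim (z 0))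
      (fun n => (φ n).hom) hφloc hφinj hφbir hφprin
  letI : Field (FractionRing ((S 0).Z.presheaf.stalk (z 0))) := FractionRing.field _
  haveI : IsDomain ((S 0).Z.presheaf.stalk (z 0)) := inferInstance
  have hK : Function.Injective (algebraMap ((S 0).Z.presheaf.stalk (z 0)) (FractionRing ((S 0).Z.presheaf.stalk (z 0)))) :=
    IsFractionRing.injective _ _
  obtain ⟨c, hc⟩ := exists_lift_of_generic (Z := (S 0).Z) (g := (S 0).g) ((S 0).gen U hU) (z 0)
    (L := FractionRing ((S 0).Z.presheaf.stalk (z 0))) (algebraMap ((S 0).Z.presheaf.stalk (z 0)) (FractionRing ((S 0).Z.presheaf.stalk (z 0)))) hK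
  let ι' : ∀ n, (S n).Z.presheaf.stalk (z n) ⟶ CommRingCat.of V := fun n => CommRingCat.ofHom (ι n)
  let i : ∀ n, Spec ((S n).Z.presheaf.stalk (z n)) ⟶ X := fun n => (S n).Z.fromSpecStalk (z n) ≫ (S n).g
  have hι' : ∀ n, φ n ≫ ι' (n + 1) = ι' n := fun n => CommRingCat.hom_ext (hιstep n)
  have hi : ∀ n, Spec.map (ι' n) ≫ i n = Spec.map (ι' 0) ≫ i 0 := fun n => by
    induction n with
    | zero => rfl
    | succ n ih =>
      refine Eq.trans ?_ ih
      conv_rhs => rw [← hι' n, Spec.map_comp, Category.assoc]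
      congr 1
      show (S (n + 1)).Z.fromSpecStalk (z (n + 1)) ≫ (S (n + 1)).g =
        Spec.map (φ n) ≫ (S n).Z.fromSpecStalk (z n) ≫ (S n).g
      rw [reassoc_of% hφg n, show (S (n + 1)).g = qn n ≫ (S n).g from (hqg n).symm]
  obtain ⟨l, hl1, hl2⟩ : ∃ l : Spec (CommRingCat.of V) ⟶ Y,
      Spec.map (CommRingCat.ofHom (algebraMap V (FractionRing ((S 0).Z.presheaf.stalk (z 0))))) ≫ l = c ≫ s ∧ l ≫ p = Spec.map (ι' 0) ≫ i 0 := by
    have hp : (ValuativeCriterion ⊓ @QuasiCompact ⊓ @QuasiSeparated ⊓ @LocallyOfFiniteType) p := by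
      rw [← IsProper.eq_valuativeCriterion]; infer_instance
    have he : CommRingCat.ofHom (algebraMap ((S 0).Z.presheaf.stalk (z 0)) (FractionRing ((S 0).Z.presheaf.stalk (z 0)))) = ι' 0 ≫ CommRingCat.ofHom (algebraMap V (FractionRing ((S 0).Z.presheaf.stalk (z 0)))) :=
      CommRingCat.hom_ext (RingHom.ext fun r => (hι0 r).symm)
    obtain ⟨⟨l, h1, h2⟩⟩ := (ValuativeCriterion.existence hp.1.1.1
      { R := V, K := (FractionRing ((S 0).Z.presheaf.stalk (z 0))), i₁ := c ≫ s, i₂ := Spec.map (ι' 0) ≫ i 0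
        commSq := ⟨by rw [Category.assoc, hs, hc, ← Spec.map_comp_assoc, ← he]⟩ }).exists_lift
    exact ⟨l, h1, h2⟩
  have hmono : Monotone fun n => (ι' n).hom.range := monotone_nat_of_le_succ fun n => by
    rintro _ ⟨r, rfl⟩
    exact ⟨φ n r, congrArg (fun f : (S n).Z.presheaf.stalk (z n) →+* V => f r) (hιstep n)⟩
  obtain ⟨N, ψ, hψp, hψl⟩ := exists_descend p ι' hιloc hιinj hmono hιsur i l fun n => (hi n).trans hl2.symm
  refine hzb N (Ext.of_lift hs ((algebraMap V (FractionRing ((S 0).Z.presheaf.stalk (z 0)))).comp (ι N))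
    ((IsFractionRing.injective V (FractionRing ((S 0).Z.presheaf.stalk (z 0)))).comp (hιinj N)) ψ hψp c ?_ ?_)
  · have := hi N
    rw [hc]
    have h2 := congrArg (Spec.map (CommRingCat.ofHom (algebraMap V (FractionRing ((S 0).Z.presheaf.stalk (z 0))))) ≫ ·) this
    simp only [i, ← Spec.map_comp_assoc] at h2
    refine Eq.trans ?_ h2.symm
    congr 2
    exact CommRingCat.hom_ext (RingHom.ext fun r => (hι0 r).symm)
  · rw [CommRingCat.ofHom_comp, Spec.map_comp, Category.assoc]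
    erw [hψl]
    exact hl1

set_option maxHeartbeats 800000 in
/-- Some stage has no bad point. -/
theorem NStage.exists_good [IsProper p] (hs : s ≫ p = U.ι) (hU : (U : Set X).Nonempty) (S₀ : NStage X) :
    ∃ S : NStage X, S.bad p U s = ∅ := by
  by_contra hcon'
  push Not at hcon'
  have hnext : ∀ S : NStage X, ∃ (S' : NStage X) (q : S'.Z ⟶ S.Z), q ≫ S.g = S'.g ∧ q (genericPoint S'.Z) = genericPoint S.Z ∧
      IsIso (q.stalkMap (genericPoint S'.Z)) ∧ ∀ x ∈ S'.bad p U s, q x ∈ S.bad p U s ∧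
        ∃ a, (IsLocalRing.maximalIdeal (S.Z.presheaf.stalk (q x))).map (q.stalkMap x).hom = Ideal.span {a} := by
    intro S
    obtain ⟨hfin, hpt⟩ := S.bad_props (p := p) hs hU
    obtain ⟨S', q, h1, h2, h3, h4⟩ := S.exists_round _ _ hfin le_rfl hpt
    refine ⟨S', q, h1, h2, h3, fun x hx => ?_⟩
    have hxB : q x ∈ S.bad p U s := fun h => hx (by
      have := h.comap q
      rwa [h1] at this)
    exact ⟨hxB, h4 x hxB⟩
  choose nxt q hqg hqgen hqiso hq using hnext
  obtain ⟨S, hS⟩ : ∃ S : ℕ → NStage X, ∀ n, S (n + 1) = nxt (S n) :=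
    ⟨fun n => Nat.rec S₀ (fun _ T => nxt T) n, fun n => rfl⟩
  have hex : ∀ n, ∃ qn : (S (n + 1)).Z ⟶ (S n).Z, qn ≫ (S n).g = (S (n + 1)).g ∧
      qn (genericPoint (S (n + 1)).Z) = genericPoint (S n).Z ∧
      IsIso (qn.stalkMap (genericPoint (S (n + 1)).Z)) ∧
      ∀ x ∈ (S (n + 1)).bad p U s, qn x ∈ (S n).bad p U s ∧
        ∃ a, (IsLocalRing.maximalIdeal ((S n).Z.presheaf.stalk (qn x))).map (qn.stalkMap x).hom = Ideal.span {a} := by
    intro n
    have key : ∀ T : NStage X, T = nxt (S n) → ∃ qn : T.Z ⟶ (S n).Z, qn ≫ (S n).g = T.g ∧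
        qn (genericPoint T.Z) = genericPoint (S n).Z ∧ IsIso (qn.stalkMap (genericPoint T.Z)) ∧
        ∀ x ∈ T.bad p U s, qn x ∈ (S n).bad p U s ∧
          ∃ a, (IsLocalRing.maximalIdeal ((S n).Z.presheaf.stalk (qn x))).map (qn.stalkMap x).hom = Ideal.span {a} := by
      intro T hT
      subst hT
      exact ⟨q (S n), hqg _, hqgen _, hqiso _, hq _⟩
    exact key _ (hS n)
  clear hq hqiso hqgen hqg
  choose qn hqg hqgen hqiso hq using hex
  have hcon : ∀ n, (S n).bad p U s ≠ ∅ := fun n => Set.nonempty_iff_ne_empty.1 (hcon' _)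
  let mp : ∀ n, (S (n + 1)).bad p U s → (S n).bad p U s := fun n x => ⟨qn n x.1, (hq n x.1 x.2).1⟩
  let F : ℕᵒᵖ ⥤ Type u := Functor.ofOpSequence (X := fun n => ↥((S n).bad p U s)) fun n => ↾(mp n)
  haveI : ∀ j, Finite (F.obj j) := fun j => ((S j.unop).bad_props (p := p) hs hU).1.to_subtype
  haveI : ∀ j, Nonempty (F.obj j) := fun j => (Set.nonempty_iff_ne_empty.2 (hcon _)).to_subtype
  obtain ⟨z', hz'⟩ := nonempty_sections_of_finite_inverse_system F
  let z : ∀ n, (S n).Z := fun n => (z' ⟨n⟩).1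
  have hzb : ∀ n, z n ∈ (S n).bad p U s := fun n => (z' ⟨n⟩).2
  have hz : ∀ n, qn n (z (n + 1)) = z n := fun n => by
    have := hz' (homOfLE (Nat.le_succ n)).op
    rw [Functor.ofOpSequence_map_homOfLE_succ] at this
    exact congrArg Subtype.val this
  exact not_bad_chain hs hU S qn hqg hqgen hqiso z hz hzb fun n => (hq n _ (hzb (n + 1))).2

/-- Normalized point blow-ups of the normalization make a section over an open set extend. -/
theorem exists_dominate_norm (X : Scheme.{u}) [IsIntegral X] [IsNoetherian X]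
    (hN : ∀ U : X.affineOpens, CAlg.IsNagata Γ(X, U.1)) (hdim : topologicalKrullDim X = 2)
    [QuasiCompact (X.fromSpecStalk (genericPoint X))] [QuasiSeparated (X.fromSpecStalk (genericPoint X))]
    {Y : Scheme.{u}} (p : Y ⟶ Curv2.normalization X) [IsProper p] (U : X.Opens) (hU : (U : Set X).Nonempty)
    (s : ((Curv2.normalizationι X ⁻¹ᵁ U) : Scheme.{u}) ⟶ Y) (hs : s ≫ p = (Curv2.normalizationι X ⁻¹ᵁ U).ι) :
    ∃ (Xn : Scheme.{u}) (g : Xn ⟶ Curv2.normalization X), Resolve.IsNormPtBlowupSeq g ∧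
      ∃ h : Xn ⟶ Y, h ≫ p = g ∧
        (g ⁻¹ᵁ (Curv2.normalizationι X ⁻¹ᵁ U)).ι ≫ h = (g ∣_ (Curv2.normalizationι X ⁻¹ᵁ U)) ≫ s := by
  obtain ⟨_, hgen, hbij⟩ := H11Curve.exists_residueFieldMap_bijective X
  set ν := Curv2.normalizationι X
  have hN' : ∀ W : X.Opens, IsAffineOpen W → CAlg.IsNagata Γ(X, W) := fun W hW => hN ⟨W, hW⟩
  haveI : IsFinite ν := S9688.result X fun W hW hne' => by
    haveI := hne'
    haveI : IsDomain Γ(X, W) := @IsIntegral.component_integral X _ W hne'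
    exact H1CAlg.isN2_of_ringEquiv (RingEquiv.quotientBot Γ(X, W)) ((hN' W hW).2 ⊥)
  haveI : IsNoetherian (Curv2.normalization X) := isNoetherian_blowUp (b := ν)
  have hne : ((ν ⁻¹ᵁ U : (Curv2.normalization X).Opens) : Set (Curv2.normalization X)).Nonempty :=
    ⟨genericPoint _, show ν (genericPoint _) ∈ U by
      rw [show ν (genericPoint _) = genericPoint X from hgen]
      exact ((genericPoint_spec X).mem_open_set_iff U.2).2 ⟨hU.choose, trivial, hU.choose_spec⟩⟩
  obtain ⟨S, hS⟩ := NStage.exists_good (p := p) hs hne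
    ⟨Curv2.normalization X, inferInstance, inferInstance, 𝟙 _, Resolve.IsNormPtBlowupSeq.iso (Iso.refl _),
      H11Curve.isNormal_normalization X,
      fun W => H12AlgSp.isNagata_affineOpens_of_lft ν hN' W.1 W.2,
      fun z => (stalk_dim_le_of_birational ν hbij z).trans ((ringKrullDim_stalk_le_top _).trans hdim.le),
      fun V hV => ((genericPoint_spec _).mem_open_set_iff V.2).2 ⟨hV.choose, trivial, hV.choose_spec⟩⟩
  exact ⟨S.Z, S.g, S.seq, exists_hom_of_ext_int hs (S.gen _ hne) fun z => by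
    by_contra h
    exact (Set.eq_empty_iff_forall_notMem.1 hS z) h⟩

end Groth.Agent.H28Contr
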