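import Groth.Agent.H10Coh.CohLocal
import Mathlib

/-!
# Degree-one cohomology by cocycles
-/

set_option autoImplicit false
set_option linter.style.haveILetI false
set_option backward.isDefEq.respectTransparency.types false

universe u

open CategoryTheory CategoryTheory.Limits AlgebraicGeometry Opposite TopologicalSpace

namespace Groth.Agent.H28Contr

open H10Coh

attribute [local instance 10000] hasSheafifyAb hasWeakSheafifyAb hasExtAb enoughInjAb

variable {X : Scheme.{u}} {ι : Type u}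

theorem exists_glue (N : X.Modules) (U : ι → X.Opens) (W : X.Opens) (hle : ∀ i, U i ≤ W) (hcov : W ≤ iSup U)
    (s : ∀ i, Γ(N, U i))
    (h : ∀ i j, rs N (inf_le_left : U i ⊓ U j ≤ U i) (s i) = rs N (inf_le_right : U i ⊓ U j ≤ U j) (s j)) :
    ∃ w : Γ(N, W), ∀ i, rs N (hle i) w = s i := by
  obtain ⟨w, hw, -⟩ := TopCat.Sheaf.existsUnique_gluing' (sheafOf N) U W (fun i => homOfLE (hle i)) hcov s h
  exact ⟨w, hw⟩

theorem eq_of_cover (N : X.Modules) (U : ι → X.Opens) {W : X.Opens} (hle : ∀ i, U i ≤ W) (hcov : W ≤ iSup U)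
    {a b : Γ(N, W)} (h : ∀ i, rs N (hle i) a = rs N (hle i) b) : a = b :=
  TopCat.Sheaf.eq_of_locally_eq' (sheafOf N) U W (fun i => homOfLE (hle i)) hcov a b h

/-- A one-cocycle for a family of opens. -/
def IsCocycle (M : X.Modules) (U : ι → X.Opens) (c : ∀ i j, Γ(M, U i ⊓ U j)) : Prop :=
  ∀ i j k (W : X.Opens) (h₁ : W ≤ U i ⊓ U j) (h₂ : W ≤ U j ⊓ U k) (h₃ : W ≤ U i ⊓ U k),
    rs M h₁ (c i j) + rs M h₂ (c j k) = rs M h₃ (c i k)

/-- The cocycle is a coboundary on `W`. -/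
def TrivOn (M : X.Modules) (U : ι → X.Opens) (c : ∀ i j, Γ(M, U i ⊓ U j)) (W : X.Opens) : Prop :=
  ∃ a : ∀ i, Γ(M, U i ⊓ W), ∀ i j (W' : X.Opens) (h₁ : W' ≤ U i ⊓ W) (h₂ : W' ≤ U j ⊓ W) (h₃ : W' ≤ U i ⊓ U j),
    rs M h₁ (a i) - rs M h₂ (a j) = rs M h₃ (c i j)

variable {M : X.Modules} {U : ι → X.Opens} {c : ∀ i j, Γ(M, U i ⊓ U j)}

theorem IsCocycle.self (hc : IsCocycle M U c) (i : ι) (W : X.Opens) (h : W ≤ U i ⊓ U i) : rs M h (c i i) = 0 := by
  simpa using hc i i i W h h h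

theorem IsCocycle.swap (hc : IsCocycle M U c) (i j : ι) (W : X.Opens) (h₁ : W ≤ U i ⊓ U j) (h₂ : W ≤ U j ⊓ U i) :
    rs M h₁ (c i j) = - rs M h₂ (c j i) := by
  rw [eq_neg_iff_add_eq_zero, hc i j i W h₁ h₂ (le_inf (h₁.trans inf_le_left) (h₁.trans inf_le_left)), hc.self]

variable [Finite ι] (R : MRes X)

/-- A cocycle comes from a family of sections of a flasque module. -/
theorem exists_lift_cocycle {c : ∀ i j, Γ(R.Z 0, U i ⊓ U j)} (hc : IsCocycle (R.Z 0) U c) :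
    ∃ d : ∀ i, Γ(R.I 0, U i), ∀ i j (W : X.Opens) (h₁ : W ≤ U i) (h₂ : W ≤ U j) (h₃ : W ≤ U i ⊓ U j),
      rs _ h₁ (d i) - rs _ h₂ (d j) = iA R 0 W (rs _ h₃ (c i j)) := by
  classical
  haveI := Fintype.ofFinite ι
  suffices H : ∀ s : Finset ι, ∃ d : ∀ i, Γ(R.I 0, U i), ∀ i ∈ s, ∀ j ∈ s, ∀ (W : X.Opens) (h₁ : W ≤ U i)
      (h₂ : W ≤ U j) (h₃ : W ≤ U i ⊓ U j), rs _ h₁ (d i) - rs _ h₂ (d j) = iA R 0 W (rs _ h₃ (c i j)) by
    obtain ⟨d, hd⟩ := H Finset.univ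
    exact ⟨d, fun i j => hd i (Finset.mem_univ _) j (Finset.mem_univ _)⟩
  intro s
  induction s using Finset.induction_on with
  | empty => exact ⟨fun _ => 0, by simp⟩
  | insert a s ha ih =>
    obtain ⟨d, hd⟩ := ih
    let V : {j // j ∈ s} → X.Opens := fun j => U a ⊓ U j.1
    obtain ⟨w, hw⟩ := exists_glue (R.I 0) V (⨆ j, V j) (le_iSup V) le_rfl
      (fun j => rs _ inf_le_right (d j.1) + iA R 0 (V j) (c a j.1)) fun j k => by
        simp only [map_add, rs_rs, ← iA_rs]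
        rw [← sub_eq_zero, add_sub_add_comm,
          hd j.1 j.2 k.1 k.2 (V j ⊓ V k) _ _ (le_inf (inf_le_left.trans inf_le_right) (inf_le_right.trans inf_le_right)),
          ← map_sub, ← map_add, ← add_sub_assoc, add_comm]
        rw [hc a j.1 k.1 (V j ⊓ V k) _ _ inf_le_right, sub_self, map_zero]
    obtain ⟨e, he⟩ := exists_rs_eq R 0 (iSup_le fun j => inf_le_left : (⨆ j, V j) ≤ U a) w
    refine ⟨Function.update d a e, fun i hi j hj W h₁ h₂ h₃ => ?_⟩
    have key : ∀ (k : ι) (hk : k ∈ s) (W : X.Opens) (h₁ : W ≤ U a) (h₂ : W ≤ U k) (h₃ : W ≤ U a ⊓ U k),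
        rs _ h₁ e - rs _ h₂ (d k) = iA R 0 W (rs _ h₃ (c a k)) := fun k hk W h₁ h₂ h₃ => by
      have h4 := congrArg (rs (R.I 0) h₃) (hw ⟨k, hk⟩)
      rw [← he] at h4
      simp only [rs_rs, map_add, ← iA_rs] at h4
      rw [h4, add_sub_cancel_left]
      exact (iA_rs R 0 h₃ _).symm
    rcases Finset.mem_insert.1 hi with rfl | hi' <;> rcases Finset.mem_insert.1 hj with rfl | hj'
    · rw [sub_self, hc.self, map_zero]
    · rw [Function.update_self, Function.update_of_ne (fun h : j = i => ha (h ▸ hj'))]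
      exact key j hj' W h₁ h₂ h₃
    · rw [Function.update_self, Function.update_of_ne (fun h : i = j => ha (h ▸ hi')),
        hc.swap i j W h₃ (le_inf h₂ h₁), map_neg, ← key i hi' W h₂ h₁ (le_inf h₂ h₁), neg_sub]
    · rw [Function.update_of_ne (fun h : i = a => ha (h ▸ hi')), Function.update_of_ne (fun h : j = a => ha (h ▸ hj'))]
      exact hd i hi' j hj' W h₁ h₂ h₃

theorem trivOn_of_vanish_aux {c : ∀ i j, Γ(R.Z 0, U i ⊓ U j)} (hc : IsCocycle (R.Z 0) U c) {W : X.Opens}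
    (hcov : W ≤ iSup U) (hv : Subsingleton (HnM (R.Z 0) 1 W)) : TrivOn (R.Z 0) U c W := by
  obtain ⟨d, hd⟩ := exists_lift_cocycle R hc
  obtain ⟨z, hz⟩ := exists_glue (R.Z 1) (fun i => U i ⊓ W) W (fun _ => inf_le_right)
    (fun x hx => by
      obtain ⟨i, hi⟩ := Opens.mem_iSup.1 (hcov hx)
      exact Opens.mem_iSup.2 ⟨i, hi, hx⟩)
    (fun i => pA R 0 _ (rs _ inf_le_left (d i))) fun i j => by
      rw [← sub_eq_zero, ← pA_rs, ← pA_rs, ← map_sub, rs_rs, rs_rs,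
        hd i j _ _ _ (le_inf (inf_le_left.trans inf_le_left) (inf_le_right.trans inf_le_left)), pA_iA]
  rw [subsingleton_iff_Bd] at hv
  obtain ⟨D, hD⟩ := hv z
  choose a ha using fun i => exists_iA_eq R 0 (U i ⊓ W) (rs _ inf_le_left (d i) - rs _ inf_le_right D)
    (by rw [map_sub, pA_rs, pA_rs, hD, hz i, pA_rs, sub_self])
  refine ⟨a, fun i j W' h₁ h₂ h₃ => iA_injective R 0 W' ?_⟩
  rw [map_sub, iA_rs, iA_rs, ha, ha, map_sub, map_sub, rs_rs, rs_rs, rs_rs, rs_rs, sub_sub_sub_cancel_right,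
    hd i j W' _ _ h₃]

/-- Vanishing of first cohomology makes cocycles coboundaries. -/
theorem trivOn_of_vanish (hc : IsCocycle M U c) {W : X.Opens} (hcov : W ≤ iSup U)
    (hv : Subsingleton (HnM M 1 W)) : TrivOn M U c W :=
  trivOn_of_vanish_aux (MRes.inj M) hc hcov hv

theorem vanish_of_trivOn_aux {U : ι → X.Opens} (hcov : ⊤ ≤ iSup U)
    (hv : ∀ i, Subsingleton (HnM (R.Z 0) 1 (U i)))
    (h : ∀ c, IsCocycle (R.Z 0) U c → TrivOn (R.Z 0) U c ⊤) : Subsingleton (HnM (R.Z 0) 1 (⊤ : X.Opens)) := by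
  simp only [subsingleton_iff_Bd] at hv ⊢
  intro z
  choose d hd using fun i => hv i (rs _ le_top z)
  choose c hc using fun i j => exists_iA_eq R 0 (U i ⊓ U j) (rs _ inf_le_left (d i) - rs _ inf_le_right (d j))
    (by rw [map_sub, pA_rs, pA_rs, hd, hd, rs_rs, rs_rs, sub_self])
  obtain ⟨a, ha⟩ := h c fun i j k W h₁ h₂ h₃ => iA_injective R 0 W (by
    rw [map_add, iA_rs, iA_rs, iA_rs, hc, hc, hc]
    simp only [map_sub, rs_rs, sub_add_sub_cancel])
  obtain ⟨D, hD⟩ := exists_glue (R.I 0) U ⊤ (fun _ => le_top) hcov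
    (fun i => d i - iA R 0 (U i) (rs _ (le_inf le_rfl le_top) (a i))) fun i j => by
      have h1 := congrArg (iA R 0 (U i ⊓ U j)) (ha i j (U i ⊓ U j) (le_inf inf_le_left le_top) (le_inf inf_le_right le_top) le_rfl)
      rw [rs_self, hc, map_sub] at h1
      simp only [map_sub, ← iA_rs, rs_rs]
      linear_combination (norm := module) -h1
  refine ⟨D, eq_of_cover _ U (fun _ => le_top) hcov fun i => ?_⟩
  rw [← pA_rs, hD i, map_sub, pA_iA, sub_zero, hd]

/-- A cover with vanishing cohomology and trivial cocycles gives global vanishing. -/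
theorem vanish_of_trivOn {U : ι → X.Opens} (hcov : ⊤ ≤ iSup U) (hv : ∀ i, Subsingleton (HnM M 1 (U i)))
    (h : ∀ c, IsCocycle M U c → TrivOn M U c ⊤) : Subsingleton (HnM M 1 (⊤ : X.Opens)) :=
  vanish_of_trivOn_aux (MRes.inj M) hcov hv h

end Groth.Agent.H28Contr
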