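import Mathlib

/-!
# Blowing up a point improves the colength: the algebra in a chart

`A` has a maximal ideal `m = (g, h)`, `C` is generated over `A` by one element `t` with `t g = h`, and `g` is a
nonzerodivisor of `C`. If `I ⊆ m` contains a power of `m`, then `I C = g ^ d J` with `C / J` of length less than
that of `A / I`.
-/

set_option autoImplicit false

universe u

open Polynomial

namespace Groth.Agent.H28Contr

variable {A C : Type u} [CommRing A] [CommRing C] [Algebra A C] {m : Ideal A} {g h : A} {t : C}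

/-- Elements of `m ^ n` are `g ^ n F(t)` with `F` of degree `≤ n`, and `F ≢ 0 (mod m)` unless in `m ^ (n + 1)`. -/
theorem exists_form (hm : m = Ideal.span {g, h}) (ht : t * algebraMap A C g = algebraMap A C h) :
    ∀ (n : ℕ) (z : A), z ∈ m ^ n → ∃ F : A[X], F.natDegree ≤ n ∧
      algebraMap A C z = algebraMap A C g ^ n * aeval t F ∧
      z = ∑ i ∈ Finset.range (n + 1), F.coeff i * g ^ (n - i) * h ^ i := by
  intro n
  induction n with
  | zero => exact fun z _ => ⟨Polynomial.C z, by simp, by simp, by simp⟩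
  | succ n ih =>
    intro z hz
    rw [pow_succ] at hz
    induction hz using Submodule.mul_induction_on' with
    | mem_mul_mem x hx w hw =>
      obtain ⟨F, hF, hFx, hFs⟩ := ih x hx
      rw [hm] at hw
      obtain ⟨p, q, rfl⟩ := Ideal.mem_span_pair.1 hw
      have hc : ∀ i, (F * X).coeff i = if i = 0 then 0 else F.coeff (i - 1) := fun i => by
        cases i <;> simp
      refine ⟨Polynomial.C p * F + Polynomial.C q * (F * X), ?_, ?_, ?_⟩
      · refine (natDegree_add_le _ _).trans (max_le ?_ ?_)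
        · exact (natDegree_C_mul_le _ _).trans (hF.trans n.le_succ)
        · exact (natDegree_C_mul_le _ _).trans (natDegree_mul_le.trans (add_le_add hF natDegree_X_le))
      · simp only [map_add, map_mul, aeval_C, aeval_X, pow_succ, hFx, ← ht]
        ring
      · have hcs : F.coeff (n + 1) = 0 := coeff_eq_zero_of_natDegree_lt (Nat.lt_succ_of_le hF)
        have e1 : x * (p * g) = ∑ i ∈ Finset.range (n + 1 + 1), p * F.coeff i * g ^ (n + 1 - i) * h ^ i := by
          rw [Finset.sum_range_succ _ (n + 1), hcs, mul_zero, zero_mul, zero_mul, add_zero, hFs, Finset.sum_mul]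
          refine Finset.sum_congr rfl fun i hi => ?_
          rw [show n + 1 - i = (n - i) + 1 by have := Finset.mem_range.1 hi; omega]
          ring
        have e2 : x * (q * h) = ∑ i ∈ Finset.range (n + 1 + 1), q * (F * X).coeff i * g ^ (n + 1 - i) * h ^ i := by
          rw [Finset.sum_range_succ' _ (n + 1), hc 0, if_pos rfl, mul_zero, zero_mul, zero_mul, add_zero, hFs,
            Finset.sum_mul]
          refine Finset.sum_congr rfl fun i _ => ?_
          rw [hc, if_neg i.succ_ne_zero, Nat.add_sub_cancel, Nat.add_sub_add_right]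
          ring
        rw [mul_add, e1, e2, ← Finset.sum_add_distrib]
        refine Finset.sum_congr rfl fun i _ => ?_
        rw [coeff_add, coeff_C_mul, coeff_C_mul]
        ring
    | add x _ w _ hx hw =>
      obtain ⟨F, hF, hFx, hFs⟩ := hx
      obtain ⟨G, hG, hGx, hGs⟩ := hw
      refine ⟨F + G, (natDegree_add_le _ _).trans (max_le hF hG), by rw [map_add, map_add, mul_add, hFx, hGx], ?_⟩
      rw [hFs, hGs, ← Finset.sum_add_distrib]
      exact Finset.sum_congr rfl fun i _ => by rw [coeff_add]; ring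

/-- The transform of an `m`-primary ideal in a chart has smaller colength. -/
theorem exists_transform [IsNoetherianRing A] [m.IsMaximal] (hm : m = Ideal.span {g, h})
    (ht : t * algebraMap A C g = algebraMap A C h) (hg : algebraMap A C g ∈ nonZeroDivisors C)
    (hsur : Function.Surjective (aeval (R := A) t)) (I : Ideal A) (N : ℕ) (hN : m ^ N ≤ I) (hI : I ≤ m)
    (hsep : ∀ z, (∀ n, z ∈ m ^ n) → z ∈ I) (hne : ¬ ∀ n, I ≤ m ^ n) :
    ∃ (d : ℕ) (J : Ideal C), I.map (algebraMap A C) = Ideal.span {algebraMap A C g ^ d} * J ∧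
      algebraMap A C g ^ N ∈ J ∧ Module.length A (C ⧸ J) < Module.length A (A ⧸ I) := by
  classical
  obtain ⟨k, hk⟩ := not_forall.1 hne
  -- the order of `I`
  let d := Nat.findGreatest (fun n => I ≤ m ^ n) k
  have hd : I ≤ m ^ d := Nat.findGreatest_spec (P := fun n => I ≤ m ^ n) (m := 0) (Nat.zero_le _)
    (by simp)
  have hdk : d < k := lt_of_le_of_ne (Nat.findGreatest_le _) fun e => hk (e ▸ hd)
  have hd1 : ¬ I ≤ m ^ (d + 1) := Nat.findGreatest_is_greatest (Nat.lt_succ_self d) hdk
  have hd0 : 0 < d := by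
    by_contra h0
    exact hd1 (by rw [show d = 0 by omega, zero_add, pow_one]; exact hI)
  let G := algebraMap A C g
  have hmC : ∀ z ∈ m, algebraMap A C z ∈ Ideal.span {G} := fun z hz => by
    rw [hm] at hz
    obtain ⟨p, q, rfl⟩ := Ideal.mem_span_pair.1 hz
    refine Ideal.mem_span_singleton'.2 ⟨algebraMap A C p + algebraMap A C q * t, ?_⟩
    simp only [map_add, map_mul, G, ← ht]
    ring
  let J : Ideal C := Submodule.comap (LinearMap.mulLeft C (G ^ d)) (I.map (algebraMap A C))
  have hform := exists_form (A := A) hm ht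
  have hIJ : I.map (algebraMap A C) = Ideal.span {G ^ d} * J := by
    refine le_antisymm (Ideal.map_le_iff_le_comap.2 fun z hz => ?_) ?_
    · obtain ⟨F, -, hF, -⟩ := hform d z (hd hz)
      rw [Ideal.mem_comap, Ideal.mem_span_singleton_mul]
      exact ⟨aeval t F, (show G ^ d * aeval t F ∈ _ from hF ▸ Ideal.mem_map_of_mem _ hz), hF.symm⟩
    · refine Ideal.mul_le.2 fun p hp c hc => ?_
      obtain ⟨r, rfl⟩ := Ideal.mem_span_singleton'.1 hp
      rw [mul_assoc]
      exact Ideal.mul_mem_left _ r hc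
  have hNJ : G ^ N ∈ J := by
    show G ^ d * G ^ N ∈ I.map (algebraMap A C)
    refine Ideal.mul_mem_left _ (G ^ d) ?_
    rw [← map_pow]
    exact Ideal.mem_map_of_mem _ (hN (Ideal.pow_mem_pow (hm ▸ Ideal.subset_span (Set.mem_insert _ _)) N))
  refine ⟨d, J, hIJ, hNJ, ?_⟩
  -- division by `g ^ d`
  have hdiv : ∀ z : ↥(m ^ d), ∃ c : C, G ^ d * c = algebraMap A C (z : A) := fun z => by
    obtain ⟨F, -, hF, -⟩ := hform d z z.2
    exact ⟨aeval t F, hF.symm⟩
  choose ψ hψ using hdiv
  have hcan : ∀ {a b : C}, G ^ d * a = G ^ d * b → a = b := fun e =>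
    (mul_cancel_left_mem_nonZeroDivisors (pow_mem hg d)).1 e
  let Ψ : ↥(m ^ d) →ₗ[A] C ⧸ J :=
    { toFun := fun z => Ideal.Quotient.mk J (ψ z)
      map_add' := fun z w => by
        rw [← map_add]
        congr 1
        exact hcan (by rw [hψ, mul_add, hψ, hψ, ← map_add]; rfl)
      map_smul' := fun r z => by
        show Ideal.Quotient.mk J (ψ (r • z)) = r • Ideal.Quotient.mk J (ψ z)
        rw [Algebra.smul_def, IsScalarTower.algebraMap_apply A C (C ⧸ J) r, Ideal.Quotient.algebraMap_eq,
          ← map_mul]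
        congr 1
        exact hcan (by rw [hψ, mul_left_comm, hψ, ← map_mul]; rfl) }
  -- the range contains the low powers of `t` and is stable under multiplication by `g`
  have hpow : ∀ i ≤ d, ∀ r : A, Ideal.Quotient.mk J (algebraMap A C r * t ^ i) ∈ LinearMap.range Ψ := by
    intro i hi r
    have hmem : r * (g ^ (d - i) * h ^ i) ∈ m ^ d := by
      refine Ideal.mul_mem_left _ r ?_
      rw [show m ^ d = m ^ (d - i) * m ^ i by rw [← pow_add]; congr 1; omega]
      exact Ideal.mul_mem_mul (Ideal.pow_mem_pow (hm ▸ Ideal.subset_span (Set.mem_insert _ _)) _)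
        (Ideal.pow_mem_pow (hm ▸ Ideal.subset_span (Set.mem_insert_of_mem _ rfl)) _)
    refine ⟨⟨_, hmem⟩, congrArg (Ideal.Quotient.mk J) (hcan ?_)⟩
    rw [hψ, show G ^ d = G ^ (d - i) * G ^ i by rw [← pow_add]; congr 1; omega]
    simp only [map_mul, map_pow, G, ← ht, mul_pow]
    ring
  have hlow : ∀ R : A[X], R.natDegree ≤ d → Ideal.Quotient.mk J (aeval t R) ∈ LinearMap.range Ψ := by
    intro R hR
    rw [aeval_eq_sum_range' (Nat.lt_succ_of_le hR), map_sum]
    refine sum_mem fun i hi => ?_
    rw [Algebra.smul_def]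
    exact hpow i (Nat.lt_succ_iff.1 (Finset.mem_range.1 hi)) _
  -- a relation of degree at most `d` modulo `m`
  obtain ⟨z, hzI, hzd⟩ := SetLike.not_le_iff_exists.1 hd1
  obtain ⟨F, hF, hFz, hFs⟩ := hform d z (hd hzI)
  have hFJ : aeval t F ∈ J := show G ^ d * aeval t F ∈ _ from hFz ▸ Ideal.mem_map_of_mem _ hzI
  let f := F.map (Ideal.Quotient.mk m)
  have hf0 : f ≠ 0 := fun h0 => hzd (by
    rw [hFs]
    refine sum_mem fun i hi => ?_
    have hci : F.coeff i ∈ m := Ideal.Quotient.eq_zero_iff_mem.1 (by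
      have := congrArg (Polynomial.coeff · i) h0; simpa [f] using this)
    rw [pow_succ', mul_assoc]
    refine Ideal.mul_mem_mul hci ?_
    rw [show m ^ d = m ^ (d - i) * m ^ i by rw [← pow_add]; congr 1; have := Finset.mem_range.1 hi; omega]
    exact Ideal.mul_mem_mul (Ideal.pow_mem_pow (hm ▸ Ideal.subset_span (Set.mem_insert _ _)) _)
      (Ideal.pow_mem_pow (hm ▸ Ideal.subset_span (Set.mem_insert_of_mem _ rfl)) _))
  letI : Field (A ⧸ m) := Ideal.Quotient.field m
  have hfd : f.natDegree ≤ d := natDegree_map_le.trans hF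
  -- modulo `g` everything is a polynomial of degree `≤ d`
  have hstep : ∀ c : C, ∃ R : A[X], ∃ c' : C, R.natDegree ≤ d ∧
      Ideal.Quotient.mk J c = Ideal.Quotient.mk J (aeval t R) + Ideal.Quotient.mk J (G * c') := by
    intro c
    obtain ⟨p, rfl⟩ := hsur c
    have hu : IsUnit f.leadingCoeff := (leadingCoeff_ne_zero.2 hf0).isUnit
    obtain ⟨Q, R, hR, hQR⟩ : ∃ Q R : (A ⧸ m)[X], R.natDegree ≤ d ∧ p.map (Ideal.Quotient.mk m) = f * Q + R := by
      refine ⟨p.map (Ideal.Quotient.mk m) / f, p.map (Ideal.Quotient.mk m) % f, ?_,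
        (EuclideanDomain.div_add_mod _ _).symm⟩
      rcases eq_or_ne f.natDegree 0 with h0 | h0
      · have : IsUnit f := by
          rw [eq_C_of_natDegree_eq_zero h0]
          rw [eq_C_of_natDegree_eq_zero h0] at hf0
          exact isUnit_C.2 (isUnit_iff_ne_zero.2 (C_ne_zero.1 hf0))
        rw [EuclideanDomain.mod_eq_zero.2 this.dvd]; simp
      · exact ((natDegree_mod_lt _ h0).le).trans hfd
    obtain ⟨Q', hQ'⟩ := Polynomial.map_surjective (Ideal.Quotient.mk m) Ideal.Quotient.mk_surjective Q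
    obtain ⟨R', hR'⟩ : ∃ R' : A[X], R'.map (Ideal.Quotient.mk m) = R ∧ R'.natDegree ≤ d := by
      obtain ⟨R', hR', hdeg⟩ := Polynomial.mem_lifts_and_degree_eq (f := Ideal.Quotient.mk m) (p := R)
        (Polynomial.map_surjective _ Ideal.Quotient.mk_surjective R)
      exact ⟨R', hR', (natDegree_eq_of_degree_eq hdeg).trans_le hR⟩
    have hker : aeval t (p - F * Q' - R') ∈ Ideal.span {G} := by
      have h0 : (p - F * Q' - R').map (Ideal.Quotient.mk m) = 0 := by
        rw [Polynomial.map_sub, Polynomial.map_sub, Polynomial.map_mul, hQ', hR'.1, hQR]; ring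
      rw [aeval_eq_sum_range]
      refine sum_mem fun i _ => ?_
      rw [Algebra.smul_def]
      refine Ideal.mul_mem_right _ _ (hmC _ (Ideal.Quotient.eq_zero_iff_mem.1 ?_))
      rw [← Polynomial.coeff_map, h0, coeff_zero]
    obtain ⟨c', hc'⟩ := Ideal.mem_span_singleton'.1 hker
    refine ⟨R', c', hR'.2, ?_⟩
    rw [← map_add, Ideal.Quotient.eq]
    rw [map_sub, map_sub, map_mul] at hc'
    rw [show aeval t p - (aeval t R' + G * c') = aeval t F * aeval t Q' by linear_combination -hc']
    exact Ideal.mul_mem_right _ _ hFJ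
  have hG : ∀ q ∈ LinearMap.range Ψ, Ideal.Quotient.mk J G * q ∈ LinearMap.range Ψ := fun q hq => by
    have : g • q ∈ LinearMap.range Ψ := Submodule.smul_mem _ g hq
    rwa [Algebra.smul_def, IsScalarTower.algebraMap_apply A C (C ⧸ J)] at this
  have hiter : ∀ (n : ℕ) (c : C), ∃ q ∈ LinearMap.range Ψ, ∃ c' : C,
      Ideal.Quotient.mk J c = q + Ideal.Quotient.mk J (G ^ n * c') := by
    intro n
    induction n with
    | zero => exact fun c => ⟨0, zero_mem _, c, by simp⟩
    | succ n ih =>
      intro c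
      obtain ⟨R, c₁, hR, e⟩ := hstep c
      obtain ⟨q, hq, c', e'⟩ := ih c₁
      refine ⟨Ideal.Quotient.mk J (aeval t R) + Ideal.Quotient.mk J G * q, add_mem (hlow R hR) (hG q hq), c', ?_⟩
      rw [e, map_mul, e', pow_succ', mul_assoc, mul_add, add_assoc]
      simp only [map_mul]
  have hsurjΨ : LinearMap.range Ψ = ⊤ := by
    refine eq_top_iff.2 fun q _ => ?_
    obtain ⟨c, rfl⟩ := Ideal.Quotient.mk_surjective q
    obtain ⟨q, hq, c', e⟩ := hiter N c
    rw [e, Ideal.Quotient.eq_zero_iff_mem.2 (J.mul_mem_right c' hNJ), add_zero]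
    exact hq
  -- the kernel contains the part of `I` in `m ^ d`
  let e₁ : ↥(m ^ d) →ₗ[A] A ⧸ I := (Submodule.mkQ I).comp (Submodule.subtype (m ^ d))
  have hker : LinearMap.ker e₁ ≤ LinearMap.ker Ψ := fun w hw => by
    have hwI : (w : A) ∈ I := (Submodule.Quotient.mk_eq_zero I).1 hw
    exact Ideal.Quotient.eq_zero_iff_mem.2 (show G ^ d * ψ w ∈ _ from hψ w ▸ Ideal.mem_map_of_mem _ hwI)
  have hlt : LinearMap.range e₁ < ⊤ := by
    refine lt_top_iff_ne_top.2 fun htop => ?_
    obtain ⟨w, hw⟩ : Submodule.Quotient.mk (p := I) (1 : A) ∈ LinearMap.range e₁ := htop ▸ trivial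
    have h1 : (1 : A) - (w : A) ∈ I := by
      rw [← Submodule.Quotient.eq]; exact hw.symm
    have h2 : (1 : A) ∈ m := by
      have := add_mem (hI h1) (Ideal.pow_le_self hd0.ne' w.2)
      rwa [sub_add_cancel] at this
    exact Ideal.IsMaximal.ne_top inferInstance ((Ideal.eq_top_iff_one m).2 h2)
  haveI hfin : IsFiniteLength A (A ⧸ I) := by
    rw [isFiniteLength_iff_isNoetherian_isArtinian]
    refine ⟨inferInstance, ?_⟩
    haveI : Ring.KrullDimLE 0 (A ⧸ I) := Ring.KrullDimLE.mk₀ fun P hP => by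
      have hPm : P.comap (Ideal.Quotient.mk I) = m := by
        haveI := hP.comap (Ideal.Quotient.mk I)
        have hle : m ^ N ≤ P.comap (Ideal.Quotient.mk I) := hN.trans fun x hx => by
          rw [Ideal.mem_comap, Ideal.Quotient.eq_zero_iff_mem.2 hx]; exact zero_mem _
        exact (Ideal.IsMaximal.eq_of_le inferInstance (Ideal.IsPrime.ne_top inferInstance)
          (Ideal.IsPrime.le_of_pow_le (P := P.comap (Ideal.Quotient.mk I)) hle)).symm
      haveI : (P.comap (Ideal.Quotient.mk I)).IsMaximal := hPm.symm ▸ inferInstance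
      exact (Ideal.map_comap_of_surjective _ Ideal.Quotient.mk_surjective P) ▸
        (Ideal.map_eq_top_or_isMaximal_of_surjective _ Ideal.Quotient.mk_surjective inferInstance).resolve_left
          ((Ideal.map_comap_of_surjective _ Ideal.Quotient.mk_surjective P).symm ▸ hP.ne_top)
    haveI : IsArtinianRing (A ⧸ I) := isArtinianRing_iff_krullDimLE_zero.2 inferInstance
    exact isArtinian_of_surjective_algebraMap (R := A ⧸ I) (M := A ⧸ I) (S := A) Ideal.Quotient.mk_surjective
  obtain ⟨hno, har⟩ := isFiniteLength_iff_isNoetherian_isArtinian.1 hfin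
  calc Module.length A (C ⧸ J) ≤ Module.length A (↥(m ^ d) ⧸ LinearMap.ker e₁) :=
        Module.length_le_of_surjective (Submodule.liftQ _ Ψ hker) (by
          rw [← LinearMap.range_eq_top, Submodule.range_liftQ, hsurjΨ])
    _ = Module.length A (LinearMap.range e₁) := e₁.quotKerEquivRange.length_eq
    _ < Module.length A (A ⧸ I) := Submodule.length_lt hlt.ne

end Groth.Agent.H28Contr
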