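import Groth.Agent.H28Contr.StalkStep

/-!
# An infinite sequence of point blow-ups gives a valuation ring
-/

set_option autoImplicit false
set_option linter.style.haveILetI false
set_option backward.isDefEq.respectTransparency.types false

universe u

open CategoryTheory Limits AlgebraicGeometry TopologicalSpace

namespace Groth.Agent.H28Contr

/-- `ι` presents `K` as the fraction field of `R`. -/
structure FracHom {R K : Type u} [CommRing R] [Field K] (ι : R →+* K) : Prop where
  inj : Function.Injective ι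
  frac : ∀ k : K, ∃ a s : R, s ≠ 0 ∧ ι s * k = ι a

theorem fracHom_algebraMap (R : Type u) [CommRing R] [IsDomain R] :
    FracHom (algebraMap R (FractionRing R)) where
  inj := IsFractionRing.injective R (FractionRing R)
  frac k := by
    obtain ⟨a, s, hs, rfl⟩ := IsFractionRing.div_surjective R k
    refine ⟨a, s, nonZeroDivisors.ne_zero hs, ?_⟩
    rw [mul_div_cancel₀ _ fun h => nonZeroDivisors.ne_zero hs (IsFractionRing.injective R (FractionRing R) (by rw [h, map_zero]))]

/-- A birational injection extends the fraction map. -/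
theorem FracHom.exists_extend {R S K : Type u} [CommRing R] [IsDomain R] [CommRing S] [IsDomain S] [Field K]
    {ι : R →+* K} (h : FracHom ι) (φ : R →+* S) (hinj : Function.Injective φ)
    (hbir : ∀ z : S, ∃ a s : R, s ≠ 0 ∧ φ s * z = φ a) :
    ∃ ι' : S →+* K, ι'.comp φ = ι ∧ FracHom ι' := by
  letI := ι.toAlgebra
  haveI : FaithfulSMul R K := (faithfulSMul_iff_algebraMap_injective R K).2 h.inj
  haveI : IsFractionRing R K := IsFractionRing.of_field R K fun z => by
    obtain ⟨a, s, hs, he⟩ := h.frac z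
    exact ⟨a, s, by
      rw [eq_div_iff fun h0 => hs (h.inj (by rw [show ι s = algebraMap R K s from rfl, h0, map_zero])), mul_comm]
      exact he⟩
  let g : R →+* FractionRing S := (algebraMap S (FractionRing S)).comp φ
  have hg : Function.Injective g := (IsFractionRing.injective S (FractionRing S)).comp hinj
  let j : K →+* FractionRing S := IsFractionRing.lift hg
  have hj : ∀ r, j (ι r) = algebraMap S (FractionRing S) (φ r) := fun r => IsFractionRing.lift_algebraMap hg r
  have hmem : ∀ v : S, ∃ k : K, j k = algebraMap S (FractionRing S) v := fun v => by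
    obtain ⟨a, s, hs, he⟩ := hbir v
    refine ⟨ι a / ι s, ?_⟩
    rw [map_div₀, hj, hj, div_eq_iff (fun h0 => hs (hg (by rw [map_zero]; exact h0))), ← map_mul, ← he, mul_comm]
  have hbij : Function.Bijective j := ⟨j.injective, fun f => by
    obtain ⟨x, y, -, rfl⟩ := IsFractionRing.div_surjective S f
    obtain ⟨k₁, h₁⟩ := hmem x
    obtain ⟨k₂, h₂⟩ := hmem y
    exact ⟨k₁ / k₂, by rw [map_div₀, h₁, h₂]⟩⟩
  let e : K ≃+* FractionRing S := RingEquiv.ofBijective j hbij
  refine ⟨e.symm.toRingHom.comp (algebraMap S (FractionRing S)), RingHom.ext fun r => ?_, ⟨?_, fun k => ?_⟩⟩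
  · exact e.injective (by simpa [e] using (hj r).symm)
  · exact e.symm.injective.comp (IsFractionRing.injective S (FractionRing S))
  · obtain ⟨a, s, hs, he⟩ := h.frac k
    refine ⟨φ a, φ s, fun h0 => hs (hinj (by rw [h0, map_zero])), e.injective ?_⟩
    rw [map_mul]
    simp only [RingHom.comp_apply, RingEquiv.toRingHom_eq_coe, RingEquiv.coe_toRingHom, RingEquiv.apply_symm_apply]
    show _ * j k = _
    rw [← hj, ← hj, ← map_mul, he]

/-- Two generators of a principal ideal of a local ring divide one another. -/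
theorem dvd_or_dvd_of_isPrin {R : Type u} [CommRing R] [IsDomain R] [IsLocalRing R] (a b : R)
    (h : IsPrin R (Ideal.span {a, b})) : a ∣ b ∨ b ∣ a := by
  obtain ⟨c, hc, hK⟩ := h
  have hak : a ∈ Ideal.span ({c} : Set R) := by rw [← hK]; exact Ideal.subset_span (Set.mem_insert a {b})
  have hbk : b ∈ Ideal.span ({c} : Set R) := by
    rw [← hK]; exact Ideal.subset_span (Set.mem_insert_of_mem a rfl)
  obtain ⟨a', rfl⟩ := Ideal.mem_span_singleton.1 hak
  obtain ⟨b', rfl⟩ := Ideal.mem_span_singleton.1 hbk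
  have hck : c ∈ Ideal.span ({c * a', c * b'} : Set R) := by rw [hK]; exact Ideal.mem_span_singleton_self c
  obtain ⟨r, t, hrt⟩ := Ideal.mem_span_pair.1 hck
  have h1 : r * a' + t * b' = 1 := mul_left_cancel₀ (nonZeroDivisors.ne_zero hc) (by linear_combination hrt)
  rcases IsLocalRing.isUnit_or_isUnit_of_add_one h1 with hu | hu
  · exact Or.inl (mul_dvd_mul_left c (isUnit_of_mul_isUnit_right hu).dvd)
  · exact Or.inr (mul_dvd_mul_left c (isUnit_of_mul_isUnit_right hu).dvd)

theorem exists_valuation_ring {R : ℕ → Type u} [∀ n, CommRing (R n)] [∀ n, IsDomain (R n)]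
    [∀ n, IsLocalRing (R n)] (φ : ∀ n, R n →+* R (n + 1)) (hφ : ∀ n, StepHom (φ n))
    (hcol : ∀ a b : R 0, a ≠ 0 → ∃ m, ColBound (R 0) (Ideal.span {a, b}) m) :
    ∃ (V : ValuationSubring (FractionRing (R 0))) (ι : ∀ n, R n →+* V),
      (∀ r, ((ι 0 r : V) : FractionRing (R 0)) = algebraMap (R 0) (FractionRing (R 0)) r) ∧
        (∀ n, (ι (n + 1)).comp (φ n) = ι n) ∧ (∀ n, Function.Injective (ι n)) ∧ (∀ n, IsLocalHom (ι n)) ∧
        ∀ v : V, ∃ n r, ι n r = v := by
  set K := FractionRing (R 0)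
  let J : ∀ n, {ι : R n →+* K // FracHom ι} :=
    Nat.rec ⟨algebraMap (R 0) K, fracHom_algebraMap (R 0)⟩ fun n ι =>
      ⟨(ι.2.exists_extend (φ n) (hφ n).inj (hφ n).birat).choose,
        (ι.2.exists_extend (φ n) (hφ n).inj (hφ n).birat).choose_spec.2⟩
  let j : ∀ n, R n →+* K := fun n => (J n).1
  have hj0 : j 0 = algebraMap (R 0) K := rfl
  have hjinj : ∀ n, Function.Injective (j n) := fun n => (J n).2.inj
  have hjstep : ∀ n, (j (n + 1)).comp (φ n) = j n := fun n =>
    ((J n).2.exists_extend (φ n) (hφ n).inj (hφ n).birat).choose_spec.1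
  have hmono : ∀ n m, n ≤ m → (j n).range ≤ (j m).range := fun n m hnm => by
    induction m, hnm using Nat.le_induction with
    | base => exact le_rfl
    | succ m _ ih =>
      refine ih.trans ?_
      rintro _ ⟨r, rfl⟩
      exact ⟨φ m r, by rw [← RingHom.comp_apply, hjstep]⟩
  have hdir : Directed (· ≤ ·) fun n => (j n).range := fun a b =>
    ⟨max a b, hmono _ _ (le_max_left _ _), hmono _ _ (le_max_right _ _)⟩
  have hmem : ∀ x, x ∈ (⨆ n, (j n).range) ↔ ∃ n r, j n r = x := fun x => by
    simp [Subring.mem_iSup_of_directed hdir]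
  have hdvd : ∀ m n (a b : R n), a ≠ 0 → b ≠ 0 → ColBound (R n) (Ideal.span {a, b}) m →
      (j n b / j n a ∈ ⨆ n, (j n).range) ∨ (j n a / j n b ∈ ⨆ n, (j n).range) := by
    intro m
    induction m with
    | zero =>
      intro n a b ha hb h
      have ha' : j n a ≠ 0 := fun h0 => ha (hjinj n (by rw [h0, map_zero]))
      have hb' : j n b ≠ 0 := fun h0 => hb (hjinj n (by rw [h0, map_zero]))
      rcases dvd_or_dvd_of_isPrin a b h.isPrin with ⟨c, rfl⟩ | ⟨c, rfl⟩
      · exact Or.inl ((hmem _).2 ⟨n, c, by rw [map_mul, mul_div_cancel_left₀ _ ha']⟩)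
      · exact Or.inr ((hmem _).2 ⟨n, c, by rw [map_mul, mul_div_cancel_left₀ _ hb']⟩)
    | succ m ih =>
      intro n a b ha hb h
      have h' := (hφ n).colBound _ m h
      rw [Ideal.map_span, Set.image_pair] at h'
      have := ih (n + 1) (φ n a) (φ n b) (fun h0 => ha ((hφ n).inj (by rw [h0, map_zero])))
        (fun h0 => hb ((hφ n).inj (by rw [h0, map_zero]))) h'
      rwa [← RingHom.comp_apply (j (n + 1)), hjstep, ← RingHom.comp_apply (j (n + 1)), hjstep] at this
  let V : ValuationSubring K := ValuationSubring.ofSubring (⨆ n, (j n).range) fun x => by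
    rcases eq_or_ne x 0 with rfl | hx
    · exact Or.inl (zero_mem _)
    obtain ⟨b, a, ha, he⟩ := IsFractionRing.div_surjective (R 0) x
    have ha0 : a ≠ 0 := nonZeroDivisors.ne_zero ha
    have hb0 : b ≠ 0 := fun h0 => hx (by rw [← he, h0, map_zero, zero_div])
    obtain ⟨m, hm⟩ := hcol a b ha0
    rw [← he, inv_div]
    exact hdvd m 0 a b ha0 hb0 hm
  have hV : ∀ n r, j n r ∈ V := fun n r => (hmem _).2 ⟨n, r, rfl⟩
  let ι : ∀ n, R n →+* V := fun n => (j n).codRestrict V.toSubring (hV n)
  have hιinj : ∀ n, Function.Injective (ι n) := fun n a b h => hjinj n (congrArg Subtype.val h)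
  have hιstep : ∀ n, (ι (n + 1)).comp (φ n) = ι n := fun n =>
    RingHom.ext fun r => Subtype.ext (congrArg (fun f : R n →+* K => f r) (hjstep n))
  have hsur : ∀ v : V, ∃ n r, ι n r = v := fun v => by
    obtain ⟨n, r, hr⟩ := (hmem _).1 v.2
    exact ⟨n, r, Subtype.ext hr⟩
  have hpush : ∀ n m, n ≤ m → ∃ Φ : R n →+* R m, IsLocalHom Φ ∧ (ι m).comp Φ = ι n := fun n m hnm => by
    induction m, hnm using Nat.le_induction with
    | base => exact ⟨RingHom.id _, ⟨fun _ h => h⟩, RingHom.comp_id _⟩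
    | succ m _ ih =>
      obtain ⟨Φ, hΦ, he⟩ := ih
      exact ⟨(φ m).comp Φ, ⟨fun a ha => hΦ.map_nonunit a ((hφ m).isLocalHom.map_nonunit _ ha)⟩,
        by rw [← RingHom.comp_assoc, hιstep, he]⟩
  refine ⟨V, ι, fun r => rfl, hιstep, hιinj, fun n => ⟨fun a ha => ?_⟩, hsur⟩
  obtain ⟨w, hw⟩ := ha.exists_right_inv
  obtain ⟨m, r, rfl⟩ := hsur w
  obtain ⟨Φ, hΦ, he⟩ := hpush n (max n m) (le_max_left _ _)
  obtain ⟨Ψ, -, he'⟩ := hpush m (max n m) (le_max_right _ _)
  refine hΦ.map_nonunit a (IsUnit.of_mul_eq_one (Ψ r) (hιinj _ ?_))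
  rw [map_mul, map_one, ← RingHom.comp_apply, ← RingHom.comp_apply, he, he', hw]

end Groth.Agent.H28Contr
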