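import Groth.Agent.H28Contr.DomAlg
import Groth.Agent.H28Neron.Hartogs

/-!
# Extending a partial section of a proper morphism at a point
-/

set_option autoImplicit false
set_option linter.style.haveILetI false
set_option backward.isDefEq.respectTransparency.types false

universe u

open CategoryTheory Limits AlgebraicGeometry TopologicalSpace

namespace Groth.Agent.H28Contr

variable {X Y Z Z' : Scheme.{u}} (p : Y ⟶ X) (U : X.Opens) (s : (U : Scheme.{u}) ⟶ Y)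

/-- A lift of `W ⟶ X` to `Y` agreeing with the section over `U`. -/
def Compat (g : Z ⟶ X) (W : Z.Opens) (h : (W : Scheme.{u}) ⟶ Y) : Prop :=
  h ≫ p = W.ι ≫ g ∧ ∀ (T : Scheme.{u}) (a : T ⟶ W) (c : T ⟶ U), a ≫ W.ι ≫ g = c ≫ U.ι → a ≫ h = c ≫ s

/-- The section extends near `z`. -/
def Ext (g : Z ⟶ X) (z : Z) : Prop :=
  ∃ (W : Z.Opens) (h : (W : Scheme.{u}) ⟶ Y), z ∈ W ∧ Compat p U s g W h

/-- The points outside `U` are regular of dimension at most two and generise into `U`. -/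
structure Inv (g : Z ⟶ X) : Prop where
  reg : ∀ z, g z ∉ U → IsRegularLocalRing (Z.presheaf.stalk z)
  dim : ∀ z, g z ∉ U → ringKrullDim (Z.presheaf.stalk z) ≤ 2
  gen : ∀ z, g z ∉ U → ∀ P : PrimeSpectrum (Z.presheaf.stalk z), P.asIdeal = ⊥ → g (Z.fromSpecStalk z P) ∈ U

theorem Inv.isDomain {U : X.Opens} {g : Z ⟶ X} (h : Inv U g) {z : Z} (hz : g z ∉ U) :
    IsDomain (Z.presheaf.stalk z) := by
  haveI := h.reg z hz
  exact H4Depth.isDomain_of_isRegularLocalRing _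

/-- An injection of a stalk into a field gives a point over `U`. -/
theorem Inv.exists_lift {U : X.Opens} {g : Z ⟶ X} (h : Inv U g) {z : Z} (hz : g z ∉ U) {L : Type u} [Field L]
    (ι : Z.presheaf.stalk z →+* L) (hι : Function.Injective ι) :
    ∃ c : Spec (CommRingCat.of L) ⟶ U,
      c ≫ U.ι = Spec.map (CommRingCat.ofHom ι) ≫ Z.fromSpecStalk z ≫ g := by
  refine ⟨IsOpenImmersion.lift U.ι (Spec.map (CommRingCat.ofHom ι) ≫ Z.fromSpecStalk z ≫ g) ?_,
    IsOpenImmersion.lift_fac _ _ _⟩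
  rintro _ ⟨q, rfl⟩
  rw [Scheme.Opens.range_ι]
  refine h.gen z hz _ ?_
  show Ideal.comap ι q.asIdeal = ⊥
  rw [(Ideal.eq_bot_or_top q.asIdeal).resolve_right q.2.ne_top, Ideal.comap_bot_of_injective _ hι]

variable {p U s}

theorem Ext.of_mem (hs : s ≫ p = U.ι) (g : Z ⟶ X) {z : Z} (hz : g z ∈ U) : Ext p U s g z :=
  ⟨g ⁻¹ᵁ U, (g ∣_ U) ≫ s, hz, by rw [Category.assoc, hs, morphismRestrict_ι], fun T a c he => by
    rw [← Category.assoc]
    congr 1
    rw [← cancel_mono U.ι, Category.assoc, morphismRestrict_ι, he]⟩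

theorem isOpen_ext (g : Z ⟶ X) : IsOpen {z | Ext p U s g z} :=
  isOpen_iff_forall_mem_open.2 fun z ⟨W, h, hz, hW⟩ => ⟨W, fun w hw => ⟨W, h, hw, hW⟩, W.2, hz⟩

theorem Ext.comap {g : Z ⟶ X} (q : Z' ⟶ Z) {x : Z'} (hx : Ext p U s g (q x)) : Ext p U s (q ≫ g) x := by
  obtain ⟨W, h, hW, h1, h2⟩ := hx
  refine ⟨q ⁻¹ᵁ W, (q ∣_ W) ≫ h, hW, by rw [Category.assoc, h1, morphismRestrict_ι_assoc], fun T a c he => ?_⟩
  rw [← Category.assoc]
  refine h2 T _ c ?_
  rw [← he, Category.assoc, morphismRestrict_ι_assoc]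

/-- A lift on the spectrum of a local ring, agreeing generically with the section, extends it. -/
theorem Ext.of_lift [IsSeparated p] [LocallyOfFiniteType p] [IsLocallyNoetherian Z] (hs : s ≫ p = U.ι)
    {g : Z ⟶ X} {z : Z} [IsDomain (Z.presheaf.stalk z)] {L : Type u} [Field L]
    (ι : Z.presheaf.stalk z →+* L) (hι : Function.Injective ι) (φ : Spec (Z.presheaf.stalk z) ⟶ Y)
    (hφ : φ ≫ p = Z.fromSpecStalk z ≫ g) (c : Spec (CommRingCat.of L) ⟶ U)
    (hc : c ≫ U.ι = Spec.map (CommRingCat.ofHom ι) ≫ Z.fromSpecStalk z ≫ g)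
    (hag : Spec.map (CommRingCat.ofHom ι) ≫ φ = c ≫ s) : Ext p U s g z := by
  obtain ⟨W₀, hzW₀, f, hf1, hf2⟩ := spread_out_of_isGermInjective' g p φ hφ
  obtain ⟨W, hzW, hW, hle, hinj⟩ := Z.exists_le_and_germ_injective z W₀ hzW₀
  haveI : IsAffine W.toScheme := hW
  haveI : Nonempty W.toScheme := ⟨⟨z, hzW⟩⟩
  haveI : IsDomain Γ(Z, W) := hinj.isDomain _
  haveI : IsDomain Γ(W.toScheme, ⊤) := W.topIso.commRingCatIsoToRingEquiv.toMulEquiv.isDomain _
  haveI : IsIntegral W.toScheme := isIntegral_of_isAffine_of_isDomain W.toScheme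
  set h : W.toScheme ⟶ Y := Z.homOfLE hle ≫ f
  have h1 : h ≫ p = W.ι ≫ g := by simp only [h, Category.assoc, hf2, Scheme.homOfLE_ι_assoc]
  have hhom : W.fromSpecStalkOfMem z hzW ≫ Z.homOfLE hle = W₀.fromSpecStalkOfMem z hzW₀ := by
    rw [← cancel_mono W₀.ι]; simp
  refine ⟨W, h, hzW, h1, fun T a d he => ?_⟩
  set W₁ := (W.ι ≫ g) ⁻¹ᵁ U
  have haW₁ : Set.range a ⊆ Set.range W₁.ι := by
    rintro _ ⟨t, rfl⟩
    rw [Scheme.Opens.range_ι]
    have : (a ≫ W.ι ≫ g) t ∈ U := by rw [he]; exact (d t).2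
    exact this
  have hkey : W₁.ι ≫ h = ((W.ι ≫ g) ∣_ U) ≫ s := by
    set η : Spec (CommRingCat.of L) ⟶ W.toScheme := Spec.map (CommRingCat.ofHom ι) ≫ W.fromSpecStalkOfMem z hzW
    have hηg : η ≫ W.ι ≫ g = c ≫ U.ι := by
      simp only [η, hc, Category.assoc, Scheme.Opens.fromSpecStalkOfMem_ι_assoc]
    let η₁ : Spec (CommRingCat.of L) ⟶ W₁.toScheme := IsOpenImmersion.lift W₁.ι η (by
      rintro _ ⟨t, rfl⟩
      rw [Scheme.Opens.range_ι]
      have : (η ≫ W.ι ≫ g) t ∈ U := by rw [hηg]; exact (c t).2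
      exact this)
    have hη₁ : η₁ ≫ W₁.ι = η := IsOpenImmersion.lift_fac _ _ _
    haveI : IsReduced W₁.toScheme := isReduced_of_isOpenImmersion W₁.ι
    haveI : IsDominant η₁ := by
      obtain ⟨t⟩ : Nonempty (Spec (CommRingCat.of L)) := inferInstance
      refine ⟨dense_iff_closure_eq.2 (Set.eq_univ_of_forall fun w =>
        (closure_mono (Set.singleton_subset_iff.2 (Set.mem_range_self t))) (specializes_iff_mem_closure.1 ?_))⟩
      rw [← W₁.ι.isOpenEmbedding.isInducing.specializes_iff, ← Scheme.Hom.comp_apply, hη₁,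
        ← W.toScheme.isoSpec.hom.homeomorph.isInducing.specializes_iff]
      refine (PrimeSpectrum.le_iff_specializes _ _).1 ?_
      have hker : ((η ≫ W.toScheme.isoSpec.hom) t).asIdeal = ⊥ := by
        have e : η ≫ W.toScheme.isoSpec.hom =
            Spec.map (Z.presheaf.germ W z hzW ≫ CommRingCat.ofHom ι) ≫ Spec.map W.topIso.hom := by
          simp only [η, Category.assoc, Spec.map_comp]
          rw [← Scheme.Opens.fromSpecStalkOfMem_toSpecΓ W z hzW, Category.assoc]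
          have e' : W.toScheme.isoSpec.hom = W.toSpecΓ ≫ Spec.map W.topIso.hom := by
            rw [Scheme.Opens.toSpecΓ, Category.assoc, ← Spec.map_comp, Iso.hom_inv_id, Spec.map_id, Category.comp_id, Scheme.isoSpec_hom]
          rw [e']; rfl
        rw [e, ← Spec.map_comp]
        show Ideal.comap _ _ = ⊥
        rw [(Ideal.eq_bot_or_top t.asIdeal).resolve_right t.2.ne_top]
        exact Ideal.comap_bot_of_injective _ ((hι.comp hinj).comp W.topIso.commRingCatIsoToRingEquiv.injective)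
      exact hker.le.trans bot_le
    refine ext_of_isDominant_of_isSeparated p ?_ η₁ ?_
    · rw [Category.assoc, h1, Category.assoc, hs, morphismRestrict_ι]
    · have e2 : η₁ ≫ ((W.ι ≫ g) ∣_ U) = c := by
        rw [← cancel_mono U.ι, Category.assoc, morphismRestrict_ι, reassoc_of% hη₁, hηg]
      rw [reassoc_of% hη₁, reassoc_of% e2, ← hag, hf1]
      simp only [η, h, Category.assoc, reassoc_of% hhom]
  have e3 : IsOpenImmersion.lift W₁.ι a haW₁ ≫ ((W.ι ≫ g) ∣_ U) = d := by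
    rw [← cancel_mono U.ι, Category.assoc, morphismRestrict_ι, IsOpenImmersion.lift_fac_assoc, he]
  rw [← IsOpenImmersion.lift_fac W₁.ι a haW₁, Category.assoc, hkey, reassoc_of% e3]

/-- The section extends at points with local ring of dimension at most one. -/
theorem Ext.of_dim_le_one [IsProper p] [IsLocallyNoetherian Z] (hs : s ≫ p = U.ι) {g : Z ⟶ X} (hg : Inv U g)
    {z : Z} (hz : g z ∉ U) (hdim : ringKrullDim (Z.presheaf.stalk z) ≤ 1) : Ext p U s g z := by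
  haveI := hg.reg z hz
  haveI := hg.isDomain hz
  haveI : Ring.KrullDimLE 1 (Z.presheaf.stalk z) := Ring.krullDimLE_iff.2 hdim
  haveI : IsPrincipalIdealRing (Z.presheaf.stalk z) := isPrincipalIdealRing_of_dim_le_one _
  haveI : ValuationRing (Z.presheaf.stalk z) := inferInstance
  set L := FractionRing (Z.presheaf.stalk z)
  set ι := algebraMap (Z.presheaf.stalk z) L
  obtain ⟨c, hc⟩ := hg.exists_lift hz ι (IsFractionRing.injective _ L)
  obtain ⟨l, hl₁, hl₂⟩ : ∃ l : Spec (Z.presheaf.stalk z) ⟶ Y,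
      Spec.map (CommRingCat.ofHom ι) ≫ l = c ≫ s ∧ l ≫ p = Z.fromSpecStalk z ≫ g := by
    have hp : (ValuativeCriterion ⊓ @QuasiCompact ⊓ @QuasiSeparated ⊓ @LocallyOfFiniteType) p := by
      rw [← IsProper.eq_valuativeCriterion]; infer_instance
    obtain ⟨⟨l, h1, h2⟩⟩ := (ValuativeCriterion.existence hp.1.1.1
      { R := Z.presheaf.stalk z, commRing := inferInstance, domain := hg.isDomain hz, valuationRing := ‹_›, K := L, i₁ := c ≫ s, i₂ := Z.fromSpecStalk z ≫ g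
        commSq := ⟨by rw [Category.assoc, hs, hc]⟩ }).exists_lift
    exact ⟨l, h1, h2⟩
  exact Ext.of_lift hs ι (IsFractionRing.injective _ L) l hl₂ c hc hl₁

/-- Two compatible lifts agree on overlaps. -/
theorem compat_unique [IsSeparated p] [IsLocallyNoetherian Z] {g : Z ⟶ X} (hg : Inv U g) {W₁ W₂ : Z.Opens}
    {h₁ : (W₁ : Scheme.{u}) ⟶ Y} {h₂ : (W₂ : Scheme.{u}) ⟶ Y} (H₁ : Compat p U s g W₁ h₁)
    (H₂ : Compat p U s g W₂ h₂) {V : Z.Opens} (e₁ : V ≤ W₁) (e₂ : V ≤ W₂) :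
    Z.homOfLE e₁ ≫ h₁ = Z.homOfLE e₂ ≫ h₂ := by
  refine Scheme.hom_ext_of_forall _ _ fun v => ?_
  have hp : (Z.homOfLE e₁ ≫ h₁) ≫ p = (Z.homOfLE e₂ ≫ h₂) ≫ p := by
    simp [H₁.1, H₂.1]
  by_cases hv : g v.1 ∈ U
  · refine ⟨(V.ι ≫ g) ⁻¹ᵁ U, hv, ?_⟩
    rw [← Category.assoc, H₁.2 _ _ ((V.ι ≫ g) ∣_ U) (by rw [morphismRestrict_ι]; simp),
      ← Category.assoc, H₂.2 _ _ ((V.ι ≫ g) ∣_ U) (by rw [morphismRestrict_ι]; simp)]
  · haveI := hg.reg v.1 hv
    haveI := hg.isDomain hv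
    set L := FractionRing (Z.presheaf.stalk v.1)
    set ι := algebraMap (Z.presheaf.stalk v.1) L
    obtain ⟨c, hc⟩ := hg.exists_lift hv ι (IsFractionRing.injective _ L)
    haveI : @IsDominant (Spec (CommRingCat.of L)) (Spec (Z.presheaf.stalk v.1)) (Spec.map (CommRingCat.ofHom ι)) := ⟨by
      show DenseRange (PrimeSpectrum.comap ι)
      rw [PrimeSpectrum.denseRange_comap_iff_ker_le_nilRadical, (RingHom.injective_iff_ker_eq_bot ι).1
        (IsFractionRing.injective _ L)]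
      exact bot_le⟩
    have key : V.fromSpecStalkOfMem v.1 v.2 ≫ Z.homOfLE e₁ ≫ h₁ = V.fromSpecStalkOfMem v.1 v.2 ≫ Z.homOfLE e₂ ≫ h₂ := by
      refine ext_of_isDominant_of_isSeparated p (by simp [H₁.1, H₂.1]) (Spec.map (CommRingCat.ofHom ι)) ?_
      have a1 := H₁.2 _ (Spec.map (CommRingCat.ofHom ι) ≫ V.fromSpecStalkOfMem v.1 v.2 ≫ Z.homOfLE e₁) c (by simp [hc])
      have a2 := H₂.2 _ (Spec.map (CommRingCat.ofHom ι) ≫ V.fromSpecStalkOfMem v.1 v.2 ≫ Z.homOfLE e₂) c (by simp [hc])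
      simp only [Category.assoc] at a1 a2
      exact a1.trans a2.symm
    refine spread_out_unique_of_isGermInjective' _ _ ?_
    rw [← cancel_epi (Spec.map (inv (V.ι.stalkMap v)))]
    simpa [Scheme.Opens.fromSpecStalkOfMem] using key

/-- If the section extends everywhere, it extends globally. -/
theorem exists_hom_of_ext [IsSeparated p] [IsLocallyNoetherian Z] (hs : s ≫ p = U.ι) {g : Z ⟶ X} (hg : Inv U g)
    (hext : ∀ z, Ext p U s g z) : ∃ h : Z ⟶ Y, h ≫ p = g ∧ (g ⁻¹ᵁ U).ι ≫ h = (g ∣_ U) ≫ s := by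
  let I := Σ' W : Z.Opens, {h : (W : Scheme.{u}) ⟶ Y // Compat p U s g W h}
  have hcov : ⨆ i : I, i.1 = ⊤ := top_le_iff.1 fun z _ => by
    obtain ⟨W, h, hz, hW⟩ := hext z
    exact Opens.mem_iSup.2 ⟨⟨W, h, hW⟩, hz⟩
  let 𝒰 : Z.OpenCover :=
    { I₀ := I, X i := i.1, f i := i.1.ι
      mem₀ := by
        rw [Scheme.presieve₀_mem_precoverage_iff]
        refine ⟨fun z => ?_, inferInstance⟩
        obtain ⟨i, hi⟩ := Opens.mem_iSup.1 (show z ∈ ⨆ i : I, i.1 by rw [hcov]; trivial)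
        exact ⟨i, by simpa using hi⟩ }
  have hcomp : ∀ i j : I, pullback.fst (𝒰.f i) (𝒰.f j) ≫ i.2.1 = pullback.snd (𝒰.f i) (𝒰.f j) ≫ j.2.1 := by
    intro i j
    have hr : Set.range (pullback.fst i.1.ι j.1.ι ≫ i.1.ι) ⊆ Set.range (i.1 ⊓ j.1).ι := by
      rintro _ ⟨t, rfl⟩
      rw [Scheme.Opens.range_ι]
      refine ⟨(pullback.fst i.1.ι j.1.ι t).2, ?_⟩
      rw [pullback.condition]
      exact (pullback.snd i.1.ι j.1.ι t).2
    have e1 : pullback.fst i.1.ι j.1.ι =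
        IsOpenImmersion.lift (i.1 ⊓ j.1).ι _ hr ≫ Z.homOfLE inf_le_left := by
      rw [← cancel_mono i.1.ι]; simp
    have e2 : pullback.snd i.1.ι j.1.ι =
        IsOpenImmersion.lift (i.1 ⊓ j.1).ι _ hr ≫ Z.homOfLE inf_le_right := by
      rw [← cancel_mono j.1.ι]; simp [pullback.condition]
    show pullback.fst i.1.ι j.1.ι ≫ _ = pullback.snd i.1.ι j.1.ι ≫ _
    rw [e1, e2, Category.assoc, Category.assoc, compat_unique hg i.2.2 j.2.2]
  refine ⟨𝒰.glueMorphisms (fun i => i.2.1) hcomp, 𝒰.hom_ext _ _ fun i => ?_, ?_⟩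
  · rw [Scheme.Cover.ι_glueMorphisms_assoc]; exact i.2.2.1
  · obtain ⟨h1, h2⟩ : Compat p U s g (g ⁻¹ᵁ U) ((g ∣_ U) ≫ s) :=
      ⟨by rw [Category.assoc, hs, morphismRestrict_ι], fun T a c he => by
        rw [← Category.assoc]
        congr 1
        rw [← cancel_mono U.ι, Category.assoc, morphismRestrict_ι, he]⟩
    exact 𝒰.ι_glueMorphisms (fun i => i.2.1) hcomp ⟨_, _, h1, h2⟩

end Groth.Agent.H28Contr
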