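import Groth.Agent.H28Contr.FactorAlg
import Groth.Agent.H28Contr.TwoCover
import Groth.Agent.H28Contr.Dominate
import Groth.Agent.H28Pinch.ContractionUnique
import Groth.Agent.H7Lim.NormalPoint
import Groth.Agent.H3CAlg.DiagStalk

/-!
# Birational morphisms of regular surfaces factor through blow-ups of fundamental points
-/

set_option autoImplicit false
set_option linter.style.haveILetI false
set_option backward.isDefEq.respectTransparency.types false

universe u

open CategoryTheory CategoryTheory.Limits AlgebraicGeometry TopologicalSpace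

namespace Groth.Agent.H28Contr

variable {X Y : Scheme.{u}}

/-- A morphism which is an isomorphism over a nonempty open matches the generic points. -/
theorem generic_of_birational [IsIntegral X] [IsIntegral Y] (f : X ⟶ Y) (W : Y.Opens) (hW : (W : Set Y).Nonempty)
    [IsIso (f ∣_ W)] :
    f (genericPoint X) = genericPoint Y ∧ IsIso (f.stalkMap (genericPoint X)) := by
  haveI : Nonempty W.toScheme := ⟨⟨hW.choose, hW.choose_spec⟩⟩
  haveI : Nonempty (f ⁻¹ᵁ W).toScheme := ⟨(f ∣_ W).homeomorph.symm ⟨hW.choose, hW.choose_spec⟩⟩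
  haveI : IsIntegral W.toScheme := isIntegral_of_isOpenImmersion W.ι
  haveI : IsIntegral (f ⁻¹ᵁ W).toScheme := isIntegral_of_isOpenImmersion (f ⁻¹ᵁ W).ι
  haveI hop : IsOpenImmersion ((f ⁻¹ᵁ W).ι ≫ f) := by rw [← morphismRestrict_ι]; infer_instance
  have e1 := genericPoint_eq_of_isOpenImmersion (f ⁻¹ᵁ W).ι
  refine ⟨?_, ?_⟩
  · rw [← e1, ← genericPoint_eq_of_isOpenImmersion ((f ⁻¹ᵁ W).ι ≫ f)]; rfl
  · rw [← e1]
    have := (inferInstance : IsIso (((f ⁻¹ᵁ W).ι ≫ f).stalkMap (genericPoint (f ⁻¹ᵁ W).toScheme)))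
    rw [Scheme.Hom.stalkMap_comp] at this
    exact @IsIso.of_isIso_comp_right _ _ _ _ _ _ ((f ⁻¹ᵁ W).ι.stalkMap (genericPoint (f ⁻¹ᵁ W).toScheme))
      inferInstance this

/-- Local rings along a birational morphism. -/
theorem stalkMap_birational [IsIntegral X] [IsIntegral Y] (f : X ⟶ Y)
    (hξ : f (genericPoint X) = genericPoint Y) [IsIso (f.stalkMap (genericPoint X))] (x : X) :
    Function.Injective (f.stalkMap x) ∧
      ∀ z : X.presheaf.stalk x, ∃ a s : Y.presheaf.stalk (f x), s ≠ 0 ∧ f.stalkMap x s * z = f.stalkMap x a := by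
  have hx : genericPoint X ⤳ x := genericPoint_specializes x
  have hy : f (genericPoint X) ⤳ f x := hx.map f.continuous
  let sp := (Y.presheaf.stalkSpecializes hy).hom
  have key : ∀ η' : Y, η' = genericPoint Y → ∀ h : η' ⤳ f x,
      Function.Injective (Y.presheaf.stalkSpecializes h) ∧ ∀ w : Y.presheaf.stalk η', ∃ a s : Y.presheaf.stalk (f x),
        s ≠ 0 ∧ Y.presheaf.stalkSpecializes h s * w = Y.presheaf.stalkSpecializes h a := by
    rintro _ rfl h
    refine ⟨IsFractionRing.injective (Y.presheaf.stalk (f x)) Y.functionField, fun w => ?_⟩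
    obtain ⟨⟨a, s⟩, he⟩ := IsLocalization.surj (nonZeroDivisors (Y.presheaf.stalk (f x))) (w : Y.functionField)
    exact ⟨a, s, nonZeroDivisors.ne_zero s.2, by rw [mul_comm]; exact he⟩
  obtain ⟨hspinj, hspfrac⟩ := key _ hξ hy
  have hbij := ConcreteCategory.bijective_of_isIso (f.stalkMap (genericPoint X))
  have hcomm : ∀ r : Y.presheaf.stalk (f x), X.presheaf.stalkSpecializes hx (f.stalkMap x r) =
      f.stalkMap (genericPoint X) (Y.presheaf.stalkSpecializes hy r) := fun r =>
    (congr($(Scheme.Hom.stalkSpecializes_stalkMap f _ _ hx) r)).symm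
  have hXinj : Function.Injective (X.presheaf.stalkSpecializes hx) :=
    IsFractionRing.injective (X.presheaf.stalk x) X.functionField
  refine ⟨fun a b h => hspinj (hbij.1 (by rw [← hcomm, ← hcomm, h])), fun z => ?_⟩
  obtain ⟨w, hw⟩ := hbij.2 (X.presheaf.stalkSpecializes hx z)
  obtain ⟨a, s, hs, he⟩ := hspfrac w
  refine ⟨a, s, hs, hXinj ?_⟩
  rw [map_mul, hcomm, hcomm, ← hw, ← map_mul, he]

/-- Two generators of the maximal ideal, the first one nonzero. -/
theorem exists_pair_maximalIdeal (R : Type u) [CommRing R] [IsRegularLocalRing R] (hne : ¬ IsField R)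
    (hdim : ringKrullDim R ≤ 2) :
    ∃ a b : R, a ≠ 0 ∧ IsLocalRing.maximalIdeal R = Ideal.span {a, b} := by
  haveI := H4Depth.isDomain_of_isRegularLocalRing R
  by_cases h1 : ringKrullDim R ≤ 1
  · haveI : Ring.KrullDimLE 1 R := Ring.krullDimLE_iff.2 h1
    haveI := isPrincipalIdealRing_of_dim_le_one R
    obtain ⟨g, hg⟩ := IsPrincipalIdealRing.principal (IsLocalRing.maximalIdeal R)
    refine ⟨g, g, fun h0 => hne (IsLocalRing.isField_iff_maximalIdeal_eq.2 (by rw [hg, h0]; simp)), ?_⟩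
    rw [hg]; simp
  · obtain ⟨a, c, hspan, hpair⟩ := exists_regPair_maximalIdeal (A := R) (eq_two_of_le hdim h1)
    exact ⟨a, c, nonZeroDivisors.ne_zero hpair.x_reg, hspan⟩

/-- A closed point without strict generisation in its fibre is isolated there. -/
theorem quasiFiniteAt_of_no_generisation [IsNoetherian X] (f : X ⟶ Y) [LocallyOfFiniteType f] {x : X}
    (hx : IsClosed ({x} : Set X)) (hy : IsClosed ({f x} : Set Y)) (h : ∀ z, f z = f x → z ⤳ x → z = x) :
    f.QuasiFiniteAt x := by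
  rw [Scheme.Hom.quasiFiniteAt_iff_isOpen_singleton_asFiber, ← (f.fiberHomeo (f x)).isOpen_image, Set.image_singleton]
  obtain ⟨T, hTfin, hT1, hT2, hT3⟩ := NoetherianSpace.exists_finite_set_isClosed_irreducible
    (show IsClosed (f ⁻¹' {f x}) from hy.preimage f.continuous)
  have hC : IsClosed (⋃₀ {t ∈ T | x ∉ t}) :=
    by
      rw [Set.sUnion_eq_biUnion]
      exact Set.Finite.isClosed_biUnion (hTfin.subset (Set.sep_subset _ _)) fun t ht => hT1 t ht.1
  have heq : ({f.fiberHomeo (f x) (f.asFiber x)} : Set ↥(f ⁻¹' {f x})) = Subtype.val ⁻¹' (⋃₀ {t ∈ T | x ∉ t})ᶜ := by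
    ext w
    rw [Set.mem_singleton_iff, Subtype.ext_iff, Set.mem_preimage, Set.mem_compl_iff]
    have hval : ((f.fiberHomeo (f x) (f.asFiber x)) : X) = x := by simp [Scheme.Hom.asFiber]
    rw [hval]
    constructor
    · rintro hw ⟨t, ⟨-, hxt⟩, hwt⟩
      exact hxt (hw ▸ hwt)
    · intro hw
      obtain ⟨t, ht, hwt⟩ : w.1 ∈ ⋃₀ T := hT3 ▸ w.2
      by_cases hxt : x ∈ t
      · obtain ⟨η, hη⟩ := QuasiSober.sober (hT2 t ht) (hT1 t ht)
        have hηS : f η = f x := by
          have : η ∈ f ⁻¹' {f x} := hT3.symm ▸ ⟨t, ht, hη.mem⟩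
          exact this
        have := h η hηS (hη.specializes hxt)
        subst this
        exact ((hη.specializes hwt).mem_closed hx rfl : w.1 ∈ ({η} : Set X))
      · exact absurd ⟨t, ⟨ht, hxt⟩, hwt⟩ hw
  rw [heq]
  exact hC.isOpen_compl.preimage continuous_subtype_val

theorem stalkIdeal_point [IsLocallyNoetherian Y] {y : Y} (hy : IsClosed ({y} : Set Y)) :
    IntMult.stalkIdeal (Scheme.IdealSheafData.vanishingIdeal ⟨{y}, hy⟩) y = IsLocalRing.maximalIdeal _ := by
  obtain ⟨V, hV, hyV, -⟩ := exists_isAffineOpen_mem_and_subset (X := Y) (x := y) (U := ⊤) trivial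
  set q := hV.primeIdealOf ⟨y, hyV⟩ with hq
  have hpre : hV.fromSpec ⁻¹' (({y} : Set Y)) = {q} := by
    ext w
    simp only [Set.mem_preimage, Set.mem_singleton_iff]
    constructor
    · intro h
      exact hV.fromSpec.isOpenEmbedding.injective (h.trans (hV.fromSpec_primeIdealOf ⟨y, hyV⟩).symm)
    · rintro rfl
      exact hV.fromSpec_primeIdealOf ⟨y, hyV⟩
  letI := TopCat.Presheaf.algebra_section_stalk Y.presheaf (⟨y, hyV⟩ : V)
  haveI := hV.isLocalization_stalk ⟨y, hyV⟩
  rw [H29Ref.stalkIdeal_eq _ y ⟨V, hV⟩ hyV, Scheme.IdealSheafData.vanishingIdeal_ideal]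
  show ((PrimeSpectrum.vanishingIdeal (hV.fromSpec ⁻¹' {y})).map (algebraMap Γ(Y, V) (Y.presheaf.stalk y))) = _
  erw [hpre, PrimeSpectrum.vanishingIdeal_singleton]
  exact IsLocalization.AtPrime.map_eq_maximalIdeal q.asIdeal (Y.presheaf.stalk y)

/-- The maximal ideal of a fundamental point pulls back to an invertible ideal. -/
theorem isEffCartier_comap_point [IsIntegral X] [IsNoetherian X] [IsIntegral Y] [IsNoetherian Y] (f : X ⟶ Y)
    [IsProper f] (W : Y.Opens) (hW : (W : Set Y).Nonempty) [IsIso (f ∣_ W)]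
    (hX : ∀ x : X, IsRegularLocalRing (X.presheaf.stalk x)) (hdX : ∀ x : X, ringKrullDim (X.presheaf.stalk x) ≤ 2)
    {y : Y} (hy : IsClosed ({y} : Set Y)) (hYy : IsRegularLocalRing (Y.presheaf.stalk y))
    (hdy : ringKrullDim (Y.presheaf.stalk y) ≤ 2) (hfield : ¬ IsField (Y.presheaf.stalk y))
    (hcurve : ∀ x, f x = y → IsClosed ({x} : Set X) → ∃ z, f z = y ∧ z ⤳ x ∧ z ≠ x) :
    BlowUp.IsEffCartierIdeal ((Scheme.IdealSheafData.vanishingIdeal ⟨{y}, hy⟩).comap f) := by
  refine isEffCartier_of_isPrin _ fun x => ?_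
  rw [H3CAlg.DiagStalk.stalkIdeal_comap f _ x]
  obtain ⟨hξ, hiso⟩ := generic_of_birational f W hW
  obtain ⟨hinj, hbir⟩ := stalkMap_birational f hξ x
  by_cases hxy : f x = y
  swap
  · refine ⟨1, one_mem _, ?_⟩
    rw [(H29Ref.stalkIdeal_eq_top_iff _ (f x)).2 fun hsupp => hxy (by
      rwa [← SetLike.mem_coe, Scheme.IdealSheafData.coe_support_vanishingIdeal] at hsupp), Ideal.map_top,
      Ideal.span_singleton_one]
  subst hxy
  rw [stalkIdeal_point hy]
  haveI := hYy
  haveI := H4Depth.isDomain_of_isRegularLocalRing (Y.presheaf.stalk (f x))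
  haveI := hX x
  haveI := H4Depth.isDomain_of_isRegularLocalRing (X.presheaf.stalk x)
  obtain ⟨a, b, ha, hab⟩ := exists_pair_maximalIdeal (Y.presheaf.stalk (f x)) hfield hdy
  have ha' : f.stalkMap x a ≠ 0 := fun h => ha (hinj (by rw [h, map_zero]))
  have hmap : (IsLocalRing.maximalIdeal (Y.presheaf.stalk (f x))).map (f.stalkMap x).hom =
      Ideal.span {f.stalkMap x a, f.stalkMap x b} := by
    rw [hab, Ideal.map_span, Set.image_pair]
  rw [hmap]
  by_cases h1 : ringKrullDim (X.presheaf.stalk x) ≤ 1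
  · haveI : Ring.KrullDimLE 1 (X.presheaf.stalk x) := Ring.krullDimLE_iff.2 h1
    haveI := isPrincipalIdealRing_of_dim_le_one (X.presheaf.stalk x)
    obtain ⟨c, hc⟩ := IsPrincipalIdealRing.principal (Ideal.span {f.stalkMap x a, f.stalkMap x b})
    refine ⟨c, mem_nonZeroDivisors_of_ne_zero fun h0 => ha' ?_, hc⟩
    have := (Ideal.subset_span (Set.mem_insert _ _) : f.stalkMap x a ∈ Ideal.span {f.stalkMap x a, f.stalkMap x b})
    rw [hc, h0] at this
    simpa using this
  have hd2 := eq_two_of_le (hdX x) h1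
  have hxc : IsClosed ({x} : Set X) := by
    rw [← closure_subset_iff_isClosed]
    intro w hw
    by_contra hne
    have := ringKrullDim_stalk_lt (specializes_iff_mem_closure.2 hw) fun e => hne e.symm
    rw [hd2] at this
    exact (this.trans_le (hdX w)).false
  obtain ⟨z, hzy, hzx, hne⟩ := hcurve x rfl hxc
  obtain ⟨P, hP⟩ : z ∈ Set.range (X.fromSpecStalk x) := by rw [Scheme.range_fromSpecStalk]; exact hzx
  have hcomap : PrimeSpectrum.comap (f.stalkMap x).hom P = IsLocalRing.closedPoint _ := by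
    apply (Y.fromSpecStalk (f x)).isEmbedding.injective
    erw [Scheme.fromSpecStalk_closedPoint]
    refine Eq.trans ?_ hzy
    rw [← hP]
    exact congrArg (fun g : Spec (X.presheaf.stalk x) ⟶ Y => g P) (Scheme.SpecMap_stalkMap_fromSpecStalk (f := f) (x := x))
  have hmem : ∀ r ∈ IsLocalRing.maximalIdeal (Y.presheaf.stalk (f x)), f.stalkMap x r ∈ P.asIdeal := fun r hr => by
    have := congrArg PrimeSpectrum.asIdeal hcomap
    exact (show r ∈ Ideal.comap (f.stalkMap x).hom P.asIdeal by rw [← PrimeSpectrum.comap_asIdeal, this]; exact hr)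
  refine isPrin_of_nonisolated hd2 (f.stalkMap x).hom hinj hbir a b hab ha P.asIdeal (fun he => hne ?_)
    (hmem a (hab ▸ Ideal.subset_span (Set.mem_insert _ _))) (hmem b (hab ▸ Ideal.subset_span (Set.mem_insert_of_mem _ rfl)))
  rw [← hP, show P = IsLocalRing.closedPoint _ from PrimeSpectrum.ext he, Scheme.fromSpecStalk_closedPoint]

end Groth.Agent.H28Contr
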