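import Groth.Agent.H28Contr.FiniteColength

/-!
# A birational extension of regular local rings of dimension two principalises the maximal ideal
-/

set_option autoImplicit false
set_option linter.style.haveILetI false
set_option backward.isDefEq.respectTransparency.types false

universe u

open Polynomial

namespace Groth.Agent.H28Contr

/-- Coefficients of a polynomial vanishing at a ratio of coprime elements of the maximal ideal lie there. -/
theorem coeff_mem_of_aeval_ratio {S K : Type u} [CommRing S] [IsDomain S] [UniqueFactorizationMonoid S]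
    [Field K] [Algebra S K] [IsFractionRing S K] (m : Ideal S) {a b : S} (ha : a ≠ 0) (ham : a ∈ m) (hbm : b ∈ m)
    (hab : IsRelPrime a b) (p : S[X]) (hp : aeval (algebraMap S K b / algebraMap S K a) p = 0) :
    ∀ i, p.coeff i ∈ m := by
  obtain ⟨n, hn⟩ : ∃ n, p.natDegree ≤ n := ⟨_, le_rfl⟩
  have haK : algebraMap S K a ≠ 0 := fun h => ha (IsFractionRing.injective S K (by rw [h, map_zero]))
  induction n generalizing p with
  | zero =>
    intro i
    rw [eq_C_of_natDegree_le_zero hn] at hp ⊢
    rw [aeval_C] at hp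
    have h0 : p.coeff 0 = 0 := IsFractionRing.injective S K (by rw [hp, map_zero])
    rw [h0, map_zero, coeff_zero]
    exact zero_mem _
  | succ n ih =>
    set t := algebraMap S K b / algebraMap S K a
    have htop : a ∣ p.coeff (n + 1) := by
      have hsum : ∑ i ∈ Finset.range (n + 2), p.coeff i * b ^ i * a ^ (n + 1 - i) = 0 := by
        apply IsFractionRing.injective S K
        have h := aeval_eq_sum_range' (show p.natDegree < n + 2 by omega) t
        rw [hp] at h
        rw [map_sum, map_zero]
        calc _ = algebraMap S K a ^ (n + 1) * ∑ i ∈ Finset.range (n + 2), p.coeff i • t ^ i := by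
              rw [Finset.mul_sum]
              refine Finset.sum_congr rfl fun i hi => ?_
              have hi' : i + (n + 1 - i) = n + 1 := by have := Finset.mem_range.1 hi; omega
              rw [Algebra.smul_def, map_mul, map_mul, map_pow, map_pow, div_pow]
              conv_rhs => rw [← hi', pow_add]
              field_simp
          _ = 0 := by rw [← h, mul_zero]
      rw [Finset.sum_range_succ, Nat.sub_self, pow_zero, mul_one] at hsum
      have : a ∣ p.coeff (n + 1) * b ^ (n + 1) := by
        rw [(eq_neg_of_add_eq_zero_right hsum)]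
        refine dvd_neg.2 (Finset.dvd_sum fun i hi => dvd_mul_of_dvd_right (dvd_pow_self a ?_) _)
        have := Finset.mem_range.1 hi; omega
      exact (hab.pow_right).dvd_of_dvd_mul_right this
    obtain ⟨q, hq⟩ := htop
    set p' := p - C q * X ^ n * (C a * X - C b) with hp'
    have hlin : aeval t (C a * X - C b) = 0 := by
      simp [t, mul_div_cancel₀ _ haK]
    have hcoef : ∀ i, p.coeff i = p'.coeff i + (C q * X ^ n * (C a * X - C b)).coeff i := fun i => by
      simp [hp']
    have hd : p'.natDegree ≤ n := by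
      rw [natDegree_le_iff_coeff_eq_zero]
      intro i hi
      rw [hp', coeff_sub, mul_sub, coeff_sub, show C q * X ^ n * (C a * X) = C (q * a) * X ^ (n + 1) by
        rw [map_mul, pow_succ]; ring, show C q * X ^ n * C b = C (q * b) * X ^ n by rw [map_mul]; ring,
        coeff_C_mul_X_pow, coeff_C_mul_X_pow, if_neg (show i ≠ n by omega), sub_zero]
      rcases eq_or_ne i (n + 1) with rfl | hne
      · rw [if_pos rfl, hq, mul_comm, sub_self]
      · rw [if_neg hne, sub_zero]
        exact coeff_eq_zero_of_natDegree_lt (by omega)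
    intro i
    rw [hcoef i]
    refine add_mem (ih p' (by rw [hp', map_sub, map_mul, hlin, mul_zero, sub_zero, hp]) hd i) ?_
    rw [mul_sub, coeff_sub, show C q * X ^ n * (C a * X) = C (q * a) * X ^ (n + 1) by
      rw [map_mul, pow_succ]; ring, show C q * X ^ n * C b = C (q * b) * X ^ n by rw [map_mul]; ring,
      coeff_C_mul_X_pow, coeff_C_mul_X_pow]
    exact sub_mem (by split_ifs <;> simp [Ideal.mul_mem_left _ _ ham])
      (by split_ifs <;> simp [Ideal.mul_mem_left _ _ hbm])

/-- A valuation ring over a ratio of coprime elements, in which the ratio has transcendental residue. -/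
theorem exists_valuation_transcendental {S K : Type u} [CommRing S] [IsDomain S] [IsLocalRing S]
    [UniqueFactorizationMonoid S] [Field K] [Algebra S K] [IsFractionRing S K] {a b : S} (ha : a ≠ 0)
    (ham : a ∈ IsLocalRing.maximalIdeal S) (hbm : b ∈ IsLocalRing.maximalIdeal S) (hab : IsRelPrime a b) :
    ∃ V : ValuationSubring K, ∀ p : S[X],
      V.valuation (aeval (algebraMap S K b / algebraMap S K a) p) ≤ 1 ∧
        (V.valuation (aeval (algebraMap S K b / algebraMap S K a) p) < 1 ↔
          ∀ i, p.coeff i ∈ IsLocalRing.maximalIdeal S) := by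
  set t := algebraMap S K b / algebraMap S K a
  let f : S[X] →+* K := (aeval t).toRingHom
  let B : Subring K := f.range
  let res : S[X] →+* (IsLocalRing.ResidueField S)[X] := Polynomial.mapRingHom (IsLocalRing.residue S)
  have hres : ∀ p : S[X], res p = 0 ↔ ∀ i, p.coeff i ∈ IsLocalRing.maximalIdeal S := fun p => by
    rw [Polynomial.ext_iff]
    simp only [res, Polynomial.coe_mapRingHom, coeff_map, coeff_zero, IsLocalRing.residue_eq_zero_iff]
  let ψ : B →+* (IsLocalRing.ResidueField S)[X] := (f.rangeRestrict).liftOfSurjective f.rangeRestrict_surjective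
    ⟨res, fun p hp => (hres p).2 (coeff_mem_of_aeval_ratio (K := K) _ ha ham hbm hab p (congrArg Subtype.val hp))⟩
  have hψ : ∀ p, ψ (f.rangeRestrict p) = res p := fun p =>
    RingHom.liftOfRightInverse_comp_apply _ _ _ ⟨res, _⟩ p
  haveI : (RingHom.ker ψ).IsPrime := RingHom.ker_isPrime ψ
  set L := LocalSubring.ofPrime B (RingHom.ker ψ)
  obtain ⟨V, hV, hVm⟩ := Ideal.image_subset_nonunits_valuationSubring (K := K) (A := L.toSubring)
    (IsLocalRing.maximalIdeal L.toSubring) (IsLocalRing.maximalIdeal.isMaximal _).ne_top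
  refine ⟨V, fun p => ?_⟩
  have hmem : aeval t p ∈ L.toSubring := LocalSubring.le_ofPrime B _ ⟨p, rfl⟩
  have hunit : IsUnit (⟨aeval t p, hmem⟩ : L.toSubring) ↔ ¬ ∀ i, p.coeff i ∈ IsLocalRing.maximalIdeal S := by
    rw [← hres p, ← hψ p]
    exact IsLocalization.AtPrime.isUnit_to_map_iff L.toSubring (RingHom.ker ψ) (f.rangeRestrict p)
  refine ⟨(V.valuation_le_one_iff _).2 (hV hmem), fun h => ?_, fun h => ?_⟩
  · by_contra hc
    obtain ⟨w, hw⟩ := (hunit.2 hc).exists_right_inv
    have h1 := congrArg (fun z : L.toSubring => V.valuation (z : K)) hw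
    simp only [Subring.coe_mul, Subring.coe_one, map_mul, map_one] at h1
    exact (mul_lt_one_of_lt_of_le h ((V.valuation_le_one_iff _).2 (hV w.2))).ne h1
  · exact V.mem_nonunits_iff.1 (hVm ⟨⟨_, hmem⟩, (IsLocalRing.mem_maximalIdeal _).2 fun hu => hunit.1 hu h, rfl⟩)

/-- The maximal ideal becomes principal. -/
theorem isPrin_of_nonisolated {R S : Type u} [CommRing R] [IsDomain R] [IsNoetherianRing R] [IsLocalRing R]
    [CommRing S] [IsRegularLocalRing S] (hdim : ringKrullDim S = 2) (φ : R →+* S)
    (hinj : Function.Injective φ) [IsLocalHom φ] (hbir : ∀ z : S, ∃ a s : R, s ≠ 0 ∧ φ s * z = φ a)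
    (a b : R) (hm : IsLocalRing.maximalIdeal R = Ideal.span {a, b}) (ha : a ≠ 0) (P : Ideal S) [P.IsPrime]
    (hP : P ≠ IsLocalRing.maximalIdeal S) (haP : φ a ∈ P) (hbP : φ b ∈ P) :
    IsPrin S (Ideal.span {φ a, φ b}) := by
  haveI := H4Depth.isDomain_of_isRegularLocalRing S
  haveI := H28Alg.ufd_of_regular S
  have hφa : φ a ≠ 0 := fun h => ha (hinj (by rw [h, map_zero]))
  obtain ⟨a', b', c, hrel, hca, hcb⟩ := UniqueFactorizationMonoid.exists_reduced_factors (φ a) hφa (φ b)
  have hc0 : c ≠ 0 := by rintro rfl; exact hφa (by rw [← hca, zero_mul])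
  have hspan : Ideal.span {φ a, φ b} = Ideal.span {c} * Ideal.span {a', b'} := by
    rw [← hca, ← hcb, Ideal.span_mul_span']
    simp [Set.singleton_mul, Set.image_pair]
  by_cases hu : IsUnit a' ∨ IsUnit b'
  · refine ⟨c, mem_nonZeroDivisors_of_ne_zero hc0, ?_⟩
    rw [hspan, show Ideal.span {a', b'} = (⊤ : Ideal S) from ?_, Ideal.mul_top]
    rcases hu with h | h
    · exact Ideal.eq_top_of_isUnit_mem _ (Ideal.subset_span (Set.mem_insert _ _)) h
    · exact Ideal.eq_top_of_isUnit_mem _ (Ideal.subset_span (Set.mem_insert_of_mem _ rfl)) h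
  exfalso
  rw [not_or] at hu
  have ha'm : a' ∈ IsLocalRing.maximalIdeal S := (IsLocalRing.mem_maximalIdeal _).2 hu.1
  have hb'm : b' ∈ IsLocalRing.maximalIdeal S := (IsLocalRing.mem_maximalIdeal _).2 hu.2
  have hcm : c ∈ IsLocalRing.maximalIdeal S := by
    refine (IsLocalRing.mem_maximalIdeal _).2 fun hc => ?_
    have ha'P : a' ∈ P := (Ideal.IsPrime.mem_or_mem ‹_› (hca.symm ▸ haP)).resolve_left fun h =>
      ‹P.IsPrime›.ne_top (Ideal.eq_top_of_isUnit_mem _ h hc)
    have hb'P : b' ∈ P := (Ideal.IsPrime.mem_or_mem ‹_› (hcb.symm ▸ hbP)).resolve_left fun h =>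
      ‹P.IsPrime›.ne_top (Ideal.eq_top_of_isUnit_mem _ h hc)
    have ha'0 : a' ≠ 0 := by rintro rfl; exact hφa (by rw [← hca, mul_zero])
    obtain ⟨p, hpP, hp⟩ := Ideal.IsPrime.exists_mem_prime_of_ne_bot (I := P) ‹_›
      fun h0 => ha'0 (Ideal.mem_bot.1 (h0 ▸ ha'P))
    haveI hpp : (Ideal.span {p}).IsPrime := (Ideal.span_singleton_prime hp.ne_zero).2 hp
    have hle : Ideal.span {p} ≤ P := (Ideal.span_singleton_le_iff_mem _).2 hpP
    rcases eq_or_lt_of_le hle with e | hlt
    · exact hp.not_unit (hrel (Ideal.mem_span_singleton.1 (by rw [e]; exact ha'P))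
        (Ideal.mem_span_singleton.1 (by rw [e]; exact hb'P)))
    have hPm : P < IsLocalRing.maximalIdeal S :=
      lt_of_le_of_ne (IsLocalRing.le_maximalIdeal ‹P.IsPrime›.ne_top) hP
    have hbot : (⊥ : Ideal S) < Ideal.span {p} := bot_lt_iff_ne_bot.2 (by simp [hp.ne_zero])
    let s : LTSeries (PrimeSpectrum S) :=
      ((((RelSeries.singleton _ (⟨⊥, Ideal.isPrime_bot⟩ : PrimeSpectrum S)).snoc ⟨Ideal.span {p}, hpp⟩
        (by simp; exact hbot)).snoc ⟨P, inferInstance⟩ (by simp; exact hlt)).snoc
          ⟨IsLocalRing.maximalIdeal S, inferInstance⟩ (by simp; exact hPm))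
    have h3 : ((3 : ℕ) : WithBot ℕ∞) ≤ ringKrullDim S := Order.LTSeries.length_le_krullDim s
    rw [hdim] at h3
    exact absurd h3 (by decide)
  set K := FractionRing S
  have ha'0 : a' ≠ 0 := by rintro rfl; exact hφa (by rw [← hca, mul_zero])
  obtain ⟨V, hV⟩ := exists_valuation_transcendental (K := FractionRing S) ha'0 ha'm hb'm hrel
  set ν := V.valuation
  let ψ : R →+* FractionRing S := (algebraMap S (FractionRing S)).comp φ
  have hψ : Function.Injective ψ := (IsFractionRing.injective S (FractionRing S)).comp hinj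
  letI : Algebra R (FractionRing S) := ψ.toAlgebra
  set t := algebraMap S (FractionRing S) b' / algebraMap S (FractionRing S) a'
  let C := Algebra.adjoin R {t}
  haveI : Algebra.FiniteType R C := (Subalgebra.fg_iff_finiteType _).1 ⟨{t}, by simp [C]⟩
  haveI : IsNoetherianRing C := Algebra.FiniteType.isNoetherianRing R C
  have hC : ∀ u : C, ∃ p : R[X], (u : FractionRing S) = aeval t (p.map φ) ∧ aeval t p = (u : FractionRing S) := by
    intro u
    have hu := u.2
    simp only [C, Algebra.adjoin_singleton_eq_range_aeval] at hu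
    obtain ⟨p, hp⟩ := hu
    refine ⟨p, ?_, hp⟩
    rw [← hp]
    show aeval t p = _
    rw [aeval_def, aeval_def, eval₂_map]
    rfl
  have hle1 : ∀ u : C, ν (u : FractionRing S) ≤ 1 := fun u => by
    obtain ⟨p, hp, -⟩ := hC u
    rw [hp]; exact (hV _).1
  have hψa : ψ a = algebraMap S (FractionRing S) c * algebraMap S (FractionRing S) a' := by
    show algebraMap S (FractionRing S) (φ a) = _
    rw [← hca, map_mul]
  have hlt : ∀ u : C, ν (u : FractionRing S) < 1 → algebraMap R C a ∣ u := by
    intro u hu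
    obtain ⟨p, hp, hp'⟩ := hC u
    rw [hp, (hV _).2] at hu
    have hcoef : ∀ i, ∃ r r', r * a + r' * b = p.coeff i := fun i => Ideal.mem_span_pair.1 <| hm ▸ by
      have := hu i
      rw [coeff_map] at this
      exact (IsLocalRing.mem_maximalIdeal _).2 fun hh => (IsLocalRing.mem_maximalIdeal _).1 this (hh.map φ)
    choose r r' hr using hcoef
    have ha'K : algebraMap S (FractionRing S) a' ≠ 0 := fun h =>
      ha'0 (IsFractionRing.injective S (FractionRing S) (by rw [h, map_zero]))
    have hbt : ψ b = ψ a * t := by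
      show algebraMap S (FractionRing S) (φ b) = _
      rw [hψa, ← hcb, map_mul]
      simp only [t]
      field_simp
    have htC : t ∈ C := Algebra.self_mem_adjoin_singleton R t
    refine ⟨∑ i ∈ Finset.range (p.natDegree + 1),
      (algebraMap R C (r i) + algebraMap R C (r' i) * ⟨t, htC⟩) * ⟨t, htC⟩ ^ i, Subtype.ext ?_⟩
    rw [← hp', aeval_eq_sum_range]
    push_cast
    rw [Finset.mul_sum]
    refine Finset.sum_congr rfl fun i _ => ?_
    rw [Algebra.smul_def, ← hr i]
    show ψ (r i * a + r' i * b) * t ^ i = ψ a * ((ψ (r i) + ψ (r' i) * t) * t ^ i)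
    rw [map_add, map_mul, map_mul, hbt]
    ring
  have hνa : ν (ψ a) < 1 := by
    have h := ((hV (Polynomial.C (φ a))).2).2 fun i => by
      rw [coeff_C]; split_ifs
      · exact Ideal.mul_mem_right _ _ hcm |> fun h => hca ▸ h
      · exact zero_mem _
    rwa [aeval_C] at h
  have hlow : ∀ w : S, w ∈ IsLocalRing.maximalIdeal S → ν (algebraMap S (FractionRing S) w) ≤ ν (ψ a) := by
    intro w hw
    rcases eq_or_ne w 0 with rfl | hw0
    · simp
    obtain ⟨x, y, hy, he⟩ := hbir w
    have hx : x ≠ 0 := by
      rintro rfl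
      rw [map_zero] at he
      exact (mul_ne_zero (fun h => hy (hinj (by rw [h, map_zero]))) hw0) he
    have hane : algebraMap R C a ≠ 0 := fun h => ha (hψ (by
      have := congrArg Subtype.val h
      rw [map_zero]; exact this))
    have hau : ¬ IsUnit (algebraMap R C a) := fun h => by
      obtain ⟨v, hv⟩ := h.exists_right_inv
      have h1 := congrArg (fun z : C => ν (z : FractionRing S)) hv
      simp only [Subalgebra.coe_mul, Subalgebra.coe_one, map_mul, map_one] at h1
      exact (mul_lt_one_of_lt_of_le hνa (hle1 v)).ne h1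
    have hval : ∀ z : R, z ≠ 0 → ∃ n : ℕ, ν (ψ z) = ν (ψ a) ^ n := fun z hz => by
      obtain ⟨v, hv, hnd⟩ := (FiniteMultiplicity.of_not_isUnit hau
        (show algebraMap R C z ≠ 0 from fun h => hz (hψ (by
          have := congrArg Subtype.val h
          rw [map_zero]; exact this)))).exists_eq_pow_mul_and_not_dvd
      have h1 := congrArg (fun z : C => ν (z : FractionRing S)) hv
      simp only [Subalgebra.coe_mul, Subalgebra.coe_pow, map_mul, map_pow] at h1
      exact ⟨_, by
        rw [show ν (v : FractionRing S) = 1 from le_antisymm (hle1 v) (not_lt.1 fun h => hnd (hlt v h)), mul_one] at h1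
        exact h1⟩
    obtain ⟨n, hn⟩ := hval x hx
    obtain ⟨k, hk⟩ := hval y hy
    have hw1 : ν (algebraMap S (FractionRing S) w) < 1 := by
      have h := ((hV (Polynomial.C w)).2).2 fun i => by
        rw [coeff_C]; split_ifs
        · exact hw
        · exact zero_mem _
      rwa [aeval_C] at h
    have h1 := congrArg (fun z => ν (algebraMap S (FractionRing S) z)) he
    simp only [map_mul] at h1
    change ν (ψ y) * _ = ν (ψ x) at h1
    rw [hk, hn] at h1
    have hpos : 0 < ν (ψ a) := zero_lt_iff.2 ((Valuation.ne_zero_iff _).2 fun h => ha (hψ (by rw [h, map_zero])))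
    have hkn : k < n := by
      by_contra hnk
      rw [not_lt] at hnk
      have h2 : ν (ψ a) ^ k * ν (algebraMap S (FractionRing S) w) < ν (ψ a) ^ k * 1 :=
        mul_lt_mul_of_pos_left hw1 (pow_pos hpos k)
      rw [mul_one, h1] at h2
      exact h2.not_ge (pow_le_pow_right_of_le_one' hνa.le hnk)
    refine le_of_mul_le_mul_left ?_ (pow_pos hpos k)
    rw [h1, ← pow_succ]
    exact pow_le_pow_right_of_le_one' hνa.le hkn
  have hca' := hlow c hcm
  have ha'1 : ν (algebraMap S (FractionRing S) a') < 1 := lt_of_le_of_lt (hlow a' ha'm) hνa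
  have h1 : ν (ψ a) = ν (algebraMap S (FractionRing S) c) * ν (algebraMap S (FractionRing S) a') := by
    rw [hψa, map_mul]
  have hpos : 0 < ν (ψ a) := zero_lt_iff.2 ((Valuation.ne_zero_iff _).2 fun h => ha (hψ (by rw [h, map_zero])))
  have h2 : ν (ψ a) ≤ ν (ψ a) * ν (algebraMap S (FractionRing S) a') := by
    conv_lhs => rw [h1]
    exact mul_le_mul_of_nonneg_right hca' zero_le
  exact (h2.trans_lt ((mul_lt_mul_of_pos_left ha'1 hpos).trans_eq (mul_one _))).false

end Groth.Agent.H28Contr
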