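import Groth.Agent.H28Contr.Factor
import Groth.Agent.H28Contr.Rational
import Groth.Agent.S2348

/-!
# Proper birational morphisms of regular surfaces are composites of blow-ups of points
-/

set_option autoImplicit false
set_option linter.style.haveILetI false
set_option backward.isDefEq.respectTransparency.types false

universe u

open CategoryTheory CategoryTheory.Limits AlgebraicGeometry TopologicalSpace

namespace Groth.Agent.H28Contr

variable {X Y : Scheme.{u}}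

/-- All closed points of the fibre have a strict generisation in it. -/
def FibreCurve {Z : Scheme.{u}} (u : X ⟶ Z) (y : Z) : Prop :=
  ∀ x, u x = y → IsClosed ({x} : Set X) → ∃ z, u z = y ∧ z ⤳ x ∧ z ≠ x

theorem exists_iso_nhd_or_fibreCurve [IsIntegral X] [IsNoetherian X] [IsIntegral Y] [IsNoetherian Y] (f : X ⟶ Y)
    [IsProper f] (W : Y.Opens) (hW : (W : Set Y).Nonempty) [IsIso (f ∣_ W)] {y : Y}
    (hy : IsClosed ({y} : Set Y)) (hYy : IsRegularLocalRing (Y.presheaf.stalk y)) :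
    (∃ V : Y.Opens, y ∈ V ∧ IsIso (f ∣_ V)) ∨ FibreCurve f y := by
  by_cases hc : FibreCurve f y
  · exact Or.inr hc
  simp only [FibreCurve, not_forall, not_exists, not_and, not_not] at hc
  obtain ⟨x, rfl, hxc, hno⟩ := hc
  obtain ⟨hξ, hiso⟩ := generic_of_birational f W hW
  haveI := hYy
  haveI := H4Depth.isDomain_of_isRegularLocalRing (Y.presheaf.stalk (f x))
  haveI := H28Alg.ufd_of_regular (Y.presheaf.stalk (f x))
  exact Or.inl (Groth.Agent.H7Lim.exists_isIso_restrict f hξ x inferInstance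
    (quasiFiniteAt_of_no_generisation f hxc hy hno))

/-- The tracked property: `f` lifts and the given points have curves as fibres. -/
def Lifts (f : X ⟶ Y) (Z : Scheme.{u}) (r : Z ⟶ Y) (B : Set Z) : Prop :=
  ∃ u : X ⟶ Z, u ≫ r = f ∧ ∀ y ∈ B, FibreCurve u y

/-- The points not yet in the domain of the inverse. -/
theorem fibreCurve_of_bad [IsIntegral X] [IsNoetherian X] [IsIntegral Y] [IsNoetherian Y] {f : X ⟶ Y} [IsProper f]
    {U : Y.Opens} (hU : (U : Set Y).Nonempty) [hfU : IsIso (f ∣_ U)] (S : Stage Y U) (u : X ⟶ S.Z)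
    (hu : u ≫ S.g = f) {y : S.Z} (hy : y ∈ S.bad f (inv (f ∣_ U) ≫ (f ⁻¹ᵁ U).ι)) : FibreCurve u y := by
  subst hu
  have hs : (inv ((u ≫ S.g) ∣_ U) ≫ ((u ≫ S.g) ⁻¹ᵁ U).ι) ≫ u ≫ S.g = U.ι := by
    rw [Category.assoc, ← morphismRestrict_ι, IsIso.inv_hom_id_assoc]
  obtain ⟨hyU, hyc, hyreg, -⟩ := (S.bad_props (p := u ≫ S.g) hs).2 y hy
  haveI := S.iso
  haveI : IsIntegral S.Z := S.inv.isIntegral hU
  haveI : IsProper S.g := isProper_and_isNoetherian_of_seq S.seq inferInstance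
  haveI : IsProper u := IsProper.of_comp u S.g
  haveI : IsIso (u ∣_ S.g ⁻¹ᵁ U) := by
    have h : IsIso (u ∣_ S.g ⁻¹ᵁ U ≫ S.g ∣_ U) := by rw [← morphismRestrict_comp]; exact hfU
    exact @IsIso.of_isIso_comp_right _ _ _ _ _ _ (S.g ∣_ U) inferInstance h
  have hne : ((S.g ⁻¹ᵁ U : S.Z.Opens) : Set S.Z).Nonempty :=
    ⟨_, ((S.g ∣_ U).homeomorph.symm ⟨hU.choose, hU.choose_spec⟩).2⟩
  refine (exists_iso_nhd_or_fibreCurve u (S.g ⁻¹ᵁ U) hne hyc hyreg).resolve_left fun ⟨V, hyV, hV⟩ => hy ?_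
  haveI := hV
  refine ⟨V, inv (u ∣_ V) ≫ (u ⁻¹ᵁ V).ι, hyV, ?_, fun T a c he => ?_⟩
  · rw [Category.assoc, ← morphismRestrict_ι_assoc, IsIso.inv_hom_id_assoc]
  · have h1 : (a ≫ inv (u ∣_ V) ≫ (u ⁻¹ᵁ V).ι) ≫ u ≫ S.g = c ≫ U.ι := by
      rw [Category.assoc, Category.assoc, ← morphismRestrict_ι_assoc, IsIso.inv_hom_id_assoc, he]
    have hr : Set.range (a ≫ inv (u ∣_ V) ≫ (u ⁻¹ᵁ V).ι) ⊆ Set.range ((u ≫ S.g) ⁻¹ᵁ U).ι := by
      rintro _ ⟨t, rfl⟩
      rw [Scheme.Opens.range_ι]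
      have : ((a ≫ inv (u ∣_ V) ≫ (u ⁻¹ᵁ V).ι) ≫ u ≫ S.g) t ∈ U := by rw [h1]; exact (c t).2
      exact this
    have h2 : IsOpenImmersion.lift _ _ hr ≫ ((u ≫ S.g) ∣_ U) = c := by
      rw [← cancel_mono U.ι, Category.assoc, morphismRestrict_ι, IsOpenImmersion.lift_fac_assoc, h1]
    conv_rhs => rw [← h2, Category.assoc, IsIso.hom_inv_id_assoc, IsOpenImmersion.lift_fac]

/-- Effective Cartier ideals pull back along isomorphisms. -/
theorem isEffCartier_comap_iso {Z Z' : Scheme.{u}} [IsLocallyNoetherian Z'] (e : Z' ⟶ Z) [IsIso e]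
    (I : Z.IdealSheafData) (hI : BlowUp.IsEffCartierIdeal I) : BlowUp.IsEffCartierIdeal (I.comap e) := by
  refine isEffCartier_of_isPrin _ fun x => ?_
  rw [H3CAlg.DiagStalk.stalkIdeal_comap e I x]
  refine isPrin_map (asIso (e.stalkMap x)).commRingCatIsoToRingEquiv ?_
  obtain ⟨V, hxV, f, hf, hfI⟩ := hI (e x)
  letI := TopCat.Presheaf.algebra_section_stalk Z.presheaf (⟨e x, hxV⟩ : V.1)
  haveI := V.2.isLocalization_stalk ⟨e x, hxV⟩
  refine ⟨algebraMap Γ(Z, V.1) (Z.presheaf.stalk (e x)) f, IsLocalization.map_nonZeroDivisors_le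
    (V.2.primeIdealOf ⟨e x, hxV⟩).asIdeal.primeCompl _ ⟨_, hf, rfl⟩, ?_⟩
  rw [H29Ref.stalkIdeal_eq I (e x) V hxV, hfI, Ideal.map_span, Set.image_singleton]
  rfl

/-- Contraction sequences may be composed with an isomorphism on the left. -/
theorem seq_iso_comp {X' Z Y : Scheme.{u}} [IsNoetherian X'] (e : X' ⟶ Z) [IsIso e] {g : Z ⟶ Y}
    (hg : Models.IsContractionSeq g) : Models.IsContractionSeq (e ≫ g) := by
  cases hg with
  | iso e' => exact Models.IsContractionSeq.iso (asIso e ≪≫ e')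
  | step ι b r hι hE hb hr =>
    obtain ⟨hN, hp, y, hy, -, hreg, hdim, hblow⟩ := hb
    haveI := hN
    haveI := hp
    have hblow' : BlowUp.IsBlowUp (e ≫ b) (Scheme.IdealSheafData.vanishingIdeal ⟨{y}, hy⟩) := by
      refine ⟨?_, fun T t ht => ?_⟩
      · rw [Scheme.IdealSheafData.comap_comp]
        exact isEffCartier_comap_iso e _ hblow.1
      · obtain ⟨h, hh, huniq⟩ := hblow.2 T t ht
        refine ⟨h ≫ inv e, by simpa using hh, fun h' hh' => ?_⟩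
        rw [← huniq (h' ≫ e) (by simpa using hh'), Category.assoc, IsIso.hom_inv_id, Category.comp_id]
    obtain ⟨hexc, hcontr⟩ := isExcCurve_and_isContractionOf hy hreg hdim hblow'
    rw [← Category.assoc]
    exact Models.IsContractionSeq.step _ (e ≫ b) r inferInstance hexc hcontr hr

/-- Proper birational morphisms of regular surfaces are composites of point blow-ups. -/
theorem isContractionSeq_of_birational [IsIntegral X] [IsNoetherian X] [IsIntegral Y] [IsNoetherian Y] (f : X ⟶ Y)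
    [IsProper f] (U : Y.Opens) (hU : (U : Set Y).Nonempty) [hfU : IsIso (f ∣_ U)]
    (hX : ∀ x : X, IsRegularLocalRing (X.presheaf.stalk x)) (hdX : ∀ x : X, ringKrullDim (X.presheaf.stalk x) ≤ 2)
    (hY : ∀ y : Y, IsRegularLocalRing (Y.presheaf.stalk y)) (hdY : ∀ y : Y, ringKrullDim (Y.presheaf.stalk y) ≤ 2) :
    Models.IsContractionSeq f := by
  set s : (U : Scheme.{u}) ⟶ X := inv (f ∣_ U) ≫ (f ⁻¹ᵁ U).ι with hsdef
  have hs : s ≫ f = U.ι := by rw [hsdef, Category.assoc, ← morphismRestrict_ι, IsIso.inv_hom_id_assoc]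
  have hinv : Inv U (𝟙 Y) := by
    refine ⟨fun z _ => hY z, fun z _ => hdY z, fun z _ P hP => ?_⟩
    show Y.fromSpecStalk z P ∈ U
    obtain ⟨Q, hQ⟩ : genericPoint Y ∈ Set.range (Y.fromSpecStalk z) := by
      rw [Scheme.range_fromSpecStalk]; exact genericPoint_specializes z
    refine (((PrimeSpectrum.le_iff_specializes P Q).1 ?_).map (Y.fromSpecStalk z).continuous).mem_open U.2 ?_
    · show P.asIdeal ≤ Q.asIdeal
      rw [hP]; exact bot_le
    · rw [hQ]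
      exact (genericPoint_specializes hU.choose).mem_open U.2 hU.choose_spec
  have hΦ : ∀ (Z Z₁ : Scheme.{u}) [IsNoetherian Z] [IsNoetherian Z₁] (r : Z ⟶ Y) (b : Z₁ ⟶ Z) (B : Set Z) (y : Z)
      (hy : IsClosed ({y} : Set Z)), y ∈ B → IsRegularLocalRing (Z.presheaf.stalk y) →
      ringKrullDim (Z.presheaf.stalk y) = 2 →
      BlowUp.IsBlowUp b (Scheme.IdealSheafData.vanishingIdeal ⟨{y}, hy⟩) →
      (Lifts f Z r B ∧ IsIntegral Z ∧ IsProper r ∧ IsIso (r ∣_ U) ∧ ∀ w ∈ B, r w ∉ U) →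
      (Lifts f Z₁ (b ≫ r) (b ⁻¹' (B \ {y})) ∧ IsIntegral Z₁ ∧ IsProper (b ≫ r) ∧ IsIso ((b ≫ r) ∣_ U) ∧
        ∀ w ∈ b ⁻¹' (B \ {y}), (b ≫ r) w ∉ U) := by
    intro Z Z₁ _ _ r b B y hy hyB hreg hdim hb ⟨⟨u, hu, hcur⟩, hint, hpr, hisoU, hBU⟩
    haveI := hint
    haveI := hpr
    haveI := hisoU
    subst hu
    haveI := hfU
    haveI : IsProper u := IsProper.of_comp u r
    haveI : IsIso (u ∣_ r ⁻¹ᵁ U) := by
      have h : IsIso (u ∣_ r ⁻¹ᵁ U ≫ r ∣_ U) := by rw [← morphismRestrict_comp]; exact hfU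
      exact @IsIso.of_isIso_comp_right _ _ _ _ _ _ (r ∣_ U) inferInstance h
    have hne : ((r ⁻¹ᵁ U : Z.Opens) : Set Z).Nonempty :=
      ⟨_, ((r ∣_ U).homeomorph.symm ⟨hU.choose, hU.choose_spec⟩).2⟩
    obtain ⟨hexc, hcontr⟩ := isExcCurve_and_isContractionOf hy hreg hdim hb
    haveI : IsProper b := hcontr.2.1
    haveI hisob : IsIso (b ∣_ r ⁻¹ᵁ U) := H29Blow.isIso_morphismRestrict hb _ fun x hx hsupp => by
      rw [← SetLike.mem_coe, Scheme.IdealSheafData.coe_support_vanishingIdeal] at hsupp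
      exact hBU y hyB ((show x = y from hsupp) ▸ hx)
    haveI hisoU' : IsIso ((b ≫ r) ∣_ U) := by
      rw [morphismRestrict_comp]
      exact IsIso.comp_isIso' hisob hisoU
    have hfield : ¬ IsField (Z.presheaf.stalk y) := fun h => by
      rw [ringKrullDim_eq_zero_of_isField h] at hdim; exact absurd hdim (by decide)
    obtain ⟨u₁, hu₁, -⟩ := hb.2 X u (isEffCartier_comap_point u (r ⁻¹ᵁ U) hne hX hdX hy hreg hdim.le hfield
      (hcur y hyB))
    refine ⟨⟨u₁, by rw [reassoc_of% hu₁], fun w hw x hx hxc => ?_⟩, ?_, inferInstance, hisoU', fun w hw => hBU _ hw.1⟩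
    · have hwy : b w ≠ y := hw.2
      obtain ⟨z, hz1, hz2, hz3⟩ := hcur (b w) hw.1 x (by rw [← hu₁, Scheme.Hom.comp_apply, hx]) hxc
      refine ⟨z, ?_, hz2, hz3⟩
      let W₀ : Z.Opens := ⟨{y}ᶜ, hy.isOpen_compl⟩
      haveI : IsIso (b ∣_ W₀) := H29Blow.isIso_morphismRestrict hb _
        fun x hx hsupp => by
          rw [← SetLike.mem_coe, Scheme.IdealSheafData.coe_support_vanishingIdeal] at hsupp
          exact hx hsupp
      have hinj : Function.Injective (b ∣_ W₀) := (b ∣_ W₀).homeomorph.injective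
      have hz1' : b (u₁ z) = b w := by rw [← Scheme.Hom.comp_apply, hu₁, hz1]
      have := @hinj ⟨u₁ z, show b (u₁ z) ∈ W₀ by rw [hz1']; exact hwy⟩ ⟨w, show b w ∈ W₀ from hwy⟩ (Subtype.ext (by simpa using hz1'))
      exact congrArg Subtype.val this
    · haveI : Nonempty (r ⁻¹ᵁ U : Z.Opens).toScheme := ⟨⟨hne.choose, hne.choose_spec⟩⟩
      refine (Groth.Agent.S2348.result _ (fun h0 => ?_) b hb).1
      have hsupp : ((Scheme.IdealSheafData.vanishingIdeal (⟨{y}, hy⟩ : Closeds Z)).support : Set Z) = Set.univ := by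
          rw [h0]; simp
      rw [Scheme.IdealSheafData.coe_support_vanishingIdeal] at hsupp
      have hmem : hne.choose ∈ ({y} : Set Z) := by rw [show ({y} : Set Z) = Set.univ from hsupp]; trivial
      exact hBU y hyB (show y ∈ ((r ⁻¹ᵁ U : Z.Opens) : Set Z) by
        rw [← Set.mem_singleton_iff.1 hmem]; exact hne.choose_spec)
  obtain ⟨S, ⟨u, hu⟩, hS⟩ := exists_stage_good' (p := f) hs (fun S => ∃ u : X ⟶ S.Z, u ≫ S.g = f) (fun S hS => by
    obtain ⟨u, hu⟩ := hS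
    haveI := S.iso
    obtain ⟨S', q, h1, ⟨⟨u', hu', -⟩, -⟩, h3⟩ := S.exists_next' hs
      (fun Z r B => Lifts f Z r B ∧ IsIntegral Z ∧ IsProper r ∧ IsIso (r ∣_ U) ∧ ∀ w ∈ B, r w ∉ U) hΦ
      ⟨⟨u, hu, fun y hy => fibreCurve_of_bad hU S u hu hy⟩, S.inv.isIntegral hU,
        isProper_and_isNoetherian_of_seq S.seq inferInstance, S.iso, fun w hw => ((S.bad_props (p := f) hs).2 w hw).1⟩
    exact ⟨S', q, h1, ⟨u', hu'⟩, h3⟩)
    (⟨Y, inferInstance, 𝟙 Y, Models.IsContractionSeq.iso (Iso.refl Y), inferInstance, hinv⟩ : Stage Y U)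
    ⟨f, Category.comp_id _⟩
  obtain ⟨h, hh, hhU⟩ := exists_hom_of_ext hs S.inv fun z => by
    by_contra hz; exact (Set.eq_empty_iff_forall_notMem.1 hS z) hz
  subst hu
  haveI := hfU
  haveI := S.iso
  haveI : IsIntegral S.Z := S.inv.isIntegral hU
  haveI : IsProper S.g := isProper_and_isNoetherian_of_seq S.seq inferInstance
  haveI : IsIso (u ∣_ S.g ⁻¹ᵁ U) := by
    have h : IsIso (u ∣_ S.g ⁻¹ᵁ U ≫ S.g ∣_ U) := by rw [← morphismRestrict_comp]; exact hfU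
    exact @IsIso.of_isIso_comp_right _ _ _ _ _ _ (S.g ∣_ U) inferInstance h
  obtain ⟨z₀, hz₀⟩ : ((S.g ⁻¹ᵁ U : S.Z.Opens) : Set S.Z).Nonempty :=
    ⟨_, ((S.g ∣_ U).homeomorph.symm ⟨hU.choose, hU.choose_spec⟩).2⟩
  have hdense : ∀ {T : Scheme.{u}} [IsIntegral T] (V : T.Opens), (V : Set T).Nonempty → IsDominant V.ι :=
    fun V hV => ⟨by
      show Dense (Set.range V.ι)
      rw [Scheme.Opens.range_ι]
      exact V.2.dense hV⟩
  have key : (u ⁻¹ᵁ (S.g ⁻¹ᵁ U)).ι ≫ u ≫ h = (u ⁻¹ᵁ (S.g ⁻¹ᵁ U)).ι := by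
    rw [← morphismRestrict_ι_assoc, hhU, ← Category.assoc]
    show (u ∣_ S.g ⁻¹ᵁ U ≫ S.g ∣_ U) ≫ @inv _ _ _ _ ((u ≫ S.g) ∣_ U) hfU ≫ ((u ≫ S.g) ⁻¹ᵁ U).ι = _
    rw [← morphismRestrict_comp]
    exact @IsIso.hom_inv_id_assoc _ _ _ _ ((u ≫ S.g) ∣_ U) hfU _ _
  haveI := hdense (u ⁻¹ᵁ (S.g ⁻¹ᵁ U)) ⟨_, (((u ∣_ S.g ⁻¹ᵁ U).homeomorph.symm ⟨z₀, hz₀⟩)).2⟩
  have huh : u ≫ h = 𝟙 X := ext_of_isDominant_of_isSeparated (u ≫ S.g) (by rw [Category.assoc, hh, Category.id_comp])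
    (u ⁻¹ᵁ (S.g ⁻¹ᵁ U)).ι (key.trans (Category.comp_id _).symm)
  haveI := hdense (S.g ⁻¹ᵁ U) ⟨z₀, hz₀⟩
  have hhu : h ≫ u = 𝟙 S.Z := ext_of_isDominant_of_isSeparated S.g (by rw [Category.assoc, hh, Category.id_comp])
    (S.g ⁻¹ᵁ U).ι (by
      rw [Category.comp_id, ← cancel_epi (u ∣_ S.g ⁻¹ᵁ U), morphismRestrict_ι, morphismRestrict_ι_assoc,
        reassoc_of% key])
  haveI : IsIso u := ⟨⟨h, huh, hhu⟩⟩
  exact seq_iso_comp u S.seq

end Groth.Agent.H28Contr
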