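import Groth.Agent.H28Contr.Principal
import Groth.Agent.H28Alg.RegularUFD

/-!
# Ideals of finite colength, and the bad points of an ideal sheaf on a regular surface
-/

set_option autoImplicit false
set_option linter.style.haveILetI false
set_option backward.isDefEq.respectTransparency.types false

universe u

open CategoryTheory Limits AlgebraicGeometry TopologicalSpace

namespace Groth.Agent.H28Contr

/-- An ideal contained in no prime except the maximal one has finite colength. -/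
theorem exists_colBound_of_primes {R : Type u} [CommRing R] [IsLocalRing R] [IsNoetherianRing R] (J : Ideal R)
    (h : ∀ P : Ideal R, P.IsPrime → J ≤ P → P = IsLocalRing.maximalIdeal R) :
    ∃ n : ℕ, Module.length R (R ⧸ J) ≤ n := by
  haveI : Ring.KrullDimLE 0 (R ⧸ J) := Ring.KrullDimLE.mk₀ fun P hP => by
    haveI := hP.comap (Ideal.Quotient.mk J)
    have hPm := h (P.comap (Ideal.Quotient.mk J)) inferInstance fun x hx => by
      rw [Ideal.mem_comap, Ideal.Quotient.eq_zero_iff_mem.2 hx]; exact zero_mem _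
    exact (Ideal.map_comap_of_surjective _ Ideal.Quotient.mk_surjective P) ▸
      (Ideal.map_eq_top_or_isMaximal_of_surjective _ Ideal.Quotient.mk_surjective
        (show (P.comap (Ideal.Quotient.mk J)).IsMaximal from hPm.symm ▸ inferInstance)).resolve_left
        ((Ideal.map_comap_of_surjective _ Ideal.Quotient.mk_surjective P).symm ▸ hP.ne_top)
  haveI : IsArtinianRing (R ⧸ J) := isArtinianRing_iff_krullDimLE_zero.2 inferInstance
  have hfin : IsFiniteLength R (R ⧸ J) := isFiniteLength_iff_isNoetherian_isArtinian.2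
    ⟨inferInstance, isArtinian_of_surjective_algebraMap (R := R ⧸ J) (M := R ⧸ J) (S := R) Ideal.Quotient.mk_surjective⟩
  obtain ⟨n, hn⟩ := ENat.ne_top_iff_exists.1 (Module.length_ne_top_iff.2 hfin)
  exact ⟨n, hn.ge⟩

/-- A nonzero ideal of a factorial ring is a principal one times one with no common prime factor. -/
theorem exists_mul_of_ufd {R : Type u} [CommRing R] [IsDomain R] [UniqueFactorizationMonoid R] (z : R) :
    ∀ K : Ideal R, z ∈ K → z ≠ 0 →
      ∃ c : R, c ≠ 0 ∧ ∃ J : Ideal R, K = Ideal.span {c} * J ∧ (∃ w ∈ J, w ≠ 0) ∧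
        ∀ p : R, Prime p → ¬ J ≤ Ideal.span {p} := by
  induction z using WellFounded.induction (wellFounded_dvdNotUnit (α := R)) with
  | _ z ih =>
    intro K hzK hz
    by_cases h : ∃ p : R, Prime p ∧ K ≤ Ideal.span {p}
    · obtain ⟨p, hp, hKp⟩ := h
      obtain ⟨z', rfl⟩ := Ideal.mem_span_singleton.1 (hKp hzK)
      let K' : Ideal R := Submodule.comap (LinearMap.mulLeft R p) K
      have hK : K = Ideal.span {p} * K' := by
        refine le_antisymm (fun x hx => ?_) (Ideal.mul_le.2 fun a ha x hx => ?_)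
        · obtain ⟨x', rfl⟩ := Ideal.mem_span_singleton.1 (hKp hx)
          exact Ideal.mem_span_singleton_mul.2 ⟨x', hx, rfl⟩
        · obtain ⟨r, rfl⟩ := Ideal.mem_span_singleton'.1 ha
          rw [mul_assoc]
          exact K.mul_mem_left r hx
      have hz' : z' ≠ 0 := right_ne_zero_of_mul hz
      obtain ⟨c, hc, J, hJ, hw, hJp⟩ := ih z' ⟨hz', p, hp.not_unit, mul_comm p z'⟩ K' hzK hz'
      exact ⟨p * c, mul_ne_zero hp.ne_zero hc, J, by
        rw [hK, hJ, ← mul_assoc, Ideal.span_singleton_mul_span_singleton], hw, hJp⟩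
    · push Not at h
      exact ⟨1, one_ne_zero, K, by rw [Ideal.span_singleton_one, Ideal.top_mul], ⟨z, hzK, hz⟩, h⟩

/-- On a regular local ring of dimension two every nonzero ideal is principal times finite colength. -/
theorem exists_colBound_of_regular (R : Type u) [CommRing R] [IsRegularLocalRing R] (hdim : ringKrullDim R = 2)
    (K : Ideal R) (hK : K ≠ ⊥) : ∃ n, ColBound R K n := by
  haveI := H4Depth.isDomain_of_isRegularLocalRing R
  haveI := H28Alg.ufd_of_regular R
  obtain ⟨z, hzK, hz⟩ := Submodule.exists_mem_ne_zero_of_ne_bot hK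
  obtain ⟨c, hc, J, hKJ, ⟨w, hwJ, hw⟩, hJp⟩ := exists_mul_of_ufd z K hzK hz
  obtain ⟨n, hn⟩ := exists_colBound_of_primes J fun P hP hJP => by
    by_contra hne
    have hPbot : P ≠ ⊥ := fun h0 => hw (Ideal.mem_bot.1 (h0 ▸ hJP hwJ))
    obtain ⟨p, hpP, hp⟩ := hP.exists_mem_prime_of_ne_bot hPbot
    haveI hpp : (Ideal.span {p}).IsPrime := (Ideal.span_singleton_prime hp.ne_zero).2 hp
    have hle : Ideal.span {p} ≤ P := (Ideal.span_singleton_le_iff_mem _).2 hpP
    have hlt : Ideal.span {p} < P := lt_of_le_of_ne hle fun e => hJp p hp (e ▸ hJP)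
    have hPm : P < IsLocalRing.maximalIdeal R := lt_of_le_of_ne (IsLocalRing.le_maximalIdeal hP.ne_top) hne
    have hbot : (⊥ : Ideal R) < Ideal.span {p} := bot_lt_iff_ne_bot.2 (by simp [hp.ne_zero])
    let s : LTSeries (PrimeSpectrum R) :=
      ((((RelSeries.singleton _ (⟨⊥, Ideal.isPrime_bot⟩ : PrimeSpectrum R)).snoc ⟨Ideal.span {p}, hpp⟩
        (by simp; exact hbot)).snoc ⟨P, hP⟩ (by simp; exact hlt)).snoc
          ⟨IsLocalRing.maximalIdeal R, inferInstance⟩ (by simp; exact hPm))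
    have h3 : ((3 : ℕ) : WithBot ℕ∞) ≤ ringKrullDim R := Order.LTSeries.length_le_krullDim s
    rw [hdim] at h3
    exact absurd h3 (by decide)
  exact ⟨n, c, mem_nonZeroDivisors_of_ne_zero hc, J, hKJ, hn⟩

/-- A regular local ring of dimension at most one is principal. -/
theorem isPrincipalIdealRing_of_dim_le_one (R : Type u) [CommRing R] [IsRegularLocalRing R] [Ring.KrullDimLE 1 R] :
    IsPrincipalIdealRing R := by
  haveI := H4Depth.isDomain_of_isRegularLocalRing R
  have h1 : ((IsLocalRing.maximalIdeal R).spanFinrank : WithBot ℕ∞) = ringKrullDim R :=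
    IsRegularLocalRing.spanFinrank_maximalIdeal
  have h2 : ringKrullDim R ≤ (1 : ℕ) := Ring.krullDimLE_iff.1 inferInstance
  have h3 : (IsLocalRing.maximalIdeal R).spanFinrank ≤ 1 := by
    rw [← h1] at h2; exact_mod_cast h2
  have hmp : (IsLocalRing.maximalIdeal R).IsPrincipal := by
    obtain ⟨g, hg⟩ := Groth.Agent.H4Depth.exists_fun_fin_span_eq (I := IsLocalRing.maximalIdeal R)
    rcases Nat.le_one_iff_eq_zero_or_eq_one.1 h3 with h | h
    · refine ⟨⟨0, ?_⟩⟩
      refine hg.symm.trans ?_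
      have : Set.range g = ∅ := by
        rw [Set.range_eq_empty_iff, h]; infer_instance
      simp [this]
    · refine ⟨⟨g ⟨0, by omega⟩, ?_⟩⟩
      refine hg.symm.trans ?_
      congr 1
      ext z
      refine ⟨?_, fun hz => ⟨⟨0, by omega⟩, hz.symm⟩⟩
      rintro ⟨i, rfl⟩
      exact congrArg g (Fin.ext (by have := i.2; omega))
  exact ((tfae_of_isNoetherianRing_of_isLocalRing_of_isDomain R).out 0 4).2 hmp

/-- A nonzero ideal sheaf of an integral scheme has nonzero stalks. -/
theorem stalkIdeal_ne_bot {X : Scheme.{u}} [IsIntegral X] (I : X.IdealSheafData) (hI : I ≠ ⊥) (x : X) :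
    IntMult.stalkIdeal I x ≠ ⊥ := by
  intro h0
  apply hI
  ext U : 2
  rw [Scheme.IdealSheafData.ideal_bot, Pi.bot_apply, eq_bot_iff]
  intro z hz
  rw [Ideal.mem_bot]
  by_cases hU : Nonempty U.1
  · obtain ⟨V, hV, hxV, -⟩ := exists_isAffineOpen_mem_and_subset (X := X) (x := x) (U := ⊤) trivial
    obtain ⟨u, hu⟩ := hU
    have hne : (↑U.1 ∩ ↑V : Set X).Nonempty :=
      nonempty_preirreducible_inter U.1.isOpen V.isOpen ⟨u, hu⟩ ⟨x, hxV⟩
    obtain ⟨w, hwU, hwV⟩ := hne
    obtain ⟨W, hW, hwW, hWle⟩ := exists_isAffineOpen_mem_and_subset (X := X) (x := w) (U := U.1 ⊓ V) ⟨hwU, hwV⟩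
    have hIV : I.ideal ⟨V, hV⟩ = ⊥ := by
      rw [H29Ref.stalkIdeal_eq I x ⟨V, hV⟩ hxV] at h0
      exact (Ideal.map_eq_bot_iff_of_injective (germ_injective_of_isIntegral X x hxV)).1 h0
    have hIW : I.ideal ⟨W, hW⟩ = ⊥ := by
      rw [← I.map_ideal (U := ⟨W, hW⟩) (V := ⟨V, hV⟩) (hWle.trans inf_le_right), hIV, Ideal.map_bot]
    have hmem : X.presheaf.map (homOfLE (hWle.trans inf_le_left)).op z ∈ I.ideal ⟨W, hW⟩ := by
      rw [← I.map_ideal (U := ⟨W, hW⟩) (V := U) (hWle.trans inf_le_left)]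
      exact Ideal.mem_map_of_mem _ hz
    rw [hIW, Ideal.mem_bot] at hmem
    refine germ_injective_of_isIntegral X w hwU ?_
    rw [map_zero, ← X.presheaf.germ_res_apply (homOfLE (hWle.trans inf_le_left)) w hwW]
    exact (congrArg (X.presheaf.germ W w hwW) hmem).trans (map_zero _)
  · have : U.1 = ⊥ := by
      ext w
      exact ⟨fun hw => (hU ⟨⟨w, hw⟩⟩).elim, fun h => h.elim⟩
    haveI : Subsingleton Γ(X, U.1) := by rw [this]; exact CommRingCat.subsingleton_of_isTerminal X.sheaf.isTerminalOfEmpty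
    exact Subsingleton.elim _ _

/-- Being principal and regular spreads to a neighbourhood. -/
theorem isOpen_isPrin {X : Scheme.{u}} [IsLocallyNoetherian X] (K : X.IdealSheafData) :
    IsOpen {x | IsPrin _ (IntMult.stalkIdeal K x)} := by
  rw [isOpen_iff_forall_mem_open]
  rintro x ⟨c, hc, hcK⟩
  obtain ⟨V, hV, hxV, -⟩ := exists_isAffineOpen_mem_and_subset (X := X) (x := x) (U := ⊤) trivial
  haveI : IsNoetherianRing Γ(X, V) := IsLocallyNoetherian.component_noetherian ⟨V, hV⟩
  letI := TopCat.Presheaf.algebra_section_stalk X.presheaf (⟨x, hxV⟩ : V)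
  haveI := hV.isLocalization_stalk ⟨x, hxV⟩
  obtain ⟨t, ht, z, -, hT⟩ := H29Blow.exists_basicOpen_principal (A := X.presheaf.stalk x)
    (hV.primeIdealOf ⟨x, hxV⟩).asIdeal (K.ideal ⟨V, hV⟩) hc ((H29Ref.stalkIdeal_eq K x ⟨V, hV⟩ hxV).symm.trans hcK)
  letI : Algebra Γ(X, V) Γ(X, X.basicOpen t) := (X.presheaf.map (homOfLE (X.basicOpen_le t)).op).hom.toAlgebra
  haveI : IsLocalization.Away t Γ(X, X.basicOpen t) := hV.isLocalization_basicOpen t
  obtain ⟨h1, h2⟩ := hT Γ(X, X.basicOpen t)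
  refine ⟨X.basicOpen t, fun w hw => ?_, (X.basicOpen t).isOpen, ?_⟩
  · letI := TopCat.Presheaf.algebra_section_stalk X.presheaf (⟨w, hw⟩ : X.basicOpen t)
    haveI := (hV.basicOpen t).isLocalization_stalk ⟨w, hw⟩
    refine ⟨algebraMap Γ(X, X.basicOpen t) (X.presheaf.stalk w) (algebraMap Γ(X, V) Γ(X, X.basicOpen t) z),
      IsLocalization.map_nonZeroDivisors_le ((hV.basicOpen t).primeIdealOf ⟨w, hw⟩).asIdeal.primeCompl _
        ⟨_, h2, rfl⟩, ?_⟩
    rw [H29Ref.stalkIdeal_eq K w ⟨X.basicOpen t, hV.basicOpen t⟩ hw,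
      ← K.map_ideal (U := ⟨X.basicOpen t, hV.basicOpen t⟩) (V := ⟨V, hV⟩) (X.basicOpen_le t)]
    show ((K.ideal ⟨V, hV⟩).map (algebraMap Γ(X, V) Γ(X, X.basicOpen t))).map _ = _
    rw [h1, Ideal.map_span, Set.image_singleton]
    rfl
  · show x ∈ X.basicOpen t
    rw [X.mem_basicOpen _ x hxV]
    exact IsLocalization.map_units (X.presheaf.stalk x) (⟨t, ht⟩ : (hV.primeIdealOf ⟨x, hxV⟩).asIdeal.primeCompl)

/-- A closed set of a Noetherian space all of whose points are closed is finite. -/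
theorem finite_of_closed_points {X : Type u} [TopologicalSpace X] [QuasiSober X] [NoetherianSpace X] {S : Set X}
    (hS : IsClosed S) (h : ∀ x ∈ S, IsClosed ({x} : Set X)) : S.Finite := by
  haveI : NoetherianSpace S := inferInstance
  obtain ⟨T, hTfin, hTirr, hST⟩ : ∃ T : Set (Set X), T.Finite ∧ (∀ t ∈ T, IsIrreducible t ∧ IsClosed t) ∧ S = ⋃₀ T := by
    obtain ⟨T, hTfin, hT1, hT2, hT3⟩ := NoetherianSpace.exists_finite_set_isClosed_irreducible hS
    exact ⟨T, hTfin, fun t ht => ⟨hT2 t ht, hT1 t ht⟩, hT3⟩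
  rw [hST]
  refine Set.Finite.sUnion hTfin fun t ht => ?_
  obtain ⟨η, hη⟩ := QuasiSober.sober (hTirr t ht).1 (hTirr t ht).2
  refine (Set.finite_singleton η).subset fun w hw => ?_
  have hηS : η ∈ S := hST ▸ ⟨t, ht, hη.mem⟩
  have := (hη.specializes hw).mem_closed (h η hηS) rfl
  exact this

/-- An ideal with support in finitely many regular two-dimensional points has finite colength there. -/
theorem exists_colBound_of_support {X : Scheme.{u}} [IsLocallyNoetherian X] (I : X.IdealSheafData) {x : X}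
    (h : ∀ x' ∈ (I.support : Set X), x' ⤳ x → x' = x) : ∃ n, ColBound _ (IntMult.stalkIdeal I x) n := by
  obtain ⟨V, hV, hxV, -⟩ := exists_isAffineOpen_mem_and_subset (X := X) (x := x) (U := ⊤) trivial
  letI := TopCat.Presheaf.algebra_section_stalk X.presheaf (⟨x, hxV⟩ : V)
  haveI := hV.isLocalization_stalk ⟨x, hxV⟩
  obtain ⟨n, hn⟩ := exists_colBound_of_primes (IntMult.stalkIdeal I x) fun P hP hIP => by
    set P' : PrimeSpectrum Γ(X, V) := ⟨P.comap (algebraMap Γ(X, V) (X.presheaf.stalk x)), hP.comap _⟩ with hP'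
    have hle : P'.asIdeal ≤ (hV.primeIdealOf ⟨x, hxV⟩).asIdeal := by
      rw [← IsLocalization.AtPrime.comap_maximalIdeal (X.presheaf.stalk x) (hV.primeIdealOf ⟨x, hxV⟩).asIdeal]
      exact Ideal.comap_mono (IsLocalRing.le_maximalIdeal hP.ne_top)
    have hsp : hV.fromSpec P' ⤳ x := by
      have h1 := ((PrimeSpectrum.le_iff_specializes P' _).1 hle).map hV.fromSpec.continuous
      erw [hV.fromSpec_primeIdealOf ⟨x, hxV⟩] at h1
      exact h1
    have hPV : hV.fromSpec P' ∈ V := by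
      rw [← SetLike.mem_coe, ← hV.range_fromSpec]; exact Set.mem_range_self _
    have hsupp : hV.fromSpec P' ∈ (I.support : Set X) := by
      rw [SetLike.mem_coe, Scheme.IdealSheafData.mem_support_iff_of_mem (U := ⟨V, hV⟩) hPV,
        Scheme.mem_zeroLocus_iff]
      intro f hf hfmem
      have h1 : P' ∈ hV.fromSpec ⁻¹ᵁ X.basicOpen f := hfmem
      rw [hV.fromSpec_preimage_basicOpen] at h1
      refine h1 (hIP ?_)
      rw [H29Ref.stalkIdeal_eq I x ⟨V, hV⟩ hxV]
      exact Ideal.mem_map_of_mem _ hf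
    have heq : P' = hV.primeIdealOf ⟨x, hxV⟩ := hV.fromSpec.isOpenEmbedding.injective
      ((h _ hsupp hsp).trans (hV.fromSpec_primeIdealOf ⟨x, hxV⟩).symm)
    rw [← IsLocalization.map_comap (hV.primeIdealOf ⟨x, hxV⟩).asIdeal.primeCompl (X.presheaf.stalk x) P]
    rw [show Ideal.under Γ(X, V) P = (hV.primeIdealOf ⟨x, hxV⟩).asIdeal from
      congrArg PrimeSpectrum.asIdeal heq]
    exact IsLocalization.AtPrime.map_eq_maximalIdeal _ _
  exact ⟨n, 1, one_mem _, _, by rw [Ideal.span_singleton_one, Ideal.top_mul], hn⟩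

end Groth.Agent.H28Contr
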