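import Groth.Agent.H28Contr.PointBlow
import Groth.Agent.S1680
import Groth.Agent.H4Depth.Regular
import Groth.Agent.H17.P1Fibre
import Groth.Agent.H22Alg.ProjDim2
import Groth.Prelude.Def_ModelsG
import Mathlib

/-!
# Contractions of exceptional curves have the universal property
-/

set_option autoImplicit false
set_option backward.isDefEq.respectTransparency.types false

universe u

open CategoryTheory Limits AlgebraicGeometry TopologicalSpace

namespace Groth.Agent.H28Contr

section Algebra

theorem mem_nonZeroDivisors_of_spread {A L : Type u} [CommRing A] [CommRing L] [Algebra A L] (t x t₀ : A)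
    [IsLocalization.Away t L] (hu : IsUnit (algebraMap A L t₀))
    (h : ∀ z ∈ (⊥ : Ideal A).colon {x}, t₀ * z ∈ (⊥ : Ideal A)) :
    algebraMap A L x ∈ nonZeroDivisors L := by
  refine mem_nonZeroDivisors_iff_right.2 fun z hz => ?_
  obtain ⟨⟨w, s⟩, hw⟩ := IsLocalization.surj (Submonoid.powers t) z
  have h1 : algebraMap A L (w * x) = algebraMap A L 0 := by
    rw [map_mul, map_zero, ← hw, mul_right_comm, hz, zero_mul]
  obtain ⟨c, hc⟩ := IsLocalization.exists_of_eq (M := Submonoid.powers t) h1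
  have h2 := h ((c : A) * w) (by
    rw [Submodule.mem_colon_singleton, smul_eq_mul, Ideal.mem_bot, mul_assoc, hc, mul_zero])
  rw [Ideal.mem_bot] at h2
  have h3 := congrArg (algebraMap A L) h2
  rw [map_mul, map_mul, map_zero, ← hw] at h3
  have h4 := (hu.mul (IsLocalization.map_units L c)).mul_right_eq_zero.1 (by rw [mul_assoc]; exact h3)
  exact (IsLocalization.map_units L s).mul_left_eq_zero.1 h4

theorem isMaximal_map_away {A : Type u} [CommRing A] (t : A) (m : Ideal A) [hm : m.IsMaximal]
    (hdisj : Disjoint (Submonoid.powers t : Set A) m) (L : Type u) [CommRing L] [Algebra A L]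
    [IsLocalization.Away t L] : (m.map (algebraMap A L)).IsMaximal := by
  haveI hP : (m.map (algebraMap A L)).IsPrime :=
    IsLocalization.isPrime_of_isPrime_disjoint (Submonoid.powers t) L m hm.isPrime hdisj
  obtain ⟨Q, hQ, hle⟩ := Ideal.exists_le_maximal _ hP.ne_top
  have h1 : m = Q.comap (algebraMap A L) := hm.eq_of_le (hQ.isPrime.comap _).ne_top
    (Ideal.map_le_iff_le_comap.1 hle)
  rw [h1, IsLocalization.map_comap (Submonoid.powers t) L]
  exact hQ

theorem exists_regPair {A : Type u} [CommRing A] [IsNoetherianRing A] (m : Ideal A) [m.IsMaximal]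
    (hreg : IsRegularLocalRing (Localization.AtPrime m))
    (hdim : ringKrullDim (Localization.AtPrime m) = 2) :
    ∃ s ∉ m, ∀ (L : Type u) [CommRing L] [Algebra A L] [IsLocalization.Away s L],
      ∃ a b : L, m.map (algebraMap A L) = Ideal.span {a, b} ∧ RegPair a b ∧
        (m.map (algebraMap A L)).IsMaximal := by
  let Am := Localization.AtPrime m
  classical
  haveI := hreg
  have hmax : IsLocalRing.maximalIdeal Am = m.map (algebraMap A Am) :=
    (IsLocalization.AtPrime.map_eq_maximalIdeal m Am).symm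
  obtain ⟨g, hg⟩ : ∃ g : Fin 2 → Am, Ideal.span (Set.range g) = IsLocalRing.maximalIdeal Am := by
    have h := IsRegularLocalRing.spanFinrank_maximalIdeal (R := Am)
    rw [hdim] at h
    have : (IsLocalRing.maximalIdeal Am).spanFinrank = 2 := by exact_mod_cast h
    rw [← this]; exact Groth.Agent.H4Depth.exists_fun_fin_span_eq
  have hgm : ∀ i, g i ∈ IsLocalRing.maximalIdeal Am := fun i => hg ▸ Ideal.subset_span ⟨i, rfl⟩
  choose x s hx using fun i => IsLocalization.exists_mk'_eq m.primeCompl (g i)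
  have hspan : Ideal.span (Set.range fun i => algebraMap A Am (x i)) = IsLocalRing.maximalIdeal Am := by
    rw [← hg]
    refine le_antisymm (Ideal.span_le.2 ?_) (Ideal.span_le.2 ?_) <;> rintro _ ⟨i, rfl⟩
    · show algebraMap A Am (x i) ∈ _
      rw [← IsLocalization.mk'_spec Am (x i) (s i), hx i]
      exact Ideal.mul_mem_right _ _ (Ideal.subset_span ⟨i, rfl⟩)
    · show g i ∈ _
      rw [← hx i, IsLocalization.mk'_eq_mul_mk'_one]
      exact Ideal.mul_mem_right _ _ (Ideal.subset_span ⟨i, rfl⟩)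
  have hxm : ∀ i, x i ∈ m := fun i =>
    (IsLocalization.AtPrime.to_map_mem_maximal_iff Am m (x i) inferInstance).1
      (hspan ▸ Ideal.subset_span ⟨i, rfl⟩)
  have hregseq := Groth.Agent.H4Depth.isRegular_ofFn_of_span_eq 2 (by exact_mod_cast hdim)
    (fun i => algebraMap A Am (x i)) hspan
  haveI := Groth.Agent.H4Depth.isDomain_of_isRegularLocalRing Am
  set φ := algebraMap A Am with hφ
  rw [List.ofFn_succ, List.ofFn_succ, List.ofFn_zero] at hregseq
  have hmod : ∀ z : Am, φ (x 0) ∣ φ (x 1) * z → φ (x 0) ∣ z := by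
    intro z hz
    have h1 := ((RingTheory.Sequence.isWeaklyRegular_cons_iff _ _ _).1
      ((RingTheory.Sequence.isWeaklyRegular_cons_iff _ _ _).1 hregseq.toIsWeaklyRegular).2).1
    have h2 := @h1 (Submodule.Quotient.mk z) 0
    have e : (Submodule.Quotient.mk z : QuotSMulTop (φ (x 0)) Am) = 0 := by
      refine h2 ?_
      show φ (x 1) • (Submodule.Quotient.mk z : QuotSMulTop (φ (x 0)) Am) = φ (x 1) • 0
      rw [smul_zero, ← Submodule.Quotient.mk_smul, Submodule.Quotient.mk_eq_zero]
      obtain ⟨c, hc⟩ := hz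
      exact Submodule.mem_smul_pointwise_iff_exists _ _ _ |>.2 ⟨c, trivial, hc.symm⟩
    rw [Submodule.Quotient.mk_eq_zero, Submodule.mem_smul_pointwise_iff_exists] at e
    obtain ⟨c, -, hc⟩ := e
    exact ⟨c, hc.symm⟩
  have hne : ∀ i, φ (x i) ≠ 0 := by
    intro i h0
    have h1 := hspan
    have key : ∀ j, (IsLocalRing.maximalIdeal Am) = Ideal.span {φ (x j)} → False := fun j hj => by
      have h2 := IsRegularLocalRing.spanFinrank_maximalIdeal (R := Am)
      rw [hdim] at h2
      have h3 : (IsLocalRing.maximalIdeal Am).spanFinrank = 2 := by exact_mod_cast h2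
      have h4 := Submodule.spanFinrank_span_le_ncard_of_finite (R := Am) (Set.finite_singleton (φ (x j)))
      rw [Set.ncard_singleton] at h4
      rw [hj] at h3
      exact absurd (h3 ▸ h4 : 2 ≤ 1) (by norm_num)
    refine key (1 - i) (hspan.symm.trans (le_antisymm (Ideal.span_le.2 ?_) (Ideal.span_le.2 ?_)))
    · rintro _ ⟨j, rfl⟩
      show φ (x j) ∈ _
      by_cases hj : j = i
      · subst hj; rw [h0]; exact zero_mem _
      · have : j = 1 - i := by fin_cases i <;> fin_cases j <;> simp_all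
        subst this; exact Ideal.subset_span rfl
    · rintro _ rfl; exact Ideal.subset_span ⟨_, rfl⟩
  -- spread out
  have spread : ∀ (M : Ideal A) (N : Ideal A), (∀ z ∈ M, φ z ∈ N.map φ) →
      ∃ t ∉ m, ∀ z ∈ M, t * z ∈ N := by
    intro M N h
    obtain ⟨S, hS⟩ := (inferInstance : IsNoetherian A A).noetherian M
    have : ∀ z ∈ S, ∃ t ∉ m, t * z ∈ N := fun z hz => by
      obtain ⟨t, ht, htz⟩ := (IsLocalization.algebraMap_mem_map_algebraMap_iff m.primeCompl Am N z).1
        (h z (hS ▸ Ideal.subset_span hz))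
      exact ⟨t, ht, htz⟩
    choose! t ht htz using this
    refine ⟨∏ z ∈ S, t z, fun hm => ?_, fun z hz => ?_⟩
    · obtain ⟨z, hz, hzm⟩ := (inferInstance : m.IsPrime).prod_mem_iff.1 hm
      exact ht z hz hzm
    · rw [← hS] at hz
      refine (Ideal.span_le (I := N.colon {∏ z ∈ S, t z}) (s := (S : Set A))).2 (fun w hw => ?_) hz |>
        fun hh => by simpa [Submodule.mem_colon_singleton, mul_comm] using hh
      simp only [SetLike.mem_coe, Submodule.mem_colon_singleton, smul_eq_mul]
      rw [mul_comm, ← Finset.mul_prod_erase S t hw, mul_right_comm]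
      exact N.mul_mem_right _ (htz w hw)
  have hmap2 : Ideal.map φ (Ideal.span {x 0, x 1}) = IsLocalRing.maximalIdeal Am := by
    rw [Ideal.map_span, ← hspan]
    congr 1
    ext z
    simp [Fin.exists_fin_two, Set.image_pair, eq_comm]
  obtain ⟨t₁, ht₁, ht₁'⟩ := spread m (Ideal.span {x 0, x 1}) fun z hz => by
    rw [hmap2, hmax]; exact Ideal.mem_map_of_mem _ hz
  obtain ⟨t₂, ht₂, ht₂'⟩ := spread ((⊥ : Ideal A).colon {x 0}) ⊥ fun z hz => by
    rw [Submodule.mem_colon_singleton, smul_eq_mul, Ideal.mem_bot] at hz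
    rw [Ideal.map_bot, Ideal.mem_bot]
    have := congrArg φ hz
    rw [map_mul, map_zero] at this
    exact (mul_eq_zero.1 this).resolve_right (hne 0)
  obtain ⟨t₃, ht₃, ht₃'⟩ := spread ((⊥ : Ideal A).colon {x 1}) ⊥ fun z hz => by
    rw [Submodule.mem_colon_singleton, smul_eq_mul, Ideal.mem_bot] at hz
    rw [Ideal.map_bot, Ideal.mem_bot]
    have := congrArg φ hz
    rw [map_mul, map_zero] at this
    exact (mul_eq_zero.1 this).resolve_right (hne 1)
  obtain ⟨t₄, ht₄, ht₄'⟩ := spread ((Ideal.span {x 0}).colon {x 1}) (Ideal.span {x 0}) fun z hz => by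
    rw [Submodule.mem_colon_singleton, smul_eq_mul, Ideal.mem_span_singleton] at hz
    rw [Ideal.map_span, Set.image_singleton, Ideal.mem_span_singleton]
    refine hmod _ ?_
    rw [← map_mul, mul_comm]; exact map_dvd φ hz
  refine ⟨t₁ * t₂ * t₃ * t₄, fun h => ?_, fun L _ _ _ => ?_⟩
  · rcases (inferInstance : m.IsPrime).mem_or_mem h with h | h
    · rcases (inferInstance : m.IsPrime).mem_or_mem h with h | h
      · rcases (inferInstance : m.IsPrime).mem_or_mem h with h | h
        · exact ht₁ h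
        · exact ht₂ h
      · exact ht₃ h
    · exact ht₄ h
  set t := t₁ * t₂ * t₃ * t₄ with ht
  set ψ := algebraMap A L with hψ
  have hu : IsUnit (ψ t) := IsLocalization.Away.algebraMap_isUnit t
  simp only [ht, map_mul, IsUnit.mul_iff] at hu
  obtain ⟨⟨⟨hu₁, hu₂⟩, hu₃⟩, hu₄⟩ := hu
  refine ⟨ψ (x 0), ψ (x 1), le_antisymm ?_ ?_, ⟨?_, ?_, ?_⟩, ?_⟩
  · rw [Ideal.map_le_iff_le_comap]
    intro z hz
    have h := Ideal.mem_map_of_mem ψ (ht₁' z hz)
    rw [Ideal.map_span, Set.image_pair, map_mul] at h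
    exact (Ideal.unit_mul_mem_iff_mem _ hu₁).1 h
  · rw [Ideal.span_le, Set.insert_subset_iff, Set.singleton_subset_iff]
    exact ⟨Ideal.mem_map_of_mem _ (hxm 0), Ideal.mem_map_of_mem _ (hxm 1)⟩
  · exact mem_nonZeroDivisors_of_spread t (x 0) t₂ hu₂ ht₂'
  · exact mem_nonZeroDivisors_of_spread t (x 1) t₃ hu₃ ht₃'
  · intro z hz
    obtain ⟨⟨w, ⟨_, n, rfl⟩⟩, hw⟩ := IsLocalization.surj (Submonoid.powers t) z
    obtain ⟨c, hc⟩ := hz
    obtain ⟨⟨e, ⟨_, k, rfl⟩⟩, he⟩ := IsLocalization.surj (Submonoid.powers t) c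
    simp only [map_pow] at hw he
    have h1 : ψ (x 1 * w * t ^ k) = ψ (x 0 * e * t ^ n) := by
      simp only [map_mul, map_pow]
      linear_combination (ψ t) ^ n * (ψ t) ^ k * hc - ψ (x 1) * (ψ t) ^ k * hw + ψ (x 0) * (ψ t) ^ n * he
    obtain ⟨⟨_, l, rfl⟩, hl⟩ := IsLocalization.exists_of_eq (M := Submonoid.powers t) h1
    have h2 := ht₄' (w * t ^ k * t ^ l) (by
      rw [Submodule.mem_colon_singleton, smul_eq_mul, Ideal.mem_span_singleton]
      exact ⟨e * t ^ n * t ^ l, by linear_combination hl⟩)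
    obtain ⟨d, hd⟩ := Ideal.mem_span_singleton.1 h2
    have hd' := congrArg ψ hd
    simp only [map_mul, map_pow] at hd'
    have hut : IsUnit (ψ t) := IsLocalization.Away.algebraMap_isUnit t
    refine ((((hu₄.mul (hut.pow n)).mul (hut.pow k)).mul (hut.pow l)).dvd_mul_left).1 ⟨ψ d, ?_⟩
    linear_combination hd' + ψ t₄ * (ψ t) ^ k * (ψ t) ^ l * hw
  · have hdisj : Disjoint (Submonoid.powers t : Set A) m := by
      rw [Set.disjoint_left]
      rintro _ ⟨n, rfl⟩ h
      have := (inferInstance : m.IsPrime).mem_of_pow_mem n h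
      simp only [ht] at this
      rcases (inferInstance : m.IsPrime).mem_or_mem this with h | h
      · rcases (inferInstance : m.IsPrime).mem_or_mem h with h | h
        · rcases (inferInstance : m.IsPrime).mem_or_mem h with h | h
          · exact ht₁ h
          · exact ht₂ h
        · exact ht₃ h
      · exact ht₄ h
    exact isMaximal_map_away t m hdisj L

end Algebra

section Geometry

open H26Blow

theorem infinite_projSpace_one (k : Type u) [Field k] : Infinite ↥(CohB1.ProjSpace 1 k) := by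
  let σ := Groth.Agent.H17.P1Fibre.σ (0 : Fin (1 + 1))
  haveI : IsOpenImmersion (Groth.Agent.H17.P1Fibre.chart k 0) := by
    unfold Groth.Agent.H17.P1Fibre.chart
    haveI := Groth.Agent.H17.P1Fibre.isIso_chartInv k 0
    haveI : IsOpenImmersion (Proj.awayι (CohB1.polyGrading 1 k) (MvPolynomial.X (0 : Fin (1 + 1)))
      (Groth.Agent.H11Proj.ProjSpace.X_mem 1 k 0) one_pos) := inferInstance
    exact @IsOpenImmersion.comp _ _ _ _ _ inferInstance this
  haveI : Infinite (PrimeSpectrum (MvPolynomial σ k)) := by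
    haveI : Unique σ := ⟨⟨⟨1, by decide⟩⟩, fun ⟨j, hj⟩ => Subtype.ext (by
      fin_cases j
      · exact absurd rfl hj
      · rfl)⟩
    haveI : Infinite (PrimeSpectrum (Polynomial k)) := by
      refine not_finite_iff_infinite.1 fun hfin => Polynomial.not_isField k ?_
      have hjac : (Ideal.jacobson (⊥ : Ideal (Polynomial k))) = ⊥ :=
        IsJacobsonRing.out' _ (Ideal.isPrime_bot).isRadical
      have hfinset : {M : Ideal (Polynomial k) | M.IsMaximal}.Finite :=
        (Set.finite_range (fun p : PrimeSpectrum (Polynomial k) => p.asIdeal)).subset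
          fun M hM => ⟨⟨M, hM.isPrime⟩, rfl⟩
      have hle : ∏ M ∈ hfinset.toFinset, M ≤ (⊥ : Ideal (Polynomial k)) := by
        rw [← hjac]
        refine le_sInf fun M hM => ?_
        exact Ideal.prod_le_inf.trans (Finset.inf_le (hfinset.mem_toFinset.2 hM.2))
      obtain ⟨M, hM, hM0⟩ := (Ideal.isPrime_bot : (⊥ : Ideal (Polynomial k)).IsPrime).prod_le.1 hle
      have hMmax : M.IsMaximal := hfinset.mem_toFinset.1 hM
      rw [le_bot_iff.1 hM0] at hMmax
      exact Ring.isField_iff_maximal_bot.2 hMmax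
    let e := (MvPolynomial.uniqueAlgEquiv k σ).toRingEquiv
    exact Infinite.of_injective (fun p => PrimeSpectrum.comap e.toRingHom p)
      (PrimeSpectrum.comap_injective_of_surjective _ e.surjective)
  exact @Infinite.of_injective ↥(CohB1.ProjSpace 1 k) (PrimeSpectrum (MvPolynomial σ k)) this _
    (Groth.Agent.H17.P1Fibre.chart k 0).isOpenEmbedding.injective

theorem irreducibleSpace_projSpace_one (k : Type u) [Field k] :
    IrreducibleSpace ↥(CohB1.ProjSpace 1 k) := by
  obtain ⟨x, hx, -⟩ := H22Alg.ProjDim.exists_bot_point k 1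
  have h : closure ({x} : Set (ProjectiveSpectrum (CohB1.polyGrading 1 k))) = Set.univ :=
    Set.eq_univ_of_forall fun y => (ProjectiveSpectrum.le_iff_mem_closure _ x y).mp
      (show x.asHomogeneousIdeal.toIdeal ≤ y.asHomogeneousIdeal.toIdeal from hx ▸ bot_le)
  have hirr : IsIrreducible (Set.univ : Set ↥(CohB1.ProjSpace 1 k)) := by
    have h' := (isIrreducible_singleton (x := x)).closure
    rwa [h] at h'
  haveI : PreirreducibleSpace ↥(CohB1.ProjSpace 1 k) := ⟨hirr.2⟩
  exact ⟨⟨x⟩⟩

variable {E X X' : Scheme.{u}} {ι : E ⟶ X} {b : X ⟶ X'} [IsClosedImmersion ι]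

/-- The fibre of a contraction is the contracted curve, and morphisms to affine schemes descend near the
contracted point. -/
theorem exists_good_nhd (hE : Models.IsExcCurve ι) [IsLocallyNoetherian X'] {y : X'} (hy : IsClosed ({y} : Set X'))
    (hrange : Set.range ((ι ≫ b).base : E → X') = {y}) (hreg : IsRegularLocalRing (X'.presheaf.stalk y))
    (hdim : ringKrullDim (X'.presheaf.stalk y) = 2)
    (hb : BlowUp.IsBlowUp b (Scheme.IdealSheafData.vanishingIdeal ⟨{y}, hy⟩)) (O : X'.Opens) (hyO : y ∈ O) :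
    ∃ V : X'.Opens, IsAffineOpen V ∧ V ≤ O ∧ y ∈ V ∧ (∀ w : X, b w = y → w ∈ Set.range ι) ∧
      ∀ (R : CommRingCat.{u}) (h : (b ⁻¹ᵁ V : Scheme.{u}) ⟶ Spec R),
        ∃! g : (V : Scheme.{u}) ⟶ Spec R, (b ∣_ V) ≫ g = h := by
  obtain ⟨U, hU, hyU, hUO⟩ := exists_isAffineOpen_mem_and_subset hyO
  haveI : IsNoetherianRing Γ(X', U) := IsLocallyNoetherian.component_noetherian ⟨U, hU⟩
  set P := hU.primeIdealOf ⟨y, hyU⟩ with hPdef
  haveI hPmax : P.asIdeal.IsMaximal := by
    rw [← PrimeSpectrum.isClosed_singleton_iff_isMaximal]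
    have hfy : hU.fromSpec P = y := hU.fromSpec_primeIdealOf ⟨y, hyU⟩
    have : ({P} : Set (PrimeSpectrum Γ(X', U))) = hU.fromSpec ⁻¹' {y} := by
      rw [← hfy]
      exact (Set.preimage_image_eq {P} hU.fromSpec.isOpenEmbedding.injective).symm.trans
        (congrArg _ Set.image_singleton)
    rw [this]
    exact hy.preimage hU.fromSpec.continuous
  letI : Algebra Γ(X', U) (X'.presheaf.stalk y) :=
    TopCat.Presheaf.algebra_section_stalk X'.presheaf (⟨y, hyU⟩ : U)
  haveI hloc : IsLocalization.AtPrime (X'.presheaf.stalk y) P.asIdeal := hU.isLocalization_stalk ⟨y, hyU⟩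
  let el := (IsLocalization.algEquiv P.asIdeal.primeCompl (Localization.AtPrime P.asIdeal)
    (X'.presheaf.stalk y)).toRingEquiv
  haveI := hreg
  have hreg' : IsRegularLocalRing (Localization.AtPrime P.asIdeal) := IsRegularLocalRing.of_ringEquiv el.symm
  obtain ⟨s, hs, hsL⟩ := exists_regPair P.asIdeal hreg' ((ringKrullDim_eq_of_ringEquiv el).trans hdim)
  let V : X'.Opens := X'.basicOpen s
  have hV : IsAffineOpen V := hU.basicOpen s
  have hVU : V ≤ U := X'.basicOpen_le s
  have hyV : y ∈ V := by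
    by_contra hne
    refine hs ?_
    rw [X'.mem_basicOpen s y hyU] at hne
    by_contra hs'
    exact hne (IsLocalization.map_units (X'.presheaf.stalk y) (⟨s, hs'⟩ : P.asIdeal.primeCompl))
  haveI : IsLocalization.Away s Γ(X', V) := hU.isLocalization_basicOpen s
  let A : CommRingCat.{u} := Γ(X', V)
  obtain ⟨a₀, b₀, hspan, hpair, hmax⟩ := hsL A
  let m := hV.primeIdealOf ⟨y, hyV⟩
  have hfm : hV.fromSpec m = y := hV.fromSpec_primeIdealOf ⟨y, hyV⟩
  have hm : P.asIdeal.map (algebraMap Γ(X', U) A) = m.asIdeal := by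
    refine hmax.eq_of_le m.2.ne_top (Ideal.map_le_iff_le_comap.2 fun z hz => ?_)
    have h1 : hU.fromSpec P = y := hU.fromSpec_primeIdealOf ⟨y, hyU⟩
    rw [Ideal.mem_comap]
    by_contra hzm
    have h2 : y ∈ X'.basicOpen (algebraMap Γ(X', U) A z) := by
      have : m ∈ hV.fromSpec ⁻¹ᵁ X'.basicOpen (algebraMap Γ(X', U) A z) := by
        rw [hV.fromSpec_preimage_basicOpen]; exact hzm
      rw [← hfm]; exact this
    have h3 : y ∈ X'.basicOpen z := by
      rw [RingHom.algebraMap_toAlgebra] at h2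
      exact (X'.basicOpen_res z (homOfLE hVU).op ▸ h2).2
    have : hU.fromSpec P ∈ X'.basicOpen z := by rw [h1]; exact h3
    change P ∈ hU.fromSpec ⁻¹ᵁ X'.basicOpen z at this
    rw [hU.fromSpec_preimage_basicOpen] at this
    exact this hz
  haveI : m.asIdeal.IsMaximal := hm ▸ hmax
  have hspan' : m.asIdeal = Ideal.span {a₀, b₀} := hm ▸ hspan
  let ga : m.asIdeal := ⟨a₀, hspan' ▸ Ideal.subset_span (Set.mem_insert _ _)⟩
  let gb : m.asIdeal := ⟨b₀, hspan' ▸ Ideal.subset_span (Set.mem_insert_of_mem _ rfl)⟩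
  -- identify the centre
  let J := Scheme.IdealSheafData.vanishingIdeal (⟨{y}, hy⟩ : TopologicalSpace.Closeds X')
  have hcentre : J.comap hV.fromSpec = centre (A := A) m.asIdeal := by
    refine Scheme.IdealSheafData.ext_of_isAffine ?_
    rw [ideal_centre_top,
      H29Blow.ideal_comap J hV.fromSpec ⟨V, hV⟩ ⟨⊤, isAffineOpen_top _⟩ (by
        intro z _; show hV.fromSpec z ∈ (V : Set X')
        rw [← hV.range_fromSpec]; exact Set.mem_range_self z)]
    have hid : J.ideal ⟨V, hV⟩ = m.asIdeal := by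
      rw [Scheme.IdealSheafData.vanishingIdeal_ideal]
      have : hV.fromSpec ⁻¹' ({y} : Set X') = {m} := by
        rw [← hfm]
        exact (congrArg _ Set.image_singleton.symm).trans (Set.preimage_image_eq {m} hV.fromSpec.isOpenEmbedding.injective)
      exact (congrArg PrimeSpectrum.vanishingIdeal this).trans (PrimeSpectrum.vanishingIdeal_singleton m)
    rw [hid]
    congr 1
    congr 1
    simp [Scheme.Hom.appLE, IsAffineOpen.fromSpec_app_self, ← Functor.map_comp]
    rfl
  have hblow := Groth.Agent.S1680.result hV.fromSpec J b hb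
  rw [hcentre] at hblow
  obtain ⟨e, he⟩ := exists_iso_of_isBlowUp (isBlowUp_π (A := A) m.asIdeal) hblow
  let k := e.hom ≫ pullback.snd hV.fromSpec b
  have hk : k ≫ b = π (A := A) m.asIdeal ≫ hV.fromSpec := by
    simp only [k, Category.assoc, ← pullback.condition, reassoc_of% he]
  have hkrange : Set.range k = b ⁻¹' (V : Set X') := by
    have h1 : Set.range e.hom = Set.univ := Set.range_eq_univ.2 e.hom.homeomorph.surjective
    simp only [k, Scheme.Hom.comp_base, TopCat.coe_comp]
    rw [Set.range_comp, h1, Set.image_univ, Scheme.Pullback.range_snd, hV.range_fromSpec]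
  refine ⟨V, hV, hVU.trans hUO, hyV, fun w hw => ?_, fun R h => ?_⟩
  · -- the fibre over `y` is the curve
    obtain ⟨-, K, hK, eP, -⟩ := hE
    haveI : Infinite ↥E := by
      haveI := infinite_projSpace_one K
      exact Infinite.of_injective _ eP.hom.homeomorph.injective
    haveI : IrreducibleSpace ↥E := by
      haveI := irreducibleSpace_projSpace_one K
      exact eP.hom.homeomorph.surjective.irreducibleSpace eP.hom.continuous
    have hιy : ∀ z, b (ι z) = y := fun z => by
      have : (ι ≫ b).base z ∈ ({y} : Set X') := hrange ▸ Set.mem_range_self z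
      exact this
    let C : Set (Proj (gr (A := A) m.asIdeal)) := k ⁻¹' Set.range ι
    have hsub : Set.range ι ⊆ Set.range k := by
      rintro _ ⟨z, rfl⟩; rw [hkrange]; show b (ι z) ∈ V; rw [hιy]; exact hyV
    have hkemb : Topology.IsEmbedding k := k.isOpenEmbedding.isEmbedding
    have hC : IsClosed C := ι.isClosedEmbedding.isClosed_range.preimage k.continuous
    have himg : k '' C = Set.range ι := Set.image_preimage_eq_of_subset hsub
    have hrangeirr : IsIrreducible (Set.range ι) := by
      rw [← Set.image_univ]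
      exact (IrreducibleSpace.isIrreducible_univ _).image _ ι.continuous.continuousOn
    have hCi : IsIrreducible C := hrangeirr.preimage k.isOpenEmbedding (by
      obtain ⟨_, z, rfl⟩ := hrangeirr.nonempty
      exact ⟨ι z, ⟨⟨z, rfl⟩, hsub ⟨z, rfl⟩⟩⟩)
    have hCinf : C.Infinite := fun hfin => by
      have := hfin.image k
      rw [himg] at this
      exact Set.infinite_range_of_injective ι.isClosedEmbedding.injective this
    have hπ : ∀ c, b (k c) = y → π (A := A) m.asIdeal c = m := fun c hc => by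
      apply hV.fromSpec.isOpenEmbedding.injective
      rw [hfm, ← Scheme.Hom.comp_apply, ← hk, Scheme.Hom.comp_apply, hc]
    obtain ⟨c, rfl⟩ : w ∈ Set.range k := by rw [hkrange]; show b w ∈ V; rw [hw]; exact hyV
    exact subset_of_infinite (A := A) m.asIdeal ga gb hspan' m le_rfl hC hCi hCinf
      (fun c hc => hπ c (by obtain ⟨z, hz⟩ := hc; rw [← hz]; exact hιy z)) c (hπ c hw)
  · -- descent of morphisms
    haveI : IsOpenImmersion k := inferInstance
    let ek : Proj (gr (A := A) m.asIdeal) ≅ (b ⁻¹ᵁ V : Scheme.{u}) :=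
      IsOpenImmersion.isoOfRangeEq k (b ⁻¹ᵁ V).ι (by rw [Scheme.Opens.range_ι]; exact hkrange)
    have hek : ek.hom ≫ (b ∣_ V) = π (A := A) m.asIdeal ≫ hV.isoSpec.inv := by
      rw [← cancel_mono V.ι, Category.assoc, morphismRestrict_ι, IsOpenImmersion.isoOfRangeEq_hom_fac_assoc,
        Category.assoc]
      exact hk.trans (congrArg _ hV.isoSpec_inv_ι.symm)
    obtain ⟨φ, hφ, huniq⟩ := existsUnique_factor (A := A) m.asIdeal ga gb hspan' hpair R (ek.hom ≫ h)
    refine ⟨hV.isoSpec.hom ≫ Spec.map φ, ?_, fun g hg => ?_⟩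
    · show (b ∣_ V) ≫ _ = h
      rw [← cancel_epi ek.hom, reassoc_of% hek, Iso.inv_hom_id_assoc, hφ]
    · obtain ⟨ψ, hψ⟩ := Spec.map_surjective (hV.isoSpec.inv ≫ g)
      have : ψ = φ := huniq ψ (by beta_reduce; rw [hψ, ← reassoc_of% hek, hg])
      rw [← this, hψ, Iso.hom_inv_id_assoc]

end Geometry

end Groth.Agent.H28Contr
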