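import Groth.Agent.H28Contr.FactorSeq
import Groth.Agent.H28Contr.Universal

/-!
# A birational morphism with irreducible exceptional fibre is a blow-up
-/

set_option autoImplicit false
set_option linter.style.haveILetI false
set_option backward.isDefEq.respectTransparency.types false

universe u

open CategoryTheory CategoryTheory.Limits AlgebraicGeometry TopologicalSpace

namespace Groth.Agent.H28Contr

variable {X Y : Scheme.{u}}

/-- Three strict specialisations do not fit in a surface. -/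
theorem eq_of_chain [IsLocallyNoetherian X] {ξ η z x : X} (hdx : ringKrullDim (X.presheaf.stalk x) ≤ 2)
    (h₁ : ξ ⤳ η) (h₂ : η ⤳ z) (h₃ : z ⤳ x) (hne₁ : ξ ≠ η) (hne₃ : z ≠ x) : η = z := by
  by_contra hne₂
  have a := ringKrullDim_stalk_lt h₁ hne₁
  have b := ringKrullDim_stalk_lt h₂ hne₂
  have c := ringKrullDim_stalk_lt h₃ hne₃
  have d : (0 : WithBot ℕ∞) ≤ ringKrullDim (X.presheaf.stalk ξ) := ringKrullDim_nonneg_of_nontrivial
  have hlt : ∀ {m : WithBot ℕ∞} {k : ℕ}, (k : WithBot ℕ∞) < m → ((k + 1 : ℕ) : WithBot ℕ∞) ≤ m := by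
    intro m k hk
    induction m using WithBot.recBotCoe with
    | bot => exact absurd hk (by simp)
    | coe m =>
      rw [← WithBot.coe_natCast, WithBot.coe_lt_coe] at hk
      rw [← WithBot.coe_natCast, WithBot.coe_le_coe, Nat.cast_add, Nat.cast_one]
      exact Order.add_one_le_of_lt hk
  have h1 := hlt (k := 0) (lt_of_le_of_lt (by simpa using d) a)
  have h2 := hlt (k := 1) (lt_of_le_of_lt h1 b)
  have h3 := hlt (k := 2) (lt_of_le_of_lt h2 c)
  exact absurd (h3.trans hdx) (by decide)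

/-- A birational local injection of a discrete valuation ring is bijective. -/
theorem bijective_of_valuationRing {R S : Type u} [CommRing R] [IsDomain R] [ValuationRing R] [CommRing S]
    [IsDomain S] (φ : R →+* S) (hinj : Function.Injective φ) [IsLocalHom φ]
    (hbir : ∀ z : S, ∃ a s : R, s ≠ 0 ∧ φ s * z = φ a) : Function.Bijective φ := by
  refine ⟨hinj, fun z => ?_⟩
  obtain ⟨a, s, hs, he⟩ := hbir z
  have hs' : φ s ≠ 0 := fun h => hs (hinj (by rw [h, map_zero]))
  obtain ⟨c, hc | hc⟩ := ValuationRing.cond a s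
  · have hz : φ c * z = 1 := mul_left_cancel₀ (show φ a ≠ 0 from fun h => hs' (by rw [← hc, map_mul, h, zero_mul]))
      (by rw [mul_one, ← mul_assoc, ← map_mul, hc]; exact he)
    obtain ⟨w, hw⟩ := (IsUnit.of_map φ c (IsUnit.of_mul_eq_one z hz)).exists_right_inv
    exact ⟨w, by rw [← one_mul (φ w), ← hz, mul_right_comm, ← map_mul, hw, map_one, one_mul]⟩
  · exact ⟨c, mul_left_cancel₀ hs' (by rw [← map_mul, hc, he])⟩

/-- A birational morphism which is an isomorphism off `y` with irreducible fibre there is the blow-up. -/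
theorem isBlowUp_of_irreducible_fibre [IsIntegral X] [IsNoetherian X] [IsIntegral Y] [IsNoetherian Y] (f : X ⟶ Y)
    [IsProper f] (hX : ∀ x : X, IsRegularLocalRing (X.presheaf.stalk x))
    (hdX : ∀ x : X, ringKrullDim (X.presheaf.stalk x) ≤ 2) {y : Y} (hy : IsClosed ({y} : Set Y))
    (hYy : IsRegularLocalRing (Y.presheaf.stalk y)) (hdy : ringKrullDim (Y.presheaf.stalk y) ≤ 2)
    [hfW : IsIso (f ∣_ (⟨{y}ᶜ, hy.isOpen_compl⟩ : Y.Opens))] (hηy : genericPoint Y ≠ y)
    (hirr : IsPreirreducible (f ⁻¹' {y})) (hbig : ∃ x x' : X, x ≠ x' ∧ f x = y ∧ f x' = y) :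
    BlowUp.IsBlowUp f (Scheme.IdealSheafData.vanishingIdeal ⟨{y}, hy⟩) := by
  set W : Y.Opens := ⟨{y}ᶜ, hy.isOpen_compl⟩
  have hW : (W : Set Y).Nonempty := ⟨genericPoint Y, hηy⟩
  obtain ⟨x₁, x₂, hne, hx₁, hx₂⟩ := hbig
  have hnot : ∀ V : Y.Opens, y ∈ V → ¬ IsIso (f ∣_ V) := by
    intro V hyV hV
    haveI := hV
    have hinj : Function.Injective (f ∣_ V) := (f ∣_ V).homeomorph.injective
    have := @hinj ⟨x₁, show f x₁ ∈ V by rw [hx₁]; exact hyV⟩ ⟨x₂, show f x₂ ∈ V by rw [hx₂]; exact hyV⟩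
      (Subtype.ext (((morphismRestrict_base_coe f V _).trans (hx₁.trans hx₂.symm)).trans
        (morphismRestrict_base_coe f V ⟨x₂, show f x₂ ∈ V by rw [hx₂]; exact hyV⟩).symm))
    exact hne (congrArg Subtype.val this)
  have hfield : ¬ IsField (Y.presheaf.stalk y) := by
    intro hf
    obtain ⟨P, hP⟩ : genericPoint Y ∈ Set.range (Y.fromSpecStalk y) := by
      rw [Scheme.range_fromSpecStalk]; exact genericPoint_specializes y
    letI := hf.toField
    have hPc : P = IsLocalRing.closedPoint (Y.presheaf.stalk y) := PrimeSpectrum.ext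
      (((Ideal.eq_bot_or_top P.asIdeal).resolve_right P.2.ne_top).trans
        ((Ideal.eq_bot_or_top _).resolve_right (IsLocalRing.closedPoint (Y.presheaf.stalk y)).2.ne_top).symm)
    rw [hPc, Scheme.fromSpecStalk_closedPoint] at hP
    exact hηy hP.symm
  obtain ⟨hξ, hiso⟩ := generic_of_birational f W hW
  have hcurve : FibreCurve f y :=
    (exists_iso_nhd_or_fibreCurve f W hW hy hYy).resolve_left fun ⟨V, hyV, hV⟩ => hnot V hyV hV
  have hSc : IsClosed (f ⁻¹' {y}) := hy.preimage f.continuous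
  haveI : IsDominant f := H10ZMT.isDominant_of_apply_genericPoint f hξ
  have hirr' : IsIrreducible (f ⁻¹' {y}) := ⟨⟨x₁, hx₁⟩, hirr⟩
  obtain ⟨η, hη⟩ := QuasiSober.sober hirr' hSc
  have hηfib : f η = y := hη.mem
  have hη_eq : ∀ z x : X, f z = y → z ⤳ x → z ≠ x → η = z := fun z x hz hzx hne' =>
    eq_of_chain (hdX x) (genericPoint_specializes η) (hη.specializes hz) hzx
      (fun e => hηy (by rw [← hξ, e, hηfib])) hne'
  have hd2 : ringKrullDim (Y.presheaf.stalk y) = 2 := by
    refine eq_two_of_le hdy fun h1 => ?_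
    obtain ⟨x, hx, hxc⟩ := hSc.exists_closed_singleton ⟨x₁, hx₁⟩
    obtain ⟨z, hz, hzx, hne'⟩ := hcurve x hx hxc
    have hxy : f x = y := hx
    subst hxy
    haveI := hYy
    haveI := H4Depth.isDomain_of_isRegularLocalRing (Y.presheaf.stalk (f x))
    haveI := hX x
    haveI := H4Depth.isDomain_of_isRegularLocalRing (X.presheaf.stalk x)
    haveI : Ring.KrullDimLE 1 (Y.presheaf.stalk (f x)) := Ring.krullDimLE_iff.2 h1
    haveI := isPrincipalIdealRing_of_dim_le_one (Y.presheaf.stalk (f x))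
    obtain ⟨hinj, hbir⟩ := stalkMap_birational f hξ x
    have hbij := bijective_of_valuationRing (f.stalkMap x).hom hinj hbir
    have hdx : ringKrullDim (X.presheaf.stalk x) ≤ 1 :=
      (ringKrullDim_eq_of_ringEquiv (RingEquiv.ofBijective _ hbij)).symm.trans_le h1
    have a := ringKrullDim_stalk_lt (genericPoint_specializes z) fun e => hηy (by rw [← hξ, e, hz])
    have c := ringKrullDim_stalk_lt hzx hne'
    have d : (0 : WithBot ℕ∞) ≤ ringKrullDim (X.presheaf.stalk (genericPoint X)) := ringKrullDim_nonneg_of_nontrivial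
    have e1 : (0 : WithBot ℕ∞) < ringKrullDim (X.presheaf.stalk z) := lt_of_le_of_lt d a
    have e2 := c.trans_le hdx
    generalize ringKrullDim (X.presheaf.stalk z) = r at e1 e2
    induction r using WithBot.recBotCoe with
    | bot => exact absurd e1 (by simp)
    | coe r =>
      have e1' : (0 : ℕ∞) < r := by exact_mod_cast e1
      have e2' : r < 1 := by exact_mod_cast e2
      exact absurd (ENat.lt_one_iff_eq_zero.1 e2') e1'.ne'
  set J := Scheme.IdealSheafData.vanishingIdeal (⟨{y}, hy⟩ : Closeds Y) with hJ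
  obtain ⟨Z, b, hb⟩ := H26Blow.exists_isBlowUp J
  obtain ⟨hexc, hcontr⟩ := isExcCurve_and_isContractionOf hy hYy hd2 hb
  haveI : IsProper b := hcontr.2.1
  haveI : IsNoetherian Z := isNoetherian_blowUp (b := b)
  obtain ⟨-, -, y', hy', hrange, -⟩ := hcontr
  obtain ⟨u, hu, -⟩ := hb.2 X f (isEffCartier_comap_point f W hW hX hdX hy hYy hdy hfield hcurve)
  subst hu
  haveI hbW : IsIso (b ∣_ W) := H29Blow.isIso_morphismRestrict hb W fun x hx hsupp => by
    rw [← SetLike.mem_coe, Scheme.IdealSheafData.coe_support_vanishingIdeal] at hsupp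
    exact hx hsupp
  haveI : IsIntegral Z := (Groth.Agent.S2348.result J (fun h0 => by
    have hsupp : (J.support : Set Y) = Set.univ := by rw [h0]; simp
    rw [hJ, Scheme.IdealSheafData.coe_support_vanishingIdeal] at hsupp
    exact hηy (Set.mem_singleton_iff.1 (show genericPoint Y ∈ ({y} : Set Y) by
      rw [show ({y} : Set Y) = Set.univ from hsupp]; trivial))) b hb).1
  haveI : IsProper u := IsProper.of_comp u b
  haveI : IsIso (u ∣_ b ⁻¹ᵁ W) := by
    have h : IsIso (u ∣_ b ⁻¹ᵁ W ≫ b ∣_ W) := by rw [← morphismRestrict_comp]; exact hfW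
    exact @IsIso.of_isIso_comp_right _ _ _ _ _ _ (b ∣_ W) inferInstance h
  have hneZ : ((b ⁻¹ᵁ W : Z.Opens) : Set Z).Nonempty :=
    ⟨_, ((b ∣_ W).homeomorph.symm ⟨hW.choose, hW.choose_spec⟩).2⟩
  obtain ⟨hξu, -⟩ := generic_of_birational u (b ⁻¹ᵁ W) hneZ
  haveI : IsDominant u := H10ZMT.isDominant_of_apply_genericPoint u hξu
  have hsurj : ∀ w : Z, ∃ x, u x = w := fun w => by
    have h1 : Set.range u = Set.univ := by
      rw [← u.isClosedMap.isClosed_range.closure_eq]
      exact u.denseRange.closure_range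
    exact h1.ge (Set.mem_univ w)
  have hfibres : ∀ w : Z, ∃ V : Z.Opens, w ∈ V ∧ IsIso (u ∣_ V) := by
    intro w
    by_cases hwy : b w = y
    swap
    · exact ⟨b ⁻¹ᵁ W, hwy, inferInstance⟩
    obtain ⟨c, hcw, hc⟩ : ∃ c : Z, w ⤳ c ∧ IsClosed ({c} : Set Z) := by
      obtain ⟨c, hc1, hc2⟩ := (isClosed_closure (s := ({w} : Set Z))).exists_closed_singleton ⟨w, subset_closure rfl⟩
      exact ⟨c, specializes_iff_mem_closure.2 hc1, hc2⟩
    have hcy : b c = y := ((hwy ▸ hcw.map b.continuous : y ⤳ b c).mem_closed hy rfl)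
    obtain ⟨V, hcV, hV⟩ : ∃ V : Z.Opens, c ∈ V ∧ IsIso (u ∣_ V) := by
      subst hcy
      obtain ⟨hcreg, -, -⟩ := stepHom_stalkMap hy hYy hd2 hb
      refine (exists_iso_nhd_or_fibreCurve u (b ⁻¹ᵁ W) hneZ hc hcreg).resolve_right fun hC => ?_
      obtain ⟨x, hx, hxc⟩ := (hc.preimage u.continuous).exists_closed_singleton (hsurj c)
      obtain ⟨z, hz, hzx, hne'⟩ := hC x hx hxc
      have hze : η = z := hη_eq z x (by rw [Scheme.Hom.comp_apply, hz]) hzx hne'
      subst hze
      have hall : ∀ v : Z, b v = b c → v = c := fun v hv => by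
        obtain ⟨p, rfl⟩ := hsurj v
        exact (hz ▸ (hη.specializes (show (u ≫ b) p = b c from hv)).map u.continuous : c ⤳ u p).mem_closed hc rfl
      obtain ⟨k, hk, e, -⟩ := hexc.2
      haveI := infinite_projSpace_one k
      obtain ⟨p, q, hpq⟩ := exists_pair_ne ↥(CohB1.ProjSpace 1 k)
      have hsub : ∀ p, (J.comap b).subschemeι (e.hom p) = c := fun p => hall _ (by
        have h2 : (J.comap b).subschemeι (e.hom p) ∈ ((J.comap b).support : Set Z) := by
          rw [← Scheme.IdealSheafData.range_subschemeι]; exact ⟨_, rfl⟩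
        rw [Scheme.IdealSheafData.support_comap] at h2
        have h3 : b ((J.comap b).subschemeι (e.hom p)) ∈ (J.support : Set Y) := h2
        have h4 : (J.support : Set Y) = {b c} := Scheme.IdealSheafData.coe_support_vanishingIdeal _
        exact Set.mem_singleton_iff.1 (h4.subset h3))
      exact hpq (e.hom.homeomorph.injective ((J.comap b).subschemeι.isEmbedding.injective ((hsub p).trans (hsub q).symm)))
    exact ⟨V, hcw.mem_open V.2 hcV, hV⟩
  haveI : IsIso u := by
    choose V hV1 hV2 using hfibres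
    exact (IsZariskiLocalAtTarget.iff_of_iSup_eq_top (P := MorphismProperty.isomorphisms Scheme) V
      (eq_top_iff.2 fun w _ => Opens.mem_iSup.2 ⟨w, hV1 w⟩)).2 hV2
  refine ⟨?_, fun T t ht => ?_⟩
  · rw [Scheme.IdealSheafData.comap_comp]
    exact isEffCartier_comap_iso u _ hb.1
  · obtain ⟨h, hh, huniq⟩ := hb.2 T t ht
    refine ⟨h ≫ inv u, by simpa using hh, fun h' hh' => ?_⟩
    rw [← huniq (h' ≫ u) (by simpa using hh'), Category.assoc, IsIso.hom_inv_id, Category.comp_id]

end Groth.Agent.H28Contr
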