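import Groth.Agent.H28Contr.Colength

/-!
# Blowing up a point improves the colength: passing to the local rings
-/

set_option autoImplicit false
set_option linter.style.haveILetI false

universe u

open Polynomial

namespace Groth.Agent.H28Contr

/-- `K` is a regular element times an ideal of colength at most `n`. -/
def ColBound (R : Type u) [CommRing R] (K : Ideal R) (n : ℕ) : Prop :=
  ∃ c ∈ nonZeroDivisors R, ∃ J : Ideal R, K = Ideal.span {c} * J ∧ Module.length R (R ⧸ J) ≤ n

/-- `K` is generated by one regular element. -/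
def IsPrin (R : Type u) [CommRing R] (K : Ideal R) : Prop :=
  ∃ c ∈ nonZeroDivisors R, K = Ideal.span {c}

theorem ColBound.mono {R : Type u} [CommRing R] {K : Ideal R} {n k : ℕ} (h : ColBound R K n) (hnk : n ≤ k) :
    ColBound R K k := by
  obtain ⟨c, hc, J, hK, hJ⟩ := h
  exact ⟨c, hc, J, hK, hJ.trans (by exact_mod_cast hnk)⟩

theorem IsPrin.colBound {R : Type u} [CommRing R] {K : Ideal R} (h : IsPrin R K) (n : ℕ) : ColBound R K n := by
  obtain ⟨c, hc, rfl⟩ := h
  refine ⟨c, hc, ⊤, by rw [Ideal.mul_top], ?_⟩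
  haveI : Subsingleton (R ⧸ (⊤ : Ideal R)) := Ideal.Quotient.subsingleton_iff.2 rfl
  simp [Module.length_eq_zero]

theorem ColBound.isPrin {R : Type u} [CommRing R] {K : Ideal R} (h : ColBound R K 0) : IsPrin R K := by
  obtain ⟨c, hc, J, rfl, hJ⟩ := h
  refine ⟨c, hc, ?_⟩
  have hs : Subsingleton (R ⧸ J) := Module.length_eq_zero_iff.1 (nonpos_iff_eq_zero.1 (by exact_mod_cast hJ))
  rw [Ideal.Quotient.subsingleton_iff.1 hs, Ideal.mul_top]

/-- Both notions are invariant under isomorphisms. -/
theorem ColBound.map {R S : Type u} [CommRing R] [CommRing S] {K : Ideal R} {n : ℕ} (h : ColBound R K n)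
    (e : R ≃+* S) : ColBound S (K.map e.toRingHom) n := by
  obtain ⟨c, hc, J, rfl, hJ⟩ := h
  refine ⟨e c, by rw [← MulEquivClass.map_nonZeroDivisors e]; exact Submonoid.mem_map_of_mem _ hc, J.map e.toRingHom,
    by rw [Ideal.map_mul, Ideal.map_span, Set.image_singleton]; rfl, ?_⟩
  letI : Algebra R S := e.toRingHom.toAlgebra
  haveI hsurj : Function.Surjective (algebraMap R S) := e.surjective
  rw [← Module.length_eq_of_surjective (S := R) (R := S) (M := S ⧸ J.map e.toRingHom) hsurj]
  let f : R →ₗ[R] S ⧸ J.map e.toRingHom :=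
    ((Submodule.mkQ (J.map e.toRingHom)).restrictScalars R).comp (Algebra.linearMap R S)
  have hker : J ≤ LinearMap.ker f := fun x hx =>
    (Submodule.Quotient.mk_eq_zero _).2 (Ideal.mem_map_of_mem e.toRingHom hx)
  refine le_trans (Module.length_le_of_surjective (Submodule.liftQ J f hker) ?_) hJ
  rw [← LinearMap.range_eq_top, Submodule.range_liftQ, LinearMap.range_eq_top]
  exact (Submodule.mkQ_surjective _).comp hsurj

variable {A C O : Type u} [CommRing A] [CommRing C] [Algebra A C] [CommRing O] [Algebra A O]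
  (m : Ideal A) [hmax : m.IsMaximal] (g h : A) (t : C)

/-- The ideal of colength `n + 1` becomes of colength `n` at every point of the chart over the centre, and
principal away from finitely many. -/
theorem exists_finite_colBound [IsNoetherianRing A] [IsLocalRing O] [IsDomain O] [IsNoetherianRing O]
    [IsLocalization.AtPrime O m] (hfield : ¬ IsField O)
    (hm : m = Ideal.span {g, h}) (ht : t * algebraMap A C g = algebraMap A C h)
    (hg : algebraMap A C g ∈ nonZeroDivisors C) (hsur : Function.Surjective (aeval (R := A) t))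
    (hAC : Function.Injective (algebraMap A C))
    (K : Ideal O) (n : ℕ) (hK : ColBound O K (n + 1)) :
    ∃ S : Set (PrimeSpectrum C), S.Finite ∧ (∀ P ∈ S, P.asIdeal.IsMaximal) ∧
      ∀ (P : PrimeSpectrum C) (O' : Type u) [CommRing O'] [IsDomain O'] [Algebra C O'] [Algebra A O']
        [IsScalarTower A C O'] [IsLocalization.AtPrime O' P.asIdeal] (φ : O →+* O')
        (_ : φ.comp (algebraMap A O) = algebraMap A O'),
        ColBound O' (K.map φ) n ∧ (P ∉ S → IsPrin O' (K.map φ)) := by
  obtain ⟨c, hc, J, hKJ, hJ⟩ := hK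
  -- `φ c` is regular
  have hcne : ∀ (P : PrimeSpectrum C) (O' : Type u) [CommRing O'] [IsDomain O'] [Algebra C O'] [Algebra A O']
      [IsScalarTower A C O'] [IsLocalization.AtPrime O' P.asIdeal] (φ : O →+* O'),
      φ.comp (algebraMap A O) = algebraMap A O' → φ c ≠ 0 := by
    intro P O' _ _ _ _ _ _ φ hφ h0
    obtain ⟨⟨a, s⟩, has⟩ := IsLocalization.surj m.primeCompl c
    have hs0 : algebraMap A O' (s : A) ≠ 0 := by
      rw [← hφ]
      exact ((IsLocalization.map_units O s).map φ).ne_zero
    have ha0 : algebraMap A O' a = 0 := by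
      rw [← hφ, RingHom.comp_apply, ← has, map_mul, h0, zero_mul]
    have hane : algebraMap A O a ≠ 0 := by
      rw [← has]
      exact mul_ne_zero (nonZeroDivisors.ne_zero hc) (IsLocalization.map_units O s).ne_zero
    rw [IsScalarTower.algebraMap_apply A C O', IsLocalization.map_eq_zero_iff P.asIdeal.primeCompl] at ha0
    obtain ⟨⟨v, hv⟩, hva⟩ := ha0
    obtain ⟨p, rfl⟩ := hsur v
    -- `g ^ k v` comes from `A`
    have hk : ∀ p : A[X], ∃ (k : ℕ) (w : A), algebraMap A C g ^ k * aeval t p = algebraMap A C w := by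
      intro p
      induction p using Polynomial.induction_on' with
      | monomial i r =>
        refine ⟨i, r * h ^ i, ?_⟩
        rw [Polynomial.aeval_monomial, map_mul, map_pow, ← ht, mul_pow]
        ring
      | add p q hp hq =>
        obtain ⟨k, w, hkw⟩ := hp
        obtain ⟨l, v, hlv⟩ := hq
        refine ⟨k + l, w * g ^ l + v * g ^ k, ?_⟩
        rw [map_add, map_add, map_mul, map_mul, map_pow, map_pow, ← hkw, ← hlv]
        ring
    obtain ⟨k, w, hw⟩ := hk p
    have hwa : w * a = 0 := hAC (by rw [map_mul, ← hw, mul_assoc, hva, mul_zero, map_zero])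
    have hwa' := congrArg (algebraMap A O) hwa
    rw [map_mul, map_zero] at hwa'
    have hw0 : algebraMap A O w = 0 := (mul_eq_zero.1 hwa').resolve_right hane
    have h2 : algebraMap C O' (algebraMap A C g ^ k * aeval t p) = 0 := by
      rw [hw, ← IsScalarTower.algebraMap_apply, ← hφ, RingHom.comp_apply, hw0, map_zero]
    rw [map_mul] at h2
    have hgk : algebraMap C O' (algebraMap A C g ^ k) ≠ 0 :=
      nonZeroDivisors.ne_zero (IsLocalization.map_nonZeroDivisors_le P.asIdeal.primeCompl O'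
        (Submonoid.mem_map_of_mem _ (pow_mem hg k)))
    exact mul_ne_zero hgk (IsLocalization.map_units O' (⟨_, hv⟩ : P.asIdeal.primeCompl)).ne_zero h2
  have hg' : ∀ (P : PrimeSpectrum C) (O' : Type u) [CommRing O'] [IsDomain O'] [Algebra C O']
      [IsLocalization.AtPrime O' P.asIdeal] (k : ℕ), algebraMap C O' (algebraMap A C g ^ k) ∈ nonZeroDivisors O' :=
    fun P O' _ _ _ _ k => IsLocalization.map_nonZeroDivisors_le P.asIdeal.primeCompl O'
      (Submonoid.mem_map_of_mem _ (pow_mem hg k))
  -- the trivial case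
  rcases eq_or_ne J ⊤ with rfl | hJtop
  · refine ⟨∅, Set.finite_empty, by simp, fun P O' _ _ _ _ _ _ φ hφ => ?_⟩
    have : IsPrin O' (K.map φ) := ⟨φ c, mem_nonZeroDivisors_of_ne_zero (hcne P O' φ hφ), by
      rw [hKJ, Ideal.mul_top, Ideal.map_span, Set.image_singleton]⟩
    exact ⟨this.colBound n, fun _ => this⟩
  -- a power of the maximal ideal is in `J`
  have hJfin : IsFiniteLength O (O ⧸ J) := Module.length_ne_top_iff.1 (ne_top_of_le_ne_top (ENat.coe_ne_top _) hJ)
  obtain ⟨hJno, hJar⟩ := isFiniteLength_iff_isNoetherian_isArtinian.1 hJfin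
  haveI : IsArtinianRing (O ⧸ J) := isArtinian_of_tower O hJar
  haveI : Nontrivial (O ⧸ J) := Ideal.Quotient.nontrivial_iff.2 hJtop
  haveI : IsLocalRing (O ⧸ J) := IsLocalRing.of_surjective' (Ideal.Quotient.mk J) Ideal.Quotient.mk_surjective
  obtain ⟨N, hN⟩ : ∃ N, IsLocalRing.maximalIdeal O ^ N ≤ J := by
    obtain ⟨N, hN⟩ := (isArtinianRing_iff_isNilpotent_maximalIdeal (O ⧸ J)).1 inferInstance
    refine ⟨N, fun z hz => Ideal.Quotient.eq_zero_iff_mem.1 ?_⟩
    have hle : (IsLocalRing.maximalIdeal O).map (Ideal.Quotient.mk J) ≤ IsLocalRing.maximalIdeal (O ⧸ J) :=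
      haveI := IsLocalHom.of_surjective (Ideal.Quotient.mk J) Ideal.Quotient.mk_surjective
      Ideal.map_le_iff_le_comap.2 (IsLocalRing.maximalIdeal_comap _).ge
    have := Ideal.pow_right_mono hle N (Ideal.map_pow (Ideal.Quotient.mk J) _ N ▸ Ideal.mem_map_of_mem _ hz)
    rw [hN] at this
    exact this
  let JA := J.comap (algebraMap A O)
  have hmO : m.map (algebraMap A O) = IsLocalRing.maximalIdeal O := IsLocalization.AtPrime.map_eq_maximalIdeal m O
  have hNA : m ^ N ≤ JA := fun z hz => hN (by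
    rw [← hmO, ← Ideal.map_pow]; exact Ideal.mem_map_of_mem _ hz)
  have hJAm : JA ≤ m := fun z hz => by
    rw [← IsLocalization.AtPrime.comap_maximalIdeal O m, Ideal.mem_comap]
    exact IsLocalRing.le_maximalIdeal hJtop hz
  have hne : ¬ ∀ k, JA ≤ m ^ k := fun hall => by
    have h1 : IsLocalRing.maximalIdeal O ^ N ≤ IsLocalRing.maximalIdeal O • IsLocalRing.maximalIdeal O ^ N := by
      rw [smul_eq_mul, ← pow_succ', ← hmO, ← Ideal.map_pow, ← Ideal.map_pow]
      exact Ideal.map_mono (hNA.trans (hall (N + 1)))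
    have h2 := Submodule.eq_bot_of_le_smul_of_le_jacobson_bot _ _ (IsNoetherian.noetherian _) h1
      (by rw [IsLocalRing.jacobson_eq_maximalIdeal ⊥ bot_ne_top])
    exact hfield ((IsLocalRing.isField_iff_maximalIdeal_eq).2 (eq_zero_of_pow_eq_zero h2))
  obtain ⟨d, J', hJA, hGJ', hlt⟩ := exists_transform hm ht hg hsur JA N hNA hJAm (fun z hz => hNA (hz N)) hne
  -- compare colengths
  have hsurO : Function.Surjective ((Ideal.Quotient.mk J).comp (algebraMap A O)) := fun z => by
    obtain ⟨z, rfl⟩ := Ideal.Quotient.mk_surjective z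
    obtain ⟨a, s, rfl⟩ := IsLocalization.exists_mk'_eq m.primeCompl z
    obtain ⟨u, hu⟩ : ∃ u : A, u * s - 1 ∈ m ^ N := by
      obtain ⟨u, i, hi, hui⟩ := hmax.exists_inv s.2
      obtain ⟨q, hq⟩ : (1 - i) ∣ (1 - i ^ N) := by
        simpa using sub_dvd_pow_sub_pow (1 : A) i N
      refine ⟨q * u, ?_⟩
      rw [show q * u * s - 1 = -(i ^ N) by
        linear_combination q * hui - hq]
      exact neg_mem (Ideal.pow_mem_pow hi N)
    refine ⟨a * u, ?_⟩
    rw [RingHom.comp_apply, Ideal.Quotient.eq]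
    refine (Ideal.unit_mul_mem_iff_mem _ (IsLocalization.map_units O s)).1 ?_
    rw [mul_sub, IsLocalization.mk'_spec' O a s, ← map_mul, ← map_sub,
      show (s : A) * (a * u) - a = a * (u * s - 1) by ring, map_mul]
    exact Ideal.mul_mem_left _ _ (hNA hu)
  have hlenA : Module.length A (A ⧸ JA) ≤ Module.length O (O ⧸ J) := by
    let f : A →ₗ[A] O ⧸ J := ((Submodule.mkQ J).restrictScalars A).comp (Algebra.linearMap A O)
    have hk : ∀ x, f x = 0 ↔ x ∈ JA := fun x => Submodule.Quotient.mk_eq_zero _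
    have hAO : Function.Surjective (algebraMap A (O ⧸ J)) := by
      intro z
      obtain ⟨a, ha⟩ := hsurO z
      exact ⟨a, by rw [IsScalarTower.algebraMap_apply A O (O ⧸ J), Ideal.Quotient.algebraMap_eq]; exact ha⟩
    have e1 : Module.length A (O ⧸ J) = Module.length (O ⧸ J) (O ⧸ J) := Module.length_eq_of_surjective hAO
    have e2 : Module.length O (O ⧸ J) = Module.length (O ⧸ J) (O ⧸ J) :=
      Module.length_eq_of_surjective Ideal.Quotient.mk_surjective
    rw [e2, ← e1]
    have hker : JA ≤ LinearMap.ker f := fun x hx => (hk x).2 hx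
    refine Module.length_le_of_injective (Submodule.liftQ JA f hker) ?_
    rw [← LinearMap.ker_eq_bot, Submodule.ker_liftQ]
    exact (Submodule.eq_bot_iff _).2 fun z ⟨x, hx, hxz⟩ => hxz ▸ (Submodule.Quotient.mk_eq_zero _).2 ((hk x).1 hx)
  have hltn : Module.length A (C ⧸ J') ≤ n := by
    have h1 : Module.length A (C ⧸ J') < ((n + 1 : ℕ) : ℕ∞) := hlt.trans_le (hlenA.trans hJ)
    obtain ⟨k, hk⟩ := ENat.ne_top_iff_exists.1 h1.ne_top
    rw [← hk] at h1 ⊢
    exact_mod_cast Nat.lt_succ_iff.1 (by exact_mod_cast h1)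
  have hC'fin : IsFiniteLength A (C ⧸ J') := Module.length_ne_top_iff.1 (ne_top_of_le_ne_top (ENat.coe_ne_top _) hltn)
  obtain ⟨-, hC'ar⟩ := isFiniteLength_iff_isNoetherian_isArtinian.1 hC'fin
  haveI : IsArtinianRing (C ⧸ J') := isArtinian_of_tower A hC'ar
  refine ⟨{P | J' ≤ P.asIdeal}, ?_, ?_, fun P O' _ _ _ _ _ _ φ hφ => ?_⟩
  · have : {P : PrimeSpectrum C | J' ≤ P.asIdeal} = Set.range (PrimeSpectrum.comap (Ideal.Quotient.mk J')) := by
      rw [range_comap_of_surjective _ _ Ideal.Quotient.mk_surjective, Ideal.mk_ker]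
      rfl
    rw [this]
    exact Set.finite_range _
  · intro P hP
    haveI : (P.asIdeal.map (Ideal.Quotient.mk J')).IsPrime :=
      Ideal.map_isPrime_of_surjective Ideal.Quotient.mk_surjective (by rwa [Ideal.mk_ker])
    have hmx : (P.asIdeal.map (Ideal.Quotient.mk J')).IsMaximal := IsArtinianRing.isMaximal_of_isPrime _
    rw [← Ideal.comap_map_of_surjective' (Ideal.Quotient.mk J') Ideal.Quotient.mk_surjective P.asIdeal |>.trans
      (sup_eq_left.2 (by rwa [Ideal.mk_ker]))]
    exact Ideal.comap_isMaximal_of_surjective _ Ideal.Quotient.mk_surjective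
  have hKφ : K.map φ = Ideal.span {φ c * algebraMap C O' (algebraMap A C g ^ d)} * J'.map (algebraMap C O') := by
    have hJmap : J.map φ = (JA.map (algebraMap A C)).map (algebraMap C O') := by
      conv_lhs => rw [← IsLocalization.map_comap m.primeCompl O J]
      rw [Ideal.map_map, Ideal.map_map, hφ, IsScalarTower.algebraMap_eq A C O']
    rw [hKJ, Ideal.map_mul, hJmap, hJA, Ideal.map_mul, Ideal.map_span, Ideal.map_span, Set.image_singleton,
      Set.image_singleton, ← mul_assoc, Ideal.span_singleton_mul_span_singleton]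
  have hcd : φ c * algebraMap C O' (algebraMap A C g ^ d) ∈ nonZeroDivisors O' :=
    mul_mem (mem_nonZeroDivisors_of_ne_zero (hcne P O' φ hφ)) (hg' P O' d)
  refine ⟨⟨_, hcd, _, hKφ, ?_⟩, fun hP => ⟨_, hcd, ?_⟩⟩
  · -- the local colength is at most the colength in the chart
    let f : C →ₗ[C] O' ⧸ J'.map (algebraMap C O') :=
      ((Submodule.mkQ (J'.map (algebraMap C O'))).restrictScalars C).comp (Algebra.linearMap C O')
    have hf : Function.Surjective f := fun z => by
      obtain ⟨z, rfl⟩ := Submodule.Quotient.mk_surjective _ z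
      obtain ⟨a, s, rfl⟩ := IsLocalization.exists_mk'_eq P.asIdeal.primeCompl z
      obtain ⟨k, y, hy⟩ := IsArtinian.exists_pow_succ_smul_dvd (Ideal.Quotient.mk J' (s : C)) (1 : C ⧸ J')
      obtain ⟨y, rfl⟩ := Ideal.Quotient.mk_surjective y
      simp only [smul_eq_mul, ← map_pow, mul_one] at hy
      rw [← map_mul, Ideal.Quotient.eq] at hy
      refine ⟨a * y, (Submodule.Quotient.eq _).2 ?_⟩
      have hsu := IsLocalization.map_units O' s
      refine (Ideal.unit_mul_mem_iff_mem _ (hsu.pow (k + 1))).1 ?_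
      show algebraMap C O' s ^ (k + 1) * (algebraMap C O' (a * y) - IsLocalization.mk' O' a s) ∈ _
      rw [mul_sub, ← map_pow, ← map_mul, pow_succ, map_mul _ ((s : C) ^ k), mul_assoc _ (algebraMap C O' (s : C)),
        IsLocalization.mk'_spec' O' a s, ← map_mul, ← map_sub,
        show (s : C) ^ k * (s : C) * (a * y) - (s : C) ^ k * a = a * ((s : C) ^ (k + 1) * y - (s : C) ^ k) by ring]
      exact Ideal.mem_map_of_mem _ (Ideal.mul_mem_left _ a hy)
    refine le_trans ?_ hltn
    have h1 : Module.length O' (O' ⧸ J'.map (algebraMap C O')) ≤ Module.length A (O' ⧸ J'.map (algebraMap C O')) := by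
      rw [← WithBot.coe_le_coe, Module.coe_length, Module.coe_length]
      exact Order.krullDim_le_of_orderEmbedding (Submodule.restrictScalarsEmbedding A O' _)
    refine h1.trans (Module.length_le_of_surjective ((Submodule.liftQ J' f fun x hx => ?_).restrictScalars A) ?_)
    · exact (Submodule.Quotient.mk_eq_zero _).2 (Ideal.mem_map_of_mem _ hx)
    · intro z
      obtain ⟨x, rfl⟩ := hf z
      exact ⟨Submodule.Quotient.mk x, rfl⟩
  · obtain ⟨x, hx, hxP⟩ := SetLike.not_le_iff_exists.1 (show ¬ J' ≤ P.asIdeal from hP)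
    have htop : J'.map (algebraMap C O') = ⊤ := Ideal.eq_top_of_isUnit_mem _ (Ideal.mem_map_of_mem _ hx)
      (IsLocalization.map_units O' (⟨x, hxP⟩ : P.asIdeal.primeCompl))
    rw [hKφ, htop, Ideal.mul_top]

end Groth.Agent.H28Contr
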