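import Groth.Agent.H28Contr.DomAlg
import Mathlib.RingTheory.KrullDimension.Polynomial
import Mathlib.RingTheory.OrderOfVanishing.Basic

/-!
# An infinite sequence of normalized point blow-ups gives a valuation ring
-/

set_option autoImplicit false
set_option linter.style.haveILetI false
set_option backward.isDefEq.respectTransparency.types false

universe u

open Polynomial IsLocalRing
open scoped nonZeroDivisors Pointwise

namespace Groth.Agent.H28Contr

/-- The coefficients of a relation satisfied by `t` are nonunits, if neither `t` nor `t⁻¹` is integral. -/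
theorem coeff_mem_of_root {R K : Type u} [CommRing R] [IsLocalRing R] [IsIntegrallyClosed R] [Field K]
    [Algebra R K] [IsFractionRing R K] {t : K} (h1 : ∀ r : R, algebraMap R K r ≠ t)
    (h2 : ∀ r : R, algebraMap R K r * t ≠ 1) :
    ∀ (n : ℕ) (p : R[X]), p.natDegree ≤ n → aeval t p = 0 → ∀ i, p.coeff i ∈ maximalIdeal R := by
  intro n
  induction n with
  | zero =>
    intro p hp h i
    rw [eq_C_of_natDegree_le_zero hp] at h ⊢
    rw [aeval_C, map_eq_zero_iff _ (IsFractionRing.injective R K)] at h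
    rw [h]; simp
  | succ n ih =>
    intro p hp h i
    by_cases hd : p.natDegree ≤ n
    · exact ih p hd h i
    have hd' : p.natDegree = n + 1 := le_antisymm hp (by omega)
    have hint : IsIntegral R (algebraMap R K p.leadingCoeff * t) := by
      have := isIntegral_leadingCoeff_smul p t h
      rwa [Algebra.smul_def] at this
    obtain ⟨v, hv⟩ := IsIntegrallyClosed.isIntegral_iff.1 hint
    rw [Polynomial.leadingCoeff, hd'] at hv
    set a := p.coeff (n + 1) with ha
    set p' := p - C a * X ^ (n + 1) + C v * X ^ n with hp'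
    have hdeg : p'.natDegree ≤ n := by
      refine natDegree_le_iff_coeff_eq_zero.2 fun m hm => ?_
      rw [hp', coeff_add, coeff_sub, coeff_C_mul_X_pow, coeff_C_mul_X_pow]
      rw [if_neg (by omega : m ≠ n), add_zero]
      split_ifs with hmn
      · rw [hmn, sub_self]
      · rw [sub_zero]; exact coeff_eq_zero_of_natDegree_lt (by omega)
    have hroot : aeval t p' = 0 := by
      rw [hp', map_add, map_sub, h, map_mul, map_mul, aeval_C, aeval_C, map_pow, map_pow, aeval_X, hv, pow_succ]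
      ring
    have ha_mem : a ∈ maximalIdeal R := by
      rw [mem_maximalIdeal, mem_nonunits_iff]
      intro hu
      obtain ⟨w, hw⟩ := hu.exists_left_inv
      exact h1 (w * v) (by rw [map_mul, hv, ← mul_assoc, ← map_mul, hw, map_one, one_mul])
    have hv_mem : v ∈ maximalIdeal R := by
      rw [mem_maximalIdeal, mem_nonunits_iff]
      intro hu
      obtain ⟨w, hw⟩ := hu.exists_left_inv
      refine h2 (w * a) ?_
      rw [map_mul, mul_assoc, ← hv, ← map_mul, hw, map_one]
    have hp_eq : p = p' + C a * X ^ (n + 1) - C v * X ^ n := by rw [hp']; ring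
    rw [hp_eq, coeff_sub, coeff_add, coeff_C_mul_X_pow, coeff_C_mul_X_pow]
    refine sub_mem (add_mem (ih p' hdeg hroot i) ?_) ?_ <;> split_ifs <;> first | exact zero_mem _ | assumption

/-- Akizuki's bound. -/
theorem height_le_ord {D K : Type u} [CommRing D] [IsDomain D] [IsNoetherianRing D] [Ring.KrullDimLE 1 D]
    [Field K] [Algebra D K] [IsFractionRing D K] (N : Submodule D K) (hN : N.FG) (h1 : (1 : K) ∈ N)
    {x : D} (hx : x ≠ 0) : Order.height (N.map (x • N).mkQ) ≤ Ring.ord D x := by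
  classical
  obtain ⟨S, hS⟩ := hN
  obtain ⟨c, hc⟩ := IsLocalization.exist_integer_multiples_of_finset D⁰ S
  have hc0 : (c : D) ≠ 0 := nonZeroDivisors.ne_zero c.2
  have hcK : algebraMap D K c ≠ 0 := fun h => hc0 (IsFractionRing.injective D K (by rw [h, map_zero]))
  let φ : D →ₗ[D] K := LinearMap.toSpanSingleton D K (algebraMap D K c)⁻¹
  have hNφ : N ≤ LinearMap.range φ := by
    rw [← hS, Submodule.span_le]
    intro z hz
    obtain ⟨d, hd⟩ := hc z hz
    refine ⟨d, ?_⟩
    show d • (algebraMap D K c)⁻¹ = z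
    rw [Algebra.smul_def, hd, Algebra.smul_def, mul_comm (algebraMap D K c), mul_assoc, mul_inv_cancel₀ hcK, mul_one]
  let J : Ideal D := N.comap φ
  have hcJ : (c : D) ∈ J := by
    show (c : D) • (algebraMap D K c)⁻¹ ∈ N
    rwa [Algebra.smul_def, mul_inv_cancel₀ hcK]
  have hker : (x • J : Ideal D) ≤ LinearMap.ker ((x • N).mkQ.comp φ) := by
    intro d hd
    obtain ⟨j, hj, rfl⟩ := (Submodule.mem_smul_pointwise_iff_exists _ _ _).1 hd
    rw [LinearMap.mem_ker, LinearMap.comp_apply, map_smul]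
    exact (Submodule.Quotient.mk_eq_zero _).2 (Submodule.smul_mem_pointwise_smul _ _ _ hj)
  let g : D ⧸ (x • J : Ideal D) →ₗ[D] K ⧸ (x • N) := Submodule.liftQ _ _ hker
  let Jb : Submodule D (D ⧸ (x • J : Ideal D)) := Submodule.map (Submodule.mkQ (x • J : Ideal D)) J
  have himg : Jb.map g = N.map (x • N).mkQ := by
    show Submodule.map g (Submodule.map (Submodule.mkQ (x • J : Ideal D)) J) = _
    rw [← Submodule.map_comp, Submodule.liftQ_mkQ, Submodule.map_comp,
      Submodule.map_comap_eq_of_le hNφ]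
  have hlen : Order.height (N.map (x • N).mkQ) ≤ Module.length D Jb := by
    rw [← Module.length_submodule, ← himg]
    exact Module.length_le_of_surjective (g.submoduleMap Jb) (g.submoduleMap_surjective Jb)
  refine hlen.trans (le_of_eq ?_)
  have hfin : Module.length D (D ⧸ J) ≠ ⊤ := by
    refine ne_top_of_le_ne_top (Ring.ord_ne_top c.2) ?_
    exact Module.length_le_of_surjective (Submodule.factor ((Ideal.span_singleton_le_iff_mem (I := J)).2 hcJ))
      (Submodule.factor_surjective _)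
  have hxJ : (x • J : Ideal D) ≤ J := fun d hd => by
    obtain ⟨j, hj, rfl⟩ := (Submodule.mem_smul_pointwise_iff_exists _ _ _).1 hd
    exact J.smul_mem x hj
  have e1 : Module.length D (D ⧸ (x • J : Ideal D)) = Module.length D (D ⧸ J) + Ring.ord D x :=
    Module.length_eq_add_of_exact _ _ (Ideal.mulQuot_injective J (mem_nonZeroDivisors_of_ne_zero hx))
      (Ideal.quotOfMul_surjective J) (Ideal.exact_mulQuot_quotOfMul J)
  have e2 : Module.length D (D ⧸ (x • J : Ideal D)) = Module.length D Jb + Module.length D (D ⧸ J) :=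
    Module.length_eq_add_of_exact Jb.subtype (Submodule.factor hxJ) Jb.injective_subtype
      (Submodule.factor_surjective hxJ) (by
        rw [LinearMap.exact_iff, Submodule.range_subtype]
        show LinearMap.ker (Submodule.mapQ _ _ LinearMap.id _) = _
        rw [Submodule.mapQ, Submodule.ker_liftQ, LinearMap.comp_id, Submodule.ker_mkQ])
  rw [e2, add_comm] at e1
  exact WithTop.add_left_cancel hfin e1

section Chain

variable {K : Type u} [Field K] {R : ℕ → Type u} [∀ n, CommRing (R n)] [∀ n, IsDomain (R n)]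
  [∀ n, IsLocalRing (R n)] (φ : ∀ n, R n →+* R (n + 1)) (j : ∀ n, R n →+* K) (t : K)

/-- `z = p(t) / q(t)` at stage `n`, the coefficients of `q` not all nonunits. -/
def InD (n : ℕ) (z : K) : Prop :=
  ∃ p q : (R n)[X], q ∉ (maximalIdeal (R n)).map C ∧ z * q.eval₂ (j n) t = p.eval₂ (j n) t

variable {φ j t}

theorem inD_of_mem (n : ℕ) (r : R n) : InD j t n (j n r) :=
  ⟨C r, 1, fun h => (inferInstance : ((maximalIdeal (R n)).map (C : R n →+* (R n)[X])).IsPrime).ne_top
    ((Ideal.eq_top_iff_one _).2 h), by simp⟩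

theorem InD.add {n : ℕ} {z w : K} (hz : InD j t n z) (hw : InD j t n w) : InD j t n (z + w) := by
  obtain ⟨p, q, hq, h⟩ := hz
  obtain ⟨p', q', hq', h'⟩ := hw
  refine ⟨p * q' + p' * q, q * q', fun hc => ((inferInstance : ((maximalIdeal (R n)).map
    (C : R n →+* (R n)[X])).IsPrime).mem_or_mem hc).elim hq hq', ?_⟩
  rw [eval₂_add, eval₂_mul, eval₂_mul, eval₂_mul, ← h, ← h']
  ring

theorem InD.mul {n : ℕ} {z w : K} (hz : InD j t n z) (hw : InD j t n w) : InD j t n (z * w) := by
  obtain ⟨p, q, hq, h⟩ := hz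
  obtain ⟨p', q', hq', h'⟩ := hw
  refine ⟨p * p', q * q', fun hc => ((inferInstance : ((maximalIdeal (R n)).map
    (C : R n →+* (R n)[X])).IsPrime).mem_or_mem hc).elim hq hq', ?_⟩
  rw [eval₂_mul, eval₂_mul, ← h, ← h']
  ring

theorem eval₂_map_step (hj : ∀ n, (j (n + 1)).comp (φ n) = j n) (n : ℕ) (p : (R n)[X]) :
    (p.map (φ n)).eval₂ (j (n + 1)) t = p.eval₂ (j n) t := by
  rw [eval₂_map, hj]

theorem InD.succ (hj : ∀ n, (j (n + 1)).comp (φ n) = j n) {n : ℕ} {z : K}
    (hz : InD j t n z) : InD j t (n + 1) z := by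
  obtain ⟨p, q, hq, h⟩ := hz
  refine ⟨p.map (φ n), q.map (φ n), fun hc => hq ?_, by rw [eval₂_map_step hj, eval₂_map_step hj, h]⟩
  rw [Ideal.mem_map_C_iff] at hc ⊢
  intro i
  have := hc i
  rw [coeff_map] at this
  exact (mem_maximalIdeal _).2 fun hu => (mem_maximalIdeal (φ n (q.coeff i))).1 this (hu.map (φ n))

theorem InD.le (hj : ∀ n, (j (n + 1)).comp (φ n) = j n) {n m : ℕ} {z : K}
    (hz : InD j t n z) (hnm : n ≤ m) : InD j t m z := by
  induction m, hnm using Nat.le_induction with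
  | base => exact hz
  | succ m _ ih => exact ih.succ hj

variable (φ j t)

set_option maxHeartbeats 1600000 in
/-- The key step: `t` or `t⁻¹` lies in some stage. -/
theorem exists_mem_or_inv_mem [IsNoetherianRing (R 0)] (hdim : ringKrullDim (R 0) ≤ 2)
    [∀ n, IsIntegrallyClosed (R n)] (hF : ∀ n, FracHom (j n))
    (hj : ∀ n, (j (n + 1)).comp (φ n) = j n) (hloc : ∀ n, IsLocalHom (φ n))
    (hprin : ∀ n, ∃ a, (maximalIdeal (R n)).map (φ n) = Ideal.span {a}) :
    ∃ n r, j n r = t ∨ j n r * t = 1 := by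
  classical
  by_contra hcon
  push Not at hcon
  have hker : ∀ n (p : (R n)[X]), p.eval₂ (j n) t = 0 → p ∈ (maximalIdeal (R n)).map C := by
    intro n p hp
    letI := (j n).toAlgebra
    haveI : FaithfulSMul (R n) K := (faithfulSMul_iff_algebraMap_injective _ K).2 (hF n).inj
    haveI : IsFractionRing (R n) K := IsFractionRing.of_field (R n) K fun z => by
      obtain ⟨a, s, hs, he⟩ := (hF n).frac z
      exact ⟨a, s, by
        rw [eq_div_iff fun h0 => hs ((hF n).inj (by rw [show j n s = algebraMap (R n) K s from rfl, h0, map_zero])), mul_comm]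
        exact he⟩
    rw [Ideal.mem_map_C_iff]
    exact coeff_mem_of_root (fun r => (hcon n r).1) (fun r => (hcon n r).2) p.natDegree p le_rfl hp
  have hmne : ∀ n a, a ∈ maximalIdeal (R n) → ∀ z, InD j t n z → j n a * z ≠ 1 := by
    rintro n a ha z ⟨p, q, hq, h⟩ he
    refine hq ?_
    have h0 : (C a * p - q).eval₂ (j n) t = 0 := by
      rw [eval₂_sub, eval₂_mul, eval₂_C, ← h, ← mul_assoc, he, one_mul, sub_self]
    have := sub_mem (Ideal.mul_mem_right p ((maximalIdeal (R n)).map C) (Ideal.mem_map_of_mem C ha)) (hker n _ h0)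
    rwa [sub_sub_cancel] at this
  -- write `t = y / x`
  obtain ⟨y, x, hx, hxy⟩ := (hF 0).frac t
  have hx' : j 0 x ≠ 0 := fun h0 => hx ((hF 0).inj (by rw [h0, map_zero]))
  have hnu : ∀ n (x' y' : R n), x' ≠ 0 → j n x' * t = j n y' → x' ∈ maximalIdeal (R n) ∧ y' ∈ maximalIdeal (R n) := by
    intro n x' y' hx0 he
    constructor <;> rw [mem_maximalIdeal, mem_nonunits_iff] <;> intro hu <;> obtain ⟨w, hw⟩ := hu.exists_left_inv
    · refine (hcon n (w * y')).1 ?_
      rw [map_mul, ← he, ← mul_assoc, ← map_mul, hw, map_one, one_mul]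
    · refine (hcon n (w * x')).2 ?_
      rw [map_mul, mul_assoc, he, ← map_mul, hw, map_one]
  choose a ha using hprin
  have hstep : ∀ n (x' y' : R n), x' ≠ 0 → j n x' * t = j n y' → ∃ x'' y'', x'' ≠ 0 ∧
      j (n + 1) x'' * t = j (n + 1) y'' ∧ j n x' = j (n + 1) (a n) * j (n + 1) x'' := by
    intro n x' y' hx0 he
    obtain ⟨hxm, hym⟩ := hnu n x' y' hx0 he
    have h1 := Ideal.mem_map_of_mem (φ n) hxm
    have h2 := Ideal.mem_map_of_mem (φ n) hym
    rw [ha, Ideal.mem_span_singleton'] at h1 h2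
    obtain ⟨x'', hx''⟩ := h1
    obtain ⟨y'', hy''⟩ := h2
    have ex : j n x' = j (n + 1) (a n) * j (n + 1) x'' := by
      rw [← map_mul, mul_comm, hx'', ← hj n]; rfl
    have ey : j n y' = j (n + 1) (a n) * j (n + 1) y'' := by
      rw [← map_mul, mul_comm, hy'', ← hj n]; rfl
    have hne : j n x' ≠ 0 := fun h0 => hx0 ((hF n).inj (by rw [h0, map_zero]))
    refine ⟨x'', y'', fun h0 => hne (by rw [ex, h0, map_zero, mul_zero]), ?_, ex⟩
    apply mul_left_cancel₀ (fun h0 => hne (by rw [ex, h0, zero_mul]) : j (n + 1) (a n) ≠ 0)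
    rw [← mul_assoc, ← ex, he, ey]
  choose! fx fy hf0 hft hfa using hstep
  let xy : ∀ n, R n × R n := Nat.rec (x, y) fun n q => (fx n q.1 q.2, fy n q.1 q.2)
  have hxy' : ∀ n, (xy n).1 ≠ 0 ∧ j n (xy n).1 * t = j n (xy n).2 := fun n => by
    induction n with
    | zero => exact ⟨hx, hxy⟩
    | succ n ih => exact ⟨hf0 n _ _ ih.1 ih.2, hft n _ _ ih.1 ih.2⟩
  let al : ℕ → K := fun n => j (n + 1) (a n)
  let ξ : ℕ → K := fun n => j n (xy n).1
  have hξ : ∀ n, ξ n = al n * ξ (n + 1) := fun n => hfa n _ _ (hxy' n).1 (hxy' n).2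
  have hξ0 : ∀ n, ξ n ≠ 0 := fun n h0 => (hxy' n).1 ((hF n).inj (by rw [map_zero]; exact h0))
  have ham : ∀ n, a n ∈ maximalIdeal (R (n + 1)) := fun n => by
    haveI := hloc n
    have : (maximalIdeal (R n)).map (φ n) ≤ maximalIdeal (R (n + 1)) := Ideal.map_le_iff_le_comap.2 fun r hr => by
      rw [Ideal.mem_comap, mem_maximalIdeal, mem_nonunits_iff]
      exact fun hu => (mem_maximalIdeal _).1 hr (IsLocalHom.map_nonunit r hu)
    rw [ha] at this
    exact this (Ideal.mem_span_singleton_self _)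
  -- the one-dimensional ring
  let M : Ideal (R 0)[X] := (maximalIdeal (R 0)).map C
  haveI hMp : M.IsPrime := inferInstanceAs ((maximalIdeal (R 0)).map C).IsPrime
  let ev : (R 0)[X] →+* K := eval₂RingHom (j 0) t
  let L := Localization.AtPrime M
  let ψ : L →+* K := IsLocalization.lift (M := M.primeCompl) (g := ev)
    fun q => (Ne.isUnit fun h0 => q.2 (hker 0 _ h0) : IsUnit (ev q.1))
  let D : Subring K := ψ.range
  have hψ : ∀ p, ψ (algebraMap _ L p) = ev p := fun p => IsLocalization.lift_eq _ p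
  have hDmem : ∀ z ∈ D, InD j t 0 z := by
    rintro _ ⟨l, rfl⟩
    obtain ⟨⟨p, q⟩, he⟩ := IsLocalization.surj M.primeCompl l
    refine ⟨p, q, q.2, ?_⟩
    have := congrArg ψ he
    rwa [map_mul, hψ, hψ] at this
  have hj0D : ∀ r, j 0 r ∈ D := fun r => ⟨algebraMap _ L (C r), by rw [hψ]; exact eval₂_C _ _⟩
  haveI : IsNoetherianRing L := IsLocalization.isNoetherianRing M.primeCompl L inferInstance
  haveI : IsDomain L := IsLocalization.isDomain_localization M.primeCompl_le_nonZeroDivisors
  haveI : IsNoetherianRing D := isNoetherianRing_of_surjective _ _ ψ.rangeRestrict ψ.rangeRestrict_surjective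
  haveI : Ring.KrullDimLE 1 D := by
    have hL : ringKrullDim L ≤ 2 := by
      rw [IsLocalization.AtPrime.ringKrullDim_eq_height M L]
      show ((((maximalIdeal (R 0)).map C).height : ℕ∞) : WithBot ℕ∞) ≤ 2
      rw [Polynomial.height_map_C]
      exact (Ideal.height_le_ringKrullDim_of_ne_top (maximalIdeal.isMaximal (R 0)).ne_top).trans hdim
    let e : (R 0)[X] := C x * X - C y
    have he0 : e ≠ 0 := fun h0 => hx (by simpa [e] using congrArg (fun p : (R 0)[X] => p.coeff 1) h0)
    have heL : algebraMap _ L e ∈ L⁰ := mem_nonZeroDivisors_of_ne_zero fun h0 => he0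
      (IsLocalization.injective L M.primeCompl_le_nonZeroDivisors (by rw [h0, map_zero]))
    have h1 := (ringKrullDim_quotient_succ_le_of_nonZeroDivisor heL).trans hL
    have hsur : Ideal.span {algebraMap _ L e} ≤ RingHom.ker ψ.rangeRestrict := by
      rw [Ideal.span_singleton_le_iff_mem, RingHom.mem_ker]
      refine Subtype.ext ?_
      show ψ (algebraMap _ L e) = 0
      rw [hψ]
      simp [ev, e, hxy]
    let g : L ⧸ Ideal.span {algebraMap _ L e} →+* D :=
      Ideal.Quotient.lift (Ideal.span {algebraMap _ L e}) ψ.rangeRestrict fun r hr => hsur hr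
    have hg : Function.Surjective g := fun d => by
      obtain ⟨l, hl⟩ := ψ.rangeRestrict_surjective d
      exact ⟨Ideal.Quotient.mk _ l, hl⟩
    have h2 : ringKrullDim D ≤ ringKrullDim (L ⧸ Ideal.span {algebraMap _ L e}) :=
      @ringKrullDim_le_of_surjective (L ⧸ Ideal.span {algebraMap _ L e}) D _ _ g hg
    rw [Ring.krullDimLE_iff]
    refine h2.trans ?_
    rw [← ENat.WithBot.add_le_add_one_right_iff]
    exact h1
  haveI : IsFractionRing D K := IsFractionRing.of_field D K fun z => by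
    obtain ⟨r, s, hs, he⟩ := (hF 0).frac z
    refine ⟨⟨_, hj0D r⟩, ⟨_, hj0D s⟩, ?_⟩
    show z = j 0 r / j 0 s
    rw [eq_div_iff fun h0 => hs ((hF 0).inj (by rw [h0, map_zero])), mul_comm]
    exact he
  set xD : D := ⟨ξ 0, hj0D x⟩ with hxD
  have hxD0 : xD ≠ 0 := fun h0 => hξ0 0 (congrArg Subtype.val h0)
  obtain ⟨ℓ, hℓ⟩ : ∃ ℓ : ℕ, Ring.ord D xD = ℓ :=
    ⟨_, (ENat.natCast_toNat (Ring.ord_ne_top (mem_nonZeroDivisors_of_ne_zero hxD0))).symm⟩
  let S : Set K := insert 1 (ξ '' Set.Icc 1 (ℓ + 2))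
  let N : Submodule D K := Submodule.span D S
  have hN : N.FG := Submodule.fg_span ((Set.finite_Icc 1 (ℓ + 2)).image ξ |>.insert 1)
  have hbound := height_le_ord N hN (Submodule.subset_span (Set.mem_insert _ _)) hxD0
  rw [hℓ] at hbound
  let U : ℕ → Submodule D (K ⧸ xD • N) := fun i => (Submodule.span D (ξ '' Set.Icc 1 i)).map (xD • N).mkQ
  have hUN : ∀ i, i ≤ ℓ + 2 → U i ≤ N.map (xD • N).mkQ := fun i hi => Submodule.map_mono (Submodule.span_mono
    ((Set.image_mono (Set.Icc_subset_Icc le_rfl hi)).trans (Set.subset_insert _ _)))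
  have hspanD : ∀ (T : Set K) (n : ℕ), (∀ z ∈ T, InD j t n z) → ∀ w ∈ Submodule.span D T, InD j t n w := by
    intro T n hT w hw
    induction hw using Submodule.span_induction with
    | mem z hz => exact hT z hz
    | zero => simpa using inD_of_mem (j := j) (t := t) n 0
    | add _ _ _ _ ih ih' => exact ih.add ih'
    | smul d w _ ih => exact ((hDmem _ d.2).le hj (Nat.zero_le n)).mul ih
  have hbeta : ∀ i m, i ≤ m → ∃ r : R m, ξ i = j m r * ξ m := fun i m him => by
    induction m, him using Nat.le_induction with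
    | base => exact ⟨1, by simp⟩
    | succ m _ ih =>
      obtain ⟨r, hr⟩ := ih
      refine ⟨φ m r * a m, ?_⟩
      rw [hr, hξ m, map_mul, ← hj m, RingHom.comp_apply]
      ring
  have hlt : ∀ i, i + 1 ≤ ℓ + 2 → U i < U (i + 1) := by
    intro i hi
    refine lt_of_le_not_ge (Submodule.map_mono (Submodule.span_mono (Set.image_mono (Set.Icc_subset_Icc le_rfl (Nat.le_succ i))))) ?_
    intro hle
    have hmem : (xD • N).mkQ (ξ (i + 1)) ∈ U i :=
      hle (Submodule.mem_map_of_mem (Submodule.subset_span ⟨i + 1, ⟨by omega, le_rfl⟩, rfl⟩))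
    obtain ⟨w, hw, hwe⟩ := Submodule.mem_map.1 hmem
    rw [Submodule.mkQ_apply, Submodule.mkQ_apply, eq_comm, Submodule.Quotient.eq,
      Submodule.mem_smul_pointwise_iff_exists] at hwe
    obtain ⟨m, hm, hme⟩ := hwe
    -- divide by `ξ 0`
    let n := ℓ + 2
    have hinN : ∀ k, 1 ≤ k → k ≤ n → InD j t n (ξ k) := fun k _ hk => (inD_of_mem k _).le hj hk
    have hm' : InD j t n m := hspanD S n (by
      rintro z (rfl | ⟨k, ⟨hk, hk'⟩, rfl⟩)
      · simpa using inD_of_mem (j := j) (t := t) n 1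
      · exact hinN k hk hk') m hm
    have hw' : InD j t n (w / ξ i) := by
      clear hme hmem
      induction hw using Submodule.span_induction with
      | mem z hz =>
        obtain ⟨k, ⟨-, hk⟩, rfl⟩ := hz
        obtain ⟨r, hr⟩ := hbeta k i hk
        rw [hr, mul_div_cancel_right₀ _ (hξ0 i)]
        exact (inD_of_mem i r).le hj (by omega)
      | zero => simpa using inD_of_mem (j := j) (t := t) n 0
      | add _ _ _ _ ih ih' => rw [add_div]; exact ih.add ih'
      | smul d w _ ih =>
        rw [show d • w = (d : K) * w from rfl, mul_div_assoc]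
        exact ((hDmem _ d.2).le hj (Nat.zero_le n)).mul ih
    obtain ⟨r0, hr0⟩ := hbeta 0 i (Nat.zero_le i)
    have hz : InD j t n (w / ξ i + j i r0 * m) :=
      hw'.add (((inD_of_mem i r0).le hj (by omega)).mul hm')
    have hme' : ξ (i + 1) - w = ξ 0 * m := hme.symm
    have hone : al i * (w / ξ i + j i r0 * m) = 1 := by
      have e1 : ξ i * (w / ξ i + j i r0 * m) = ξ (i + 1) := by
        rw [mul_add, mul_div_cancel₀ _ (hξ0 i)]
        linear_combination -hme' - m * hr0
      apply mul_left_cancel₀ (hξ0 i)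
      rw [mul_left_comm, e1, ← hξ i, mul_one]
    obtain ⟨r1, hr1m, hr1⟩ : ∃ r1 ∈ maximalIdeal (R n), j n r1 = al i := by
      suffices ∀ m, i + 1 ≤ m → ∃ r ∈ maximalIdeal (R m), j m r = al i from this n hi
      intro m hm
      induction m, hm using Nat.le_induction with
      | base => exact ⟨a i, ham i, rfl⟩
      | succ m _ ih =>
        obtain ⟨r, hr, he⟩ := ih
        haveI := hloc m
        refine ⟨φ m r, ?_, by rw [← he, ← hj m]; rfl⟩
        rw [mem_maximalIdeal, mem_nonunits_iff]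
        exact fun hu => (mem_maximalIdeal _).1 hr (IsLocalHom.map_nonunit r hu)
    exact hmne n r1 hr1m _ hz (by rw [hr1, hone])
  have hheight : ∀ i, i ≤ ℓ + 2 → (i : ℕ∞) ≤ Order.height (U i) := fun i hi => by
    induction i with
    | zero => simp
    | succ i ih =>
      push_cast
      exact le_trans (add_le_add_left (ih (by omega)) 1) (Order.height_add_one_le (hlt i hi))
  have := ((hheight (ℓ + 2) le_rfl).trans (Order.height_mono (hUN _ le_rfl))).trans hbound
  exact absurd (ENat.natCast_le_natCast.1 this) (by omega)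

end Chain

/-- A sequence of normalized blow-ups along a point gives a valuation ring. -/
theorem exists_valuation_ring_norm {R : ℕ → Type u} [∀ n, CommRing (R n)] [∀ n, IsDomain (R n)]
    [∀ n, IsLocalRing (R n)] [∀ n, IsIntegrallyClosed (R n)] [IsNoetherianRing (R 0)]
    (hdim : ringKrullDim (R 0) ≤ 2) (φ : ∀ n, R n →+* R (n + 1)) (hloc : ∀ n, IsLocalHom (φ n))
    (hinj : ∀ n, Function.Injective (φ n))
    (hbir : ∀ n (z : R (n + 1)), ∃ a s : R n, s ≠ 0 ∧ φ n s * z = φ n a)
    (hprin : ∀ n, ∃ a, (maximalIdeal (R n)).map (φ n) = Ideal.span {a}) :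
    ∃ (V : ValuationSubring (FractionRing (R 0))) (ι : ∀ n, R n →+* V),
      (∀ r, ((ι 0 r : V) : FractionRing (R 0)) = algebraMap (R 0) (FractionRing (R 0)) r) ∧
        (∀ n, (ι (n + 1)).comp (φ n) = ι n) ∧ (∀ n, Function.Injective (ι n)) ∧ (∀ n, IsLocalHom (ι n)) ∧
        ∀ v : V, ∃ n r, ι n r = v := by
  let J : ∀ n, {ι : R n →+* FractionRing (R 0) // FracHom ι} :=
    Nat.rec ⟨algebraMap (R 0) (FractionRing (R 0)), fracHom_algebraMap (R 0)⟩ fun n ι =>
      ⟨(ι.2.exists_extend (φ n) (hinj n) (hbir n)).choose,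
        (ι.2.exists_extend (φ n) (hinj n) (hbir n)).choose_spec.2⟩
  let j : ∀ n, R n →+* FractionRing (R 0) := fun n => (J n).1
  have hjstep : ∀ n, (j (n + 1)).comp (φ n) = j n := fun n =>
    ((J n).2.exists_extend (φ n) (hinj n) (hbir n)).choose_spec.1
  have hmono : ∀ n m, n ≤ m → (j n).range ≤ (j m).range := fun n m hnm => by
    induction m, hnm using Nat.le_induction with
    | base => exact le_rfl
    | succ m _ ih =>
      refine ih.trans ?_
      rintro _ ⟨r, rfl⟩
      exact ⟨φ m r, by rw [← RingHom.comp_apply, hjstep]⟩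
  have hdir : Directed (· ≤ ·) fun n => (j n).range := fun a b =>
    ⟨max a b, hmono _ _ (le_max_left _ _), hmono _ _ (le_max_right _ _)⟩
  have hmem : ∀ x, x ∈ (⨆ n, (j n).range) ↔ ∃ n r, j n r = x := fun x => by
    simp [Subring.mem_iSup_of_directed hdir]
  let V : ValuationSubring (FractionRing (R 0)) := ValuationSubring.ofSubring (⨆ n, (j n).range) fun x => by
    obtain ⟨n, r, h | h⟩ := exists_mem_or_inv_mem φ j x hdim (fun n => (J n).2) hjstep hloc hprin
    · exact Or.inl ((hmem _).2 ⟨n, r, h⟩)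
    · exact Or.inr ((hmem _).2 ⟨n, r, (inv_eq_of_mul_eq_one_left h).symm⟩)
  have hV : ∀ n r, j n r ∈ V := fun n r => (hmem _).2 ⟨n, r, rfl⟩
  let ι : ∀ n, R n →+* V := fun n => (j n).codRestrict V.toSubring (hV n)
  have hιinj : ∀ n, Function.Injective (ι n) := fun n a b h => (J n).2.inj (congrArg Subtype.val h)
  have hιstep : ∀ n, (ι (n + 1)).comp (φ n) = ι n := fun n =>
    RingHom.ext fun r => Subtype.ext (congrArg (fun f : R n →+* FractionRing (R 0) => f r) (hjstep n))
  have hsur : ∀ v : V, ∃ n r, ι n r = v := fun v => by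
    obtain ⟨n, r, hr⟩ := (hmem _).1 v.2
    exact ⟨n, r, Subtype.ext hr⟩
  have hpush : ∀ n m, n ≤ m → ∃ Φ : R n →+* R m, IsLocalHom Φ ∧ (ι m).comp Φ = ι n := fun n m hnm => by
    induction m, hnm using Nat.le_induction with
    | base => exact ⟨RingHom.id _, ⟨fun _ h => h⟩, RingHom.comp_id _⟩
    | succ m _ ih =>
      obtain ⟨Φ, hΦ, he⟩ := ih
      exact ⟨(φ m).comp Φ, ⟨fun a ha => hΦ.map_nonunit a ((hloc m).map_nonunit _ ha)⟩,
        by rw [← RingHom.comp_assoc, hιstep, he]⟩
  refine ⟨V, ι, fun r => rfl, hιstep, hιinj, fun n => ⟨fun a ha => ?_⟩, hsur⟩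
  obtain ⟨w, hw⟩ := ha.exists_right_inv
  obtain ⟨m, r, rfl⟩ := hsur w
  obtain ⟨Φ, hΦ, he⟩ := hpush n (max n m) (le_max_left _ _)
  obtain ⟨Ψ, -, he'⟩ := hpush m (max n m) (le_max_right _ _)
  refine hΦ.map_nonunit a (IsUnit.of_mul_eq_one (Ψ r) (hιinj _ ?_))
  rw [map_mul, map_one, ← RingHom.comp_apply, ← RingHom.comp_apply, he, he', hw]

end Groth.Agent.H28Contr
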