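import Groth.Agent.H26Blow.Exists
import Groth.Agent.H26Blow.Affine
import Mathlib

/-!
# The blow-up of an affine scheme in an ideal generated by a regular pair
-/

set_option autoImplicit false
set_option backward.isDefEq.respectTransparency.types false

universe u

open CategoryTheory Limits AlgebraicGeometry TopologicalSpace Polynomial

namespace Groth.Agent.H28Contr

open H26Blow

section Algebra

variable {A : Type u} [CommRing A] {x y : A}

/-- `x`, `y` are regular and `y` is regular modulo `x`. -/
structure RegPair (x y : A) : Prop where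
  x_reg : x ∈ nonZeroDivisors A
  y_reg : y ∈ nonZeroDivisors A
  mod : ∀ a, x ∣ y * a → x ∣ a

theorem RegPair.dvd_pow (h : RegPair x y) : ∀ (n : ℕ) (a : A) (m : ℕ), x ^ n ∣ y ^ m * a → x ^ n ∣ a := by
  intro n
  induction n with
  | zero => intro a m _; simp
  | succ n ih =>
    intro a m hd
    have h1 : x ∣ a := by
      have : x ∣ y ^ m * a := (Dvd.intro_left (x ^ n) (pow_succ x n).symm).trans hd
      clear hd
      induction m with
      | zero => simpa using this
      | succ m ihm => exact ihm (h.mod _ (by rwa [← mul_assoc, ← pow_succ']))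
    obtain ⟨b, rfl⟩ := h1
    obtain ⟨c, hc⟩ := hd
    rw [pow_succ']
    refine mul_dvd_mul_left x (ih b m ⟨c, ?_⟩)
    refine (mul_cancel_left_mem_nonZeroDivisors h.x_reg).1 ?_
    linear_combination hc

/-- An element of `A_{xy}` lying in both `A_x` and `A_y` lies in `A`. -/
theorem RegPair.exists_eq (h : RegPair x y) {L : Type u} [CommRing L] [Algebra A L]
    [IsLocalization.Away (x * y) L] {v : L} {a b : A} {n m : ℕ}
    (ha : v * algebraMap A L x ^ n = algebraMap A L a) (hb : v * algebraMap A L y ^ m = algebraMap A L b) :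
    ∃ c : A, algebraMap A L c = v := by
  have hinj : Function.Injective (algebraMap A L) :=
    IsLocalization.injective (M := Submonoid.powers (x * y)) L
      ((Submonoid.powers_le).2 (mul_mem h.x_reg h.y_reg))
  have e : a * y ^ m = b * x ^ n := by
    apply hinj
    simp only [map_mul, map_pow, ← ha, ← hb]
    ring
  obtain ⟨c, rfl⟩ := h.dvd_pow n a m ⟨b, by linear_combination e⟩
  refine ⟨c, ?_⟩
  have hu : IsUnit (algebraMap A L x) := by
    have := IsLocalization.map_units L (M := Submonoid.powers (x * y)) ⟨x * y, Submonoid.mem_powers _⟩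
    rw [map_mul] at this
    exact (IsUnit.mul_iff.1 this).1
  refine ((hu.pow n).mul_left_injective ?_)
  show algebraMap A L c * _ = v * _
  rw [ha, map_mul, map_pow, mul_comm]

variable (I : Ideal A) (a : I)

/-- Every element of a chart has a power of `a` as denominator. -/
theorem exists_mul_pow (z : Alg I a) :
    ∃ (n : ℕ) (b : A), (z : Localization.Away (a : A)) * algebraMap A _ (a : A) ^ n = algebraMap A _ b := by
  obtain ⟨⟨b, ⟨_, n, rfl⟩⟩, hb⟩ := IsLocalization.surj (Submonoid.powers (a : A)) (z : Localization.Away (a : A))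
  exact ⟨n, b, by simpa [map_pow] using hb⟩

theorem algebraMap_alg_injective (ha : (a : A) ∈ nonZeroDivisors A) :
    Function.Injective (algebraMap A (Alg I a)) := fun p q h =>
  IsLocalization.injective (M := Submonoid.powers (a : A)) (Localization.Away (a : A))
    ((Submonoid.powers_le).2 ha) (congrArg Subtype.val h)

/-- A chart is generated by the single fraction `b / a` when `I = (a, b)`. -/
theorem aeval_frac_surjective (b : I) (hI : I = Ideal.span {(a : A), (b : A)}) :
    Function.Surjective (Polynomial.aeval (R := A) (frac I a b)) := by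
  rw [← AlgHom.range_eq_top, eq_top_iff]
  rintro ⟨z, hz⟩ -
  suffices h : z ∈ ((Polynomial.aeval (R := A) (frac I a b)).range.map (Alg I a).val) by
    obtain ⟨w, hw, hwz⟩ := h
    rwa [show (⟨z, hz⟩ : Alg I a) = w from Subtype.ext hwz.symm]
  refine Algebra.adjoin_le ?_ hz
  rintro _ ⟨c, hc, rfl⟩
  obtain ⟨p, q, hpq⟩ := Ideal.mem_span_pair.1 (hI ▸ hc : c ∈ Ideal.span {(a : A), (b : A)})
  refine ⟨Polynomial.aeval (frac I a b) (C p + C q * X), ⟨_, rfl⟩, ?_⟩
  have hu : IsUnit (algebraMap A (Localization.Away (a : A)) (a : A)) :=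
    IsLocalization.Away.algebraMap_isUnit _
  refine hu.mul_left_injective ?_
  show ((Polynomial.aeval (frac I a b) (C p + C q * X) : Alg I a) : Localization.Away (a : A)) * _ = _ * _
  rw [show (IsLocalization.mk' (Localization.Away (a : A)) c _ : Localization.Away (a : A)) *
    algebraMap A _ (a : A) = algebraMap A _ c from IsLocalization.mk'_spec _ c _, ← hpq]
  have hf := congrArg Subtype.val (frac_spec I a b)
  simp only [map_add, map_mul, Polynomial.aeval_C, Polynomial.aeval_X]
  push_cast at hf ⊢
  linear_combination (algebraMap A (Localization.Away (a : A)) q) * hf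

end Algebra

section Fibre

variable {A : Type u} [CommRing A] (I : Ideal A) [I.IsMaximal] (a b : I)

/-- The reduction of a chart at a point over the centre, pulled back to `(A ⧸ I)[t]`. -/
noncomputable def fibMap (P : PrimeSpectrum (Alg I a)) (hP : I ≤ P.asIdeal.comap (algebraMap A (Alg I a))) :
    (A ⧸ I)[X] →+* (Alg I a) ⧸ P.asIdeal :=
  Polynomial.eval₂RingHom
    (Ideal.Quotient.lift I ((Ideal.Quotient.mk P.asIdeal).comp (algebraMap A _)) fun r hr =>
      show Ideal.Quotient.mk P.asIdeal (algebraMap A _ r) = 0 from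
        Ideal.Quotient.eq_zero_iff_mem.2 (hP hr))
    (Ideal.Quotient.mk P.asIdeal (frac I a b))

theorem fibMap_map (P : PrimeSpectrum (Alg I a)) (hP) (p : A[X]) :
    fibMap I a b P hP (p.map (Ideal.Quotient.mk I)) =
      Ideal.Quotient.mk P.asIdeal (Polynomial.aeval (frac I a b) p) := by
  induction p using Polynomial.induction_on' with
  | add p q hp hq => simp [Polynomial.map_add, hp, hq]
  | monomial n c =>
    simp [fibMap, Polynomial.aeval_monomial]

/-- A non-maximal prime over the centre is contained in every prime over the centre. -/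
theorem le_of_not_isMaximal (hI : I = Ideal.span {(a : A), (b : A)}) (P Q : PrimeSpectrum (Alg I a))
    (hP : I ≤ P.asIdeal.comap (algebraMap A (Alg I a))) (hQ : I ≤ Q.asIdeal.comap (algebraMap A (Alg I a)))
    (hPm : ¬ P.asIdeal.IsMaximal) : P.asIdeal ≤ Q.asIdeal := by
  letI : Field (A ⧸ I) := Ideal.Quotient.field I
  intro z hz
  obtain ⟨p, rfl⟩ := aeval_frac_surjective I a b hI z
  have hsurj : Function.Surjective (fibMap I a b P hP) := fun w => by
    obtain ⟨w, rfl⟩ := Ideal.Quotient.mk_surjective w
    obtain ⟨q, rfl⟩ := aeval_frac_surjective I a b hI w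
    exact ⟨q.map (Ideal.Quotient.mk I), fibMap_map I a b P hP q⟩
  have hker : RingHom.ker (fibMap I a b P hP) = ⊥ := by
    by_contra hne
    refine hPm ?_
    have : (RingHom.ker (fibMap I a b P hP)).IsMaximal :=
      IsPrime.to_maximal_ideal hne (hpi := RingHom.ker_isPrime _)
    refine Ideal.Quotient.maximal_of_isField _ ?_
    exact MulEquiv.isField ((Ideal.Quotient.maximal_ideal_iff_isField_quotient _).1 this)
      (RingHom.quotientKerEquivOfSurjective hsurj).symm.toMulEquiv
  have hp : p.map (Ideal.Quotient.mk I) = 0 := by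
    rw [← Ideal.mem_bot, ← hker, RingHom.mem_ker, fibMap_map]
    exact Ideal.Quotient.eq_zero_iff_mem.2 hz
  rw [← Ideal.Quotient.eq_zero_iff_mem, ← fibMap_map I a b Q hQ, hp, map_zero]

end Fibre

section Proj

variable {A : Type u} [CommRing A] (I : Ideal A) (a b : I)

theorem mem_basicOpen_or (hI : I = Ideal.span {(a : A), (b : A)}) (w : Proj (gr I)) :
    w ∈ Proj.basicOpen (gr I) (T I a) ∨ w ∈ Proj.basicOpen (gr I) (T I b) := by
  obtain ⟨c, hc⟩ := Opens.mem_iSup.1 ((iSup_basicOpen I).ge (Set.mem_univ w))
  by_contra hne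
  rw [not_or, Proj.mem_basicOpen, Proj.mem_basicOpen, not_not, not_not] at hne
  rw [Proj.mem_basicOpen] at hc
  obtain ⟨p, q, hpq⟩ := Ideal.mem_span_pair.1 (hI ▸ c.2 : (c : A) ∈ Ideal.span {(a : A), (b : A)})
  have hT : T I c = algebraMap A (reesAlgebra I) p * T I a + algebraMap A (reesAlgebra I) q * T I b := by
    apply Subtype.ext
    push_cast
    simp only [coe_T, Polynomial.algebraMap_eq, C_mul_monomial, ← map_add, hpq]
  exact hc (hT ▸ add_mem (Ideal.mul_mem_left _ _ hne.1) (Ideal.mul_mem_left _ _ hne.2))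

theorem gen_of_isUnit {R : Type u} [CommRing R] (φ : A →+* R) (c : I) (hc : IsUnit (φ (c : A))) :
    Gen I φ c :=
  ⟨hc.mem_nonZeroDivisors, fun x _ => by rw [Ideal.span_singleton_eq_top.2 hc]; exact Submodule.mem_top⟩

/-- Morphisms from the blow-up in a regular pair to affine schemes factor uniquely through the base. -/
theorem existsUnique_factor (hI : I = Ideal.span {(a : A), (b : A)}) (hab : RegPair (a : A) b)
    (R : CommRingCat.{u}) (h : Proj (gr I) ⟶ Spec R) :
    ∃! φ : R ⟶ CommRingCat.of A, π I ≫ Spec.map φ = h := by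
  obtain ⟨ψa, hψa⟩ := Spec.map_surjective (j I a ≫ h)
  obtain ⟨ψb, hψb⟩ := Spec.map_surjective (j I b ≫ h)
  have hua : IsUnit (algebraMap A (Localization.Away ((a : A) * b)) (a : A)) := by
    have := IsLocalization.Away.algebraMap_isUnit (S := Localization.Away ((a : A) * b)) ((a : A) * b)
    rw [map_mul] at this
    exact (IsUnit.mul_iff.1 this).1
  have hub : IsUnit (algebraMap A (Localization.Away ((a : A) * b)) (b : A)) := by
    have := IsLocalization.Away.algebraMap_isUnit (S := Localization.Away ((a : A) * b)) ((a : A) * b)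
    rw [map_mul] at this
    exact (IsUnit.mul_iff.1 this).2
  let ea : Localization.Away (a : A) →ₐ[A] Localization.Away ((a : A) * b) :=
    { toRingHom := IsLocalization.Away.lift (a : A) hua
      commutes' := IsLocalization.Away.lift_eq (a : A) hua }
  let eb : Localization.Away (b : A) →ₐ[A] Localization.Away ((a : A) * b) :=
    { toRingHom := IsLocalization.Away.lift (b : A) hub
      commutes' := IsLocalization.Away.lift_eq (b : A) hub }
  let la : Alg I a →ₐ[A] Localization.Away ((a : A) * b) := ea.comp (Alg I a).val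
  let lb : Alg I b →ₐ[A] Localization.Away ((a : A) * b) := eb.comp (Alg I b).val
  obtain ⟨g, -, hu⟩ := existsUnique_of_gen I
    (CommRingCat.ofHom (algebraMap A (Localization.Away ((a : A) * b)))) a (gen_of_isUnit I _ a hua)
  have e : Spec.map (CommRingCat.ofHom la.toRingHom) ≫ j I a =
      Spec.map (CommRingCat.ofHom lb.toRingHom) ≫ j I b := by
    refine (hu _ ?_).trans (hu _ ?_).symm
    · show (_ ≫ _) ≫ _ = _
      rw [Category.assoc, j_π, ← Spec.map_comp]
      exact congrArg Spec.map (CommRingCat.hom_ext (RingHom.ext la.commutes))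
    · show (_ ≫ _) ≫ _ = _
      rw [Category.assoc, j_π, ← Spec.map_comp]
      exact congrArg Spec.map (CommRingCat.hom_ext (RingHom.ext lb.commutes))
  have e' : ∀ r, la (ψa.hom r) = lb (ψb.hom r) := by
    have := congrArg (· ≫ h) e
    simp only [Category.assoc, ← hψa, ← hψb, ← Spec.map_comp] at this
    exact fun r => RingHom.congr_fun (congrArg CommRingCat.Hom.hom (Spec.map_injective this)) r
  have key : ∀ r, ∃ c : A, algebraMap A (Alg I a) c = ψa.hom r ∧ algebraMap A (Alg I b) c = ψb.hom r := by
    intro r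
    obtain ⟨n, p, hp⟩ := exists_mul_pow I a (ψa.hom r)
    obtain ⟨m, q, hq⟩ := exists_mul_pow I b (ψb.hom r)
    have hp' := congrArg ea hp
    have hq' := congrArg eb hq
    rw [map_mul, map_pow, AlgHom.commutes, AlgHom.commutes] at hp' hq'
    have hq'' : la (ψa.hom r) * algebraMap A _ (b : A) ^ m = algebraMap A _ q := by rw [e' r]; exact hq'
    obtain ⟨c, hc⟩ := hab.exists_eq (L := Localization.Away ((a : A) * b)) (v := la (ψa.hom r)) hp' hq''
    have hcn : c * (a : A) ^ n = p := by
      apply IsLocalization.injective (M := Submonoid.powers ((a : A) * b)) (Localization.Away ((a : A) * b))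
        ((Submonoid.powers_le).2 (mul_mem hab.x_reg hab.y_reg))
      rw [map_mul, map_pow, hc]; exact hp'
    have hcm : c * (b : A) ^ m = q := by
      apply IsLocalization.injective (M := Submonoid.powers ((a : A) * b)) (Localization.Away ((a : A) * b))
        ((Submonoid.powers_le).2 (mul_mem hab.x_reg hab.y_reg))
      rw [map_mul, map_pow, hc]; exact hq''
    refine ⟨c, Subtype.ext ?_, Subtype.ext ?_⟩
    · refine ((IsLocalization.Away.algebraMap_isUnit (S := Localization.Away (a : A)) (a : A)).pow n).mul_left_injective ?_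
      show algebraMap A (Localization.Away (a : A)) c * _ = _ * _
      rw [hp, ← map_pow, ← map_mul, hcn]
    · refine ((IsLocalization.Away.algebraMap_isUnit (S := Localization.Away (b : A)) (b : A)).pow m).mul_left_injective ?_
      show algebraMap A (Localization.Away (b : A)) c * _ = _ * _
      rw [hq, ← map_pow, ← map_mul, hcm]
  have hinj := algebraMap_alg_injective I a hab.x_reg
  choose c hca hcb using key
  let φ : R →+* A :=
    { toFun := c
      map_one' := hinj (by rw [hca, map_one, map_one])
      map_mul' := fun r s => hinj (by rw [hca, map_mul, map_mul, hca, hca])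
      map_zero' := hinj (by rw [hca, map_zero, map_zero])
      map_add' := fun r s => hinj (by rw [hca, map_add, map_add, hca, hca]) }
  refine ⟨CommRingCat.ofHom φ, ?_, fun φ' hφ' => ?_⟩
  · let 𝒰 : (Proj (gr I)).OpenCover :=
      { I₀ := ULift.{u} Bool
        X := fun i => if i.down then Spec (CommRingCat.of (Alg I a)) else Spec (CommRingCat.of (Alg I b))
        f := fun | ⟨true⟩ => j I a | ⟨false⟩ => j I b
        mem₀ := by
          rw [Scheme.presieve₀_mem_precoverage_iff]
          refine ⟨fun w => ?_, fun i => ?_⟩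
          · rcases mem_basicOpen_or I a b hI w with hw | hw
            · rw [← opensRange_j] at hw; exact ⟨⟨true⟩, hw⟩
            · rw [← opensRange_j] at hw; exact ⟨⟨false⟩, hw⟩
          · rcases i with ⟨_ | _⟩
            · exact inferInstanceAs (IsOpenImmersion (j I b))
            · exact inferInstanceAs (IsOpenImmersion (j I a)) }
    refine 𝒰.hom_ext _ _ fun i => ?_
    rcases i with ⟨_ | _⟩
    · show j I b ≫ _ = j I b ≫ h
      rw [← Category.assoc, j_π, ← Spec.map_comp, ← hψb]
      exact congrArg Spec.map (CommRingCat.hom_ext (RingHom.ext hcb))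
    · show j I a ≫ _ = j I a ≫ h
      rw [← Category.assoc, j_π, ← Spec.map_comp, ← hψa]
      exact congrArg Spec.map (CommRingCat.hom_ext (RingHom.ext hca))
  · have := congrArg (j I a ≫ ·) hφ'
    simp only [← Category.assoc, j_π, ← Spec.map_comp, ← hψa] at this
    refine CommRingCat.hom_ext (RingHom.ext fun r => hinj ?_)
    exact (RingHom.congr_fun (congrArg CommRingCat.Hom.hom (Spec.map_injective this)) r).trans (hca r).symm

/-- The points of a chart over the centre. -/
theorem le_comap_of_π_eq (m : PrimeSpectrum A) (hm : I ≤ m.asIdeal) (w : Spec (CommRingCat.of (Alg I a)))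
    (hw : π I (j I a w) = m) : I ≤ (w : PrimeSpectrum (Alg I a)).asIdeal.comap (algebraMap A (Alg I a)) := by
  rw [← Scheme.Hom.comp_apply, j_π] at hw
  intro x hx
  have := hm hx
  rw [← hw] at this
  exact this

/-- In a chart, a point over the centre that is not closed there generalises all points over the centre. -/
theorem specializes_of_ne (hI : I = Ideal.span {(a : A), (b : A)}) [I.IsMaximal]
    (m : PrimeSpectrum A) (hm : I ≤ m.asIdeal) (p q r : Spec (CommRingCat.of (Alg I a)))
    (hp : π I (j I a p) = m) (hq : π I (j I a q) = m) (hpr : p ⤳ r) (hne : p ≠ r) : p ⤳ q := by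
  refine (PrimeSpectrum.le_iff_specializes (x := (p : PrimeSpectrum (Alg I a))) (y := q)).1 ?_
  refine le_of_not_isMaximal I a b hI p q (le_comap_of_π_eq I a m hm p hp) (le_comap_of_π_eq I a m hm q hq) ?_
  intro hmax
  have hle : (p : PrimeSpectrum (Alg I a)).asIdeal ≤ (r : PrimeSpectrum (Alg I a)).asIdeal :=
    (PrimeSpectrum.le_iff_specializes (p : PrimeSpectrum (Alg I a)) r).2 hpr
  exact hne (PrimeSpectrum.ext (hmax.eq_of_le (r : PrimeSpectrum (Alg I a)).2.ne_top hle))

/-- At most one point over the centre lies in the first chart only. -/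
theorem subsingleton_notMem (hI : I = Ideal.span {(a : A), (b : A)}) [I.IsMaximal] (m : PrimeSpectrum A)
    (hm : I ≤ m.asIdeal) : {w : Proj (gr I) | π I w = m ∧ w ∈ Proj.basicOpen (gr I) (T I a) ∧
      w ∉ Proj.basicOpen (gr I) (T I b)}.Subsingleton := by
  rintro z ⟨hz, hza, hzb⟩ w ⟨hw, hwa, hwb⟩
  simp only [← opensRange_j I a] at hza hwa
  obtain ⟨P, rfl⟩ := hza
  obtain ⟨Q, rfl⟩ := hwa
  rw [mem_basicOpen_j] at hzb hwb
  replace hzb : frac I a b ∈ (P : PrimeSpectrum (Alg I a)).asIdeal := not_not.1 hzb
  replace hwb : frac I a b ∈ (Q : PrimeSpectrum (Alg I a)).asIdeal := not_not.1 hwb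
  have key : ∀ (P : PrimeSpectrum (Alg I a)), I ≤ P.asIdeal.comap (algebraMap A (Alg I a)) →
      frac I a b ∈ P.asIdeal → ∀ p : A[X], Polynomial.aeval (frac I a b) p ∈ P.asIdeal ↔ p.coeff 0 ∈ I := by
    intro P hP hb p
    have hc : P.asIdeal.comap (algebraMap A (Alg I a)) = I :=
      (Ideal.IsMaximal.eq_of_le inferInstance (P.2.comap _).ne_top hP).symm
    conv_lhs => rw [← Polynomial.X_mul_divX_add p, map_add, map_mul, Polynomial.aeval_X, Polynomial.aeval_C]
    rw [Ideal.add_mem_iff_right _ (P.asIdeal.mul_mem_right _ hb), ← Ideal.mem_comap, hc]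
  refine congrArg (j I a) (PrimeSpectrum.ext (Ideal.ext fun x => ?_))
  obtain ⟨p, rfl⟩ := aeval_frac_surjective I a b hI x
  exact (key P (le_comap_of_π_eq I a m hm P hz) hzb p).trans (key Q (le_comap_of_π_eq I a m hm Q hw) hwb p).symm

/-- An infinite irreducible closed subset of the exceptional locus is the whole of it. -/
theorem subset_of_infinite (hI : I = Ideal.span {(a : A), (b : A)}) [I.IsMaximal] (m : PrimeSpectrum A)
    (hm : I ≤ m.asIdeal) {C : Set (Proj (gr I))} (hC : IsClosed C) (hCi : IsIrreducible C)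
    (hinf : C.Infinite) (hCm : ∀ w ∈ C, π I w = m) : ∀ w, π I w = m → w ∈ C := by
  obtain ⟨η, hη⟩ := QuasiSober.sober hCi hC
  have main : ∀ a b : I, I = Ideal.span {(a : A), (b : A)} →
      (C ∩ Proj.basicOpen (gr I) (T I a)).Infinite → ∀ w, π I w = m → w ∈ Proj.basicOpen (gr I) (T I a) →
        η ⤳ w := by
    intro a b hI hinf w hw hwa
    obtain ⟨z, ⟨hzC, hza⟩, hzη⟩ := (hinf.diff (Set.finite_singleton η)).nonempty
    have hηa : η ∈ Proj.basicOpen (gr I) (T I a) := (hη.specializes hzC).mem_open (Opens.isOpen _) hza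
    simp only [SetLike.mem_coe, ← opensRange_j] at hza hηa hwa
    obtain ⟨p, rfl⟩ := hηa
    obtain ⟨q, rfl⟩ := hwa
    obtain ⟨r, rfl⟩ := hza
    have hind := (j I a).isOpenEmbedding.toIsInducing
    exact hind.specializes_iff.2 (specializes_of_ne I a b hI m hm p q r (hCm _ hη.mem) hw
      (hind.specializes_iff.1 (hη.specializes hzC)) fun e => hzη (by rw [e]; rfl))
  have hba : I = Ideal.span {(b : A), (a : A)} := by rwa [Set.pair_comm]
  suffices key : ∀ a b : I, I = Ideal.span {(a : A), (b : A)} →
      (C ∩ Proj.basicOpen (gr I) (T I a)).Infinite → ∀ w, π I w = m → η ⤳ w by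
    intro w hw
    refine hη.def ▸ specializes_iff_mem_closure.1 ?_
    by_cases hia : (C ∩ Proj.basicOpen (gr I) (T I a)).Infinite
    · exact key a b hI hia w hw
    · refine key b a hba ?_ w hw
      by_contra hib
      refine hinf (((Set.not_infinite.1 hia).union (Set.not_infinite.1 hib)).subset fun z hz => ?_)
      exact (mem_basicOpen_or I a b hI z).imp (⟨hz, ·⟩) (⟨hz, ·⟩)
  intro a b hI hinf w hw
  rcases mem_basicOpen_or I a b hI w with hwa | hwb
  · exact main a b hI hinf w hw hwa
  · refine main b a (by rwa [Set.pair_comm]) ?_ w hw hwb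
    refine (hinf.diff ((subsingleton_notMem I a b hI m hm).finite)).mono ?_
    rintro z ⟨⟨hzC, hza⟩, hzn⟩
    refine ⟨hzC, not_not.1 fun hzb => hzn ⟨hCm z hzC, hza, hzb⟩⟩

end Proj

end Groth.Agent.H28Contr
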