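import Groth.Agent.H28Contr.Nhd
import Groth.Agent.H28Contr.BlowRegular
import Groth.Agent.H28Contr.TwoCover
import Groth.Agent.H28Contr.LocalColength
import Groth.Agent.H3CAlg.DiagStalk
import Groth.Agent.H29Blow.OfStalk
import Groth.Prelude.Def_IntMult

/-!
# One blow-up of a closed point lowers the colength of an ideal
-/

set_option autoImplicit false
set_option linter.style.haveILetI false
set_option backward.isDefEq.respectTransparency.types false

universe u

open CategoryTheory Limits AlgebraicGeometry TopologicalSpace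

namespace Groth.Agent.H28Contr

/-- The ideal at a point of an affine scheme, in the localization. -/
noncomputable def locIdeal {A : CommRingCat.{u}} (K : (Spec A).IdealSheafData) (q : PrimeSpectrum A) :
    Ideal (Localization.AtPrime q.asIdeal) :=
  (IntMult.stalkIdeal K q).map (Spec.stalkIso A q).commRingCatIsoToRingEquiv.toRingHom

theorem exists_locHom {A C : CommRingCat.{u}} (f : A ⟶ C) (P : PrimeSpectrum C) (q : PrimeSpectrum A)
    (hq : PrimeSpectrum.comap f.hom P = q) (K : (Spec A).IdealSheafData) :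
    ∃ ψ : Localization.AtPrime q.asIdeal →+* Localization.AtPrime P.asIdeal,
      ψ.comp (algebraMap A _) = (algebraMap C _).comp f.hom ∧
        locIdeal (K.comap (Spec.map f)) P = (locIdeal K q).map ψ := by
  subst hq
  let ψ := Localization.localRingHom (PrimeSpectrum.comap f.hom P).asIdeal P.asIdeal f.hom rfl
  refine ⟨ψ, RingHom.ext fun a => Localization.localRingHom_to_map _ _ _ rfl a, ?_⟩
  have h := H3CAlg.DiagStalk.stalkIdeal_comap (Spec.map f) K P
  rw [locIdeal, locIdeal, Ideal.map_map, h, Ideal.map_map]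
  congr 1
  have hs := Scheme.localRingHom_comp_stalkIso f P
  have : (Spec.map f).stalkMap P ≫ (Spec.stalkIso C P).hom =
      (Spec.stalkIso A (PrimeSpectrum.comap f.hom P)).hom ≫ CommRingCat.ofHom ψ := by
    rw [← hs]
    erw [Category.assoc, Category.assoc, Iso.inv_hom_id, Category.comp_id]
    rfl
  exact congrArg CommRingCat.Hom.hom this

theorem regPair_swap {A : Type u} [CommRing A] {x y : A} (h : RegPair x y) : RegPair y x := by
  refine ⟨h.y_reg, h.x_reg, fun z hz => ?_⟩
  obtain ⟨w, hw⟩ := hz
  obtain ⟨v, rfl⟩ := h.mod w ⟨z, hw.symm⟩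
  refine ⟨v, (mul_cancel_left_mem_nonZeroDivisors h.x_reg).1 ?_⟩
  rw [hw]; ring

theorem colBound_map_iff {R S : Type u} [CommRing R] [CommRing S] (e : R ≃+* S) (K : Ideal R) (n : ℕ) :
    ColBound S (K.map e.toRingHom) n ↔ ColBound R K n := by
  refine ⟨fun h => ?_, fun h => h.map e⟩
  have h' := h.map e.symm
  rw [Ideal.map_map] at h'
  convert h'
  rw [show e.symm.toRingHom.comp e.toRingHom = RingHom.id R from RingHom.ext e.symm_apply_apply, Ideal.map_id]

theorem isPrin_map {R S : Type u} [CommRing R] [CommRing S] (e : R ≃+* S) {K : Ideal R} (h : IsPrin R K) :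
    IsPrin S (K.map e.toRingHom) := by
  obtain ⟨c, hc, rfl⟩ := h
  refine ⟨e c, by rw [← MulEquivClass.map_nonZeroDivisors e]; exact Submonoid.mem_map_of_mem _ hc, ?_⟩
  rw [Ideal.map_span, Set.image_singleton]; rfl

/-- The stalk of an open subscheme. -/
noncomputable def openEquiv {C : CommRingCat.{u}} {X : Scheme.{u}} (c : Spec C ⟶ X) [IsOpenImmersion c]
    (P : PrimeSpectrum C) : X.presheaf.stalk (c P) ≃+* Localization.AtPrime P.asIdeal :=
  (asIso (c.stalkMap P) ≪≫ Spec.stalkIso C P).commRingCatIsoToRingEquiv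

theorem map_openEquiv {C : CommRingCat.{u}} {X : Scheme.{u}} (c : Spec C ⟶ X) [IsOpenImmersion c]
    (K : X.IdealSheafData) (P : PrimeSpectrum C) :
    (IntMult.stalkIdeal K (c P)).map (openEquiv c P).toRingHom = locIdeal (K.comap c) P := by
  rw [locIdeal, H3CAlg.DiagStalk.stalkIdeal_comap, Ideal.map_map]
  rfl

theorem isPrin_symm {C : CommRingCat.{u}} {X : Scheme.{u}} (c : Spec C ⟶ X) [IsOpenImmersion c]
    (K : X.IdealSheafData) (P : PrimeSpectrum C) (h : IsPrin _ (locIdeal (K.comap c) P)) :
    IsPrin _ (IntMult.stalkIdeal K (c P)) := by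
  have h' := isPrin_map (openEquiv c P).symm h
  rw [← map_openEquiv, Ideal.map_map, show (openEquiv c P).symm.toRingHom.comp (openEquiv c P).toRingHom =
    RingHom.id _ from RingHom.ext (openEquiv c P).symm_apply_apply, Ideal.map_id] at h'
  exact h'

/-- A maximal ideal through a regular element with quotient `k[X]` has a two-dimensional local ring. -/
theorem ringKrullDim_of_quot_polynomial {B k : Type u} [CommRing B] [IsNoetherianRing B] [Field k] (t : B)
    (ht : t ∈ nonZeroDivisors B) (e : B ⧸ Ideal.span {t} ≃+* Polynomial k) (P : Ideal B) [hPm : P.IsMaximal]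
    (hP : t ∈ P) : ringKrullDim (Localization.AtPrime P) = 2 := by
  have hle : Ideal.span {t} ≤ P := (Ideal.span_singleton_le_iff_mem _).2 hP
  haveI hP1 : (P.map (Ideal.Quotient.mk (Ideal.span {t}))).IsMaximal :=
    (Ideal.map_eq_top_or_isMaximal_of_surjective _ Ideal.Quotient.mk_surjective hPm).resolve_left fun h => by
      have := congrArg (Ideal.comap (Ideal.Quotient.mk (Ideal.span {t}))) h
      rw [Ideal.comap_map_of_surjective' _ Ideal.Quotient.mk_surjective, Ideal.mk_ker, sup_eq_left.2 hle,
        Ideal.comap_top] at this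
      exact hPm.ne_top this
  obtain ⟨el⟩ := H05EGA4.exists_localization_quotient_equiv (Ideal.span {t}) P hle
  have hmem : algebraMap _ (Localization.AtPrime P) t ∈ IsLocalRing.maximalIdeal (Localization.AtPrime P) :=
    (IsLocalization.AtPrime.to_map_mem_maximal_iff _ P _ inferInstance).2 hP
  have hreg : algebraMap _ (Localization.AtPrime P) t ∈ nonZeroDivisors (Localization.AtPrime P) :=
    IsLocalization.map_nonZeroDivisors_le P.primeCompl _ ⟨_, ht, rfl⟩
  have hdim := ringKrullDim_quotient_span_singleton_succ_eq_ringKrullDim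
    (fun u v h => (mul_cancel_left_mem_nonZeroDivisors hreg).1 h) hmem
  rw [← hdim]
  let Q := (P.map (Ideal.Quotient.mk (Ideal.span {t}))).map e.toRingHom
  haveI hQ : Q.IsMaximal := Ideal.map_isMaximal_of_equiv e
  have h1 : ringKrullDim (Localization.AtPrime (P.map (Ideal.Quotient.mk (Ideal.span {t})))) = 1 := by
    rw [IsLocalization.AtPrime.ringKrullDim_eq_height (P.map (Ideal.Quotient.mk (Ideal.span {t}))),
      ← e.height_map]
    show ((Q.height : ℕ∞) : WithBot ℕ∞) = 1
    haveI := hQ.isPrime
    rw [IsPrincipalIdealRing.height_eq_one_of_isMaximal Q (Polynomial.not_isField k)]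
    rfl
  rw [← ringKrullDim_eq_of_ringEquiv el] at h1
  rw [show (Ideal.map (algebraMap _ (Localization.AtPrime P)) (Ideal.span {t})) =
    Ideal.span {algebraMap _ (Localization.AtPrime P) t} by rw [Ideal.map_span, Set.image_singleton]] at h1
  rw [h1]; rfl

section Chart

open H26Blow

variable {A : Type u} [CommRing A] (I : Ideal A) (a b : I)

/-- A closed point of a chart on the exceptional divisor has a two-dimensional local ring. -/
theorem ringKrullDim_chart [IsNoetherianRing A] [I.IsMaximal] (hI : I = Ideal.span {(a : A), (b : A)})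
    (hab : RegPair (a : A) b) (P : Ideal (Alg I a)) [P.IsMaximal]
    (hP : algebraMap A (Alg I a) (a : A) ∈ P) : ringKrullDim (Localization.AtPrime P) = 2 := by
  letI : Field (A ⧸ I) := Ideal.Quotient.field I
  haveI := isNoetherianRing_alg I a b hI
  obtain ⟨e⟩ := exists_quot_equiv I a b hI hab
  exact ringKrullDim_of_quot_polynomial _ (algebraMap_mem_nonZeroDivisors I a) e P hP

end Chart

open H26Blow

variable {X X' : Scheme.{u}} {b : X' ⟶ X}

/-- The fibre of the blow-up over the point: regular points, colength one less, finitely many bad ones. -/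
theorem exists_step [IsLocallyNoetherian X] {y : X} (hy : IsClosed ({y} : Set X))
    (hreg : IsRegularLocalRing (X.presheaf.stalk y)) (hdim : ringKrullDim (X.presheaf.stalk y) = 2)
    (hb : BlowUp.IsBlowUp b (Scheme.IdealSheafData.vanishingIdeal ⟨{y}, hy⟩))
    (K : X.IdealSheafData) (n : ℕ) (hK : ColBound _ (IntMult.stalkIdeal K y) (n + 1)) :
    ∃ S : Set X', S.Finite ∧
      (∀ x ∈ S, b x = y ∧ IsClosed ({x} : Set X') ∧ IsRegularLocalRing (X'.presheaf.stalk x) ∧
        ringKrullDim (X'.presheaf.stalk x) = 2 ∧ ColBound _ (IntMult.stalkIdeal (K.comap b) x) n) ∧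
      ∀ x, b x = y → x ∉ S → IsPrin _ (IntMult.stalkIdeal (K.comap b) x) := by
  obtain ⟨A, e, _, _, m, _, ga, gb, hspan, hpair, hem, -, -, k, _, hk, hrange⟩ :=
    exists_chart_nhd hy hreg hdim hb ⊤ trivial
  let d : Fin 2 → m.asIdeal := ![ga, gb]
  have hdspan : ∀ i, m.asIdeal = Ideal.span {(d i : A), (d (i + 1) : A)} := by
    intro i; fin_cases i
    · exact hspan
    · show m.asIdeal = Ideal.span {(gb : A), (ga : A)}; rw [Set.pair_comm]; exact hspan
  have hdpair : ∀ i, RegPair (d i : A) (d (i + 1)) := by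
    intro i; fin_cases i
    · exact hpair
    · exact regPair_swap hpair
  subst hem
  -- the local ring at the point
  let O := Localization.AtPrime m.asIdeal
  haveI : IsRegularLocalRing O := IsRegularLocalRing.of_ringEquiv (openEquiv e m)
  haveI : IsDomain O := H4Depth.isDomain_of_isRegularLocalRing O
  have hOdim : ringKrullDim O = 2 := (ringKrullDim_eq_of_ringEquiv (openEquiv e m)).symm.trans hdim
  have hfield : ¬ IsField O := fun h => by
    rw [ringKrullDim_eq_zero_of_isField h] at hOdim; exact absurd hOdim (by decide)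
  have hKO : ColBound O (locIdeal (K.comap e) m) (n + 1) := by
    rw [← map_openEquiv]; exact hK.map _
  let c : ∀ i, Spec (CommRingCat.of (Alg m.asIdeal (d i))) ⟶ X' := fun i => j m.asIdeal (d i) ≫ k
  have hc : ∀ i, c i ≫ b = Spec.map (CommRingCat.ofHom (algebraMap A (Alg m.asIdeal (d i)))) ≫ e := fun i => by
    simp only [c, Category.assoc, hk]
    rw [← Category.assoc, j_π]
  have hover : ∀ i (P : PrimeSpectrum (Alg m.asIdeal (d i))),
      b (c i P) = e m ↔ PrimeSpectrum.comap (algebraMap A _) P = m := fun i P => by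
    rw [← Scheme.Hom.comp_apply, hc, Scheme.Hom.comp_apply]
    exact ⟨fun h => e.isOpenEmbedding.injective h, fun h => congrArg e h⟩
  have hfact : ∀ i, ∃ S : Set (PrimeSpectrum (Alg m.asIdeal (d i))), S.Finite ∧ (∀ P ∈ S, P.asIdeal.IsMaximal) ∧
      ∀ P, PrimeSpectrum.comap (algebraMap A _) P = m →
        IsRegularLocalRing (Localization.AtPrime P.asIdeal) ∧
        ColBound _ (locIdeal ((K.comap b).comap (c i)) P) n ∧
        (P ∉ S → IsPrin _ (locIdeal ((K.comap b).comap (c i)) P)) ∧
        (P.asIdeal.IsMaximal → ringKrullDim (Localization.AtPrime P.asIdeal) = 2) := by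
    intro i
    obtain ⟨S, hSfin, hSmax, hS⟩ := exists_finite_colBound (A := A) (C := Alg m.asIdeal (d i)) (O := O) m.asIdeal
      (d i : A) (d (i + 1) : A) (frac m.asIdeal (d i) (d (i + 1))) hfield (hdspan i) (frac_spec _ _ _)
      (algebraMap_mem_nonZeroDivisors _ (d i)) (aeval_frac_surjective _ _ _ (hdspan i))
      (algebraMap_alg_injective _ _ (hdpair i).x_reg) (locIdeal (K.comap e) m) n hKO
    refine ⟨S, hSfin, hSmax, fun P hP => ?_⟩
    have hdP : algebraMap A (Alg m.asIdeal (d i)) (d i : A) ∈ P.asIdeal := by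
      have : (d i : A) ∈ (PrimeSpectrum.comap (algebraMap A (Alg m.asIdeal (d i))) P).asIdeal := by
        rw [hP]; exact (d i).2
      exact this
    have hPreg := isRegularLocalRing_chart m.asIdeal (d i) (d (i + 1)) (hdspan i) (hdpair i) P.asIdeal hdP
    haveI : IsDomain (Localization.AtPrime P.asIdeal) :=
      H4Depth.isDomain_of_isRegularLocalRing (Localization.AtPrime P.asIdeal)
    obtain ⟨ψ, hψ, hψK⟩ := exists_locHom (CommRingCat.ofHom (algebraMap A (Alg m.asIdeal (d i)))) P m hP (K.comap e)
    have hKeq : locIdeal ((K.comap b).comap (c i)) P = (locIdeal (K.comap e) m).map ψ := by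
      rw [← hψK, ← Scheme.IdealSheafData.comap_comp, hc, Scheme.IdealSheafData.comap_comp]
    obtain ⟨h1, h2⟩ := hS P (Localization.AtPrime P.asIdeal) ψ (by
      rw [hψ]; exact (IsScalarTower.algebraMap_eq A (Alg m.asIdeal (d i)) (Localization.AtPrime P.asIdeal)).symm)
    refine ⟨hPreg, hKeq ▸ h1, fun hPS => hKeq ▸ h2 hPS, fun hmax => ?_⟩
    haveI := hmax
    exact ringKrullDim_chart m.asIdeal (d i) (d (i + 1)) (hdspan i) (hdpair i) P.asIdeal hdP
  choose S hSfin hSmax hS using hfact
  have hcov : ∀ x, b x = e m → ∃ i P, c i P = x := by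
    intro x hx
    obtain ⟨w, rfl⟩ : x ∈ Set.range k := by rw [hrange]; exact ⟨m, hx.symm⟩
    rcases mem_basicOpen_or m.asIdeal ga gb hspan w with h | h <;> rw [← opensRange_j] at h <;> obtain ⟨P, hP⟩ := h
    · exact ⟨0, P, by simp only [c, Scheme.Hom.comp_apply]; exact congrArg k hP⟩
    · exact ⟨1, P, by simp only [c, Scheme.Hom.comp_apply]; exact congrArg k hP⟩
  have hdimle : ∀ x, b x = e m → ringKrullDim (X'.presheaf.stalk x) ≤ 2 := by
    intro x hx
    obtain ⟨i, P, rfl⟩ := hcov x hx
    rw [ringKrullDim_eq_of_ringEquiv (openEquiv (c i) P)]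
    obtain ⟨M, hM, hle⟩ := Ideal.exists_le_maximal P.asIdeal P.2.ne_top
    have hMm : PrimeSpectrum.comap (algebraMap A (Alg m.asIdeal (d i))) ⟨M, hM.isPrime⟩ = m := by
      refine PrimeSpectrum.ext ((‹m.asIdeal.IsMaximal›.eq_of_le (hM.isPrime.comap _).ne_top ?_).symm)
      exact (congrArg PrimeSpectrum.asIdeal ((hover i P).1 hx)).symm.le.trans (Ideal.comap_mono hle)
    have h2 := (hS i ⟨M, hM.isPrime⟩ hMm).2.2.2 hM
    refine le_trans ?_ h2.le
    haveI := hM.isPrime
    refine (IsLocalization.AtPrime.ringKrullDim_eq_height P.asIdeal _).le.trans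
      (le_trans ?_ (IsLocalization.AtPrime.ringKrullDim_eq_height M (Localization.AtPrime M)).ge)
    exact WithBot.coe_le_coe.2 (Ideal.height_mono hle)
  refine ⟨⋃ i, c i '' (S i ∩ {P | PrimeSpectrum.comap (algebraMap A _) P = m}),
    Set.finite_iUnion fun i => ((hSfin i).inter_of_left _).image _, fun x hx => ?_, fun x hx hxS => ?_⟩
  · obtain ⟨i, P, ⟨hPS, hPm⟩, rfl⟩ := Set.mem_iUnion.1 hx
    obtain ⟨hr, hcol, -, hd2⟩ := hS i P hPm
    have hd2' : ringKrullDim (X'.presheaf.stalk (c i P)) = 2 :=
      (ringKrullDim_eq_of_ringEquiv (openEquiv (c i) P)).trans (hd2 (hSmax i P hPS))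
    refine ⟨(hover i P).2 hPm, ?_, IsRegularLocalRing.of_ringEquiv (openEquiv (c i) P).symm, hd2', ?_⟩
    · rw [← closure_subset_iff_isClosed]
      intro z hz
      have hspz : c i P ⤳ z := specializes_iff_mem_closure.2 hz
      have hbz : b z = e m := by
        have h1 := hspz.map b.continuous
        rw [(hover i P).2 hPm] at h1
        exact h1.mem_closed hy rfl
      by_contra hne
      have h2' : Order.coheight (c i P) = 2 := by
        rw [ringKrullDim_stalk_eq_coheight] at hd2'
        exact WithBot.coe_inj.1 hd2'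
      have hlt : Order.coheight (c i P) < Order.coheight z := by
        refine Order.coheight_strictAnti (lt_of_le_not_ge (Scheme.le_iff_specializes.2 hspz) fun h => hne ?_) ?_
        · exact (hspz.antisymm (Scheme.le_iff_specializes.1 h)).eq.symm
        · rw [h2']; exact ENat.coe_lt_top 2
      have h1 := hdimle z hbz
      rw [ringKrullDim_stalk_eq_coheight] at h1
      have h1' : Order.coheight z ≤ 2 := WithBot.coe_le_coe.1 h1
      rw [h2'] at hlt
      exact absurd h1' (not_le.2 hlt)
    · rw [← colBound_map_iff (openEquiv (c i) P), map_openEquiv]; exact hcol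
  · obtain ⟨i, P, rfl⟩ := hcov x hx
    exact isPrin_symm (c i) _ P ((hS i P ((hover i P).1 hx)).2.2.1 fun h =>
      hxS (Set.mem_iUnion.2 ⟨i, P, ⟨h, (hover i P).1 hx⟩, rfl⟩))

end Groth.Agent.H28Contr
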