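import Groth.Agent.H28Contr.PointStep
import Groth.Agent.H28Contr.ExcGlobal

/-!
# Principalisation of an ideal on a surface by blowing up closed points
-/

set_option autoImplicit false
set_option linter.style.haveILetI false
set_option backward.isDefEq.respectTransparency.types false

universe u

open CategoryTheory Limits AlgebraicGeometry TopologicalSpace

namespace Groth.Agent.H28Contr

/-- The points where the ideal is allowed to fail to be invertible. -/
structure BadSet (Z : Scheme.{u}) (K : Z.IdealSheafData) (S : Set Z) (n : ℕ) : Prop where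
  finite : S.Finite
  pt : ∀ x ∈ S, IsClosed ({x} : Set Z) ∧ IsRegularLocalRing (Z.presheaf.stalk x) ∧
    ringKrullDim (Z.presheaf.stalk x) = 2 ∧ ColBound _ (IntMult.stalkIdeal K x) n
  prin : ∀ x, x ∉ S → IsPrin _ (IntMult.stalkIdeal K x)

/-- The claim for ideals of colength at most `n`. -/
def Solvable (n : ℕ) : Prop :=
  ∀ (Z X : Scheme.{u}) [IsNoetherian Z] (r : Z ⟶ X), Models.IsContractionSeq r →
    ∀ (K : Z.IdealSheafData) (S : Set Z), BadSet Z K S n →
      ∃ (X' : Scheme.{u}) (g : X' ⟶ Z), Models.IsContractionSeq (g ≫ r) ∧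
        (∀ V : Z.Opens, Disjoint (V : Set Z) S → IsIso (g ∣_ V)) ∧ BlowUp.IsEffCartierIdeal (K.comap g)

theorem isEffCartier_of_isPrin {Z : Scheme.{u}} [IsLocallyNoetherian Z] (K : Z.IdealSheafData)
    (h : ∀ x, IsPrin _ (IntMult.stalkIdeal K x)) : BlowUp.IsEffCartierIdeal K :=
  H29Blow.isEffCartierIdeal_of_stalk K fun x V hx => by
    obtain ⟨c, hc, hcK⟩ := h x
    exact ⟨c, hc, (H29Ref.stalkIdeal_eq K x V hx).symm.trans hcK⟩

theorem solvable_zero : Solvable.{u} 0 := fun Z X _ r hr K S hS =>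
  ⟨Z, 𝟙 Z, by rwa [Category.id_comp], fun V _ => inferInstance, by
    rw [Scheme.IdealSheafData.comap_id]
    refine isEffCartier_of_isPrin K fun x => ?_
    by_cases hx : x ∈ S
    · exact (hS.pt x hx).2.2.2.isPrin
    · exact hS.prin x hx⟩

theorem isNoetherian_blowUp {Z Z₁ : Scheme.{u}} [IsNoetherian Z] {b : Z₁ ⟶ Z} [IsProper b] : IsNoetherian Z₁ := by
  haveI := LocallyOfFiniteType.isLocallyNoetherian b
  haveI : CompactSpace Z₁ := QuasiCompact.compactSpace_of_compactSpace b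
  exact ⟨⟩

/-- One blow-up: the new bad set. -/
theorem exists_blowUp_step {Z : Scheme.{u}} [IsNoetherian Z] (K : Z.IdealSheafData) (n : ℕ) (S : Set Z)
    (hS : BadSet Z K S (n + 1)) {y : Z} (hyS : y ∈ S) :
    ∃ (Z₁ : Scheme.{u}) (b : Z₁ ⟶ Z) (E : Scheme.{u}) (ι : E ⟶ Z₁), IsClosedImmersion ι ∧ Models.IsExcCurve ι ∧
      Models.IsContractionOf ι b ∧ (∀ V : Z.Opens, y ∉ V → IsIso (b ∣_ V)) ∧
      ∃ S₁ : Set Z₁, BadSet Z₁ (K.comap b) S₁ (n + 1) ∧ S₁ ⊆ b ⁻¹' S ∧
        ∀ x ∈ S₁, ¬ ColBound _ (IntMult.stalkIdeal (K.comap b) x) n →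
          b x ≠ y ∧ ¬ ColBound _ (IntMult.stalkIdeal K (b x)) n ∧ ∀ x' ∈ S₁, b x' = b x → x' = x := by
  obtain ⟨hy, hreg, hdim, hcol⟩ := hS.pt y hyS
  set J := Scheme.IdealSheafData.vanishingIdeal (⟨{y}, hy⟩ : TopologicalSpace.Closeds Z) with hJ
  obtain ⟨Z₁, b, hb⟩ := H26Blow.exists_isBlowUp J
  obtain ⟨hexc, hcontr⟩ := isExcCurve_and_isContractionOf hy hreg hdim hb
  haveI : IsProper b := hcontr.2.1
  haveI : IsNoetherian Z₁ := isNoetherian_blowUp (b := b)
  have hiso : ∀ V : Z.Opens, y ∉ V → IsIso (b ∣_ V) := fun V hV => H29Blow.isIso_morphismRestrict hb V fun x hx hsupp => by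
    rw [hJ, ← SetLike.mem_coe, Scheme.IdealSheafData.coe_support_vanishingIdeal] at hsupp
    exact hV ((show x = y from hsupp) ▸ hx)
  let U : Z.Opens := ⟨{y}ᶜ, hy.isOpen_compl⟩
  haveI := hiso U (fun h => h rfl)
  obtain ⟨Sy, hSyfin, hSy, hSyprin⟩ := exists_step hy hreg hdim hb K n hcol
  have huniq : ∀ x x' : Z₁, b x ≠ y → b x' = b x → x' = x := fun x x' hx hxx' => by
    have hinj : Function.Injective (b ∣_ U) := (b ∣_ U).homeomorph.injective
    have := @hinj ⟨x', show b x' ∈ U by rw [hxx']; exact hx⟩ ⟨x, hx⟩ (Subtype.ext (by simpa using hxx'))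
    exact congrArg Subtype.val this
  have hstalk : ∀ x : Z₁, b x ≠ y → ∃ e : Z.presheaf.stalk (b x) ≃+* Z₁.presheaf.stalk x,
      IntMult.stalkIdeal (K.comap b) x = (IntMult.stalkIdeal K (b x)).map e.toRingHom := fun x hx => by
    haveI := isIso_stalkMap_of_restrict b U x hx
    exact ⟨(asIso (b.stalkMap x)).commRingCatIsoToRingEquiv, H3CAlg.DiagStalk.stalkIdeal_comap b K x⟩
  have hclosed : ∀ x : Z₁, b x ≠ y → IsClosed ({b x} : Set Z) → IsClosed ({x} : Set Z₁) := fun x hx h => by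
    have : b ⁻¹' {b x} = {x} := Set.eq_singleton_iff_unique_mem.2 ⟨rfl, fun x' hx' => huniq x x' hx hx'⟩
    rw [← this]
    exact h.preimage b.continuous
  refine ⟨Z₁, b, _, (J.comap b).subschemeι, inferInstance, hexc, hcontr, hiso,
    (b ⁻¹' (S \ {y})) ∪ Sy, ⟨?_, ?_, ?_⟩, ?_, ?_⟩
  · refine Set.Finite.union ?_ hSyfin
    refine Set.Finite.of_finite_image ((hS.finite.diff).subset (Set.image_preimage_subset _ _)) ?_
    intro x hx x' hx' e
    exact (huniq x x' hx.2 e.symm).symm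
  · rintro x (hx | hx)
    · obtain ⟨hc, hr, hd, hcol'⟩ := hS.pt _ hx.1
      obtain ⟨e, he⟩ := hstalk x hx.2
      exact ⟨hclosed x hx.2 hc, IsRegularLocalRing.of_ringEquiv e, (ringKrullDim_eq_of_ringEquiv e).symm.trans hd,
        he ▸ hcol'.map e⟩
    · obtain ⟨-, hc, hr, hd, hcol'⟩ := hSy x hx
      exact ⟨hc, hr, hd, hcol'.mono n.le_succ⟩
  · intro x hx
    rw [Set.mem_union, not_or] at hx
    by_cases hxy : b x = y
    · exact hSyprin x hxy hx.2
    · obtain ⟨e, he⟩ := hstalk x hxy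
      exact he ▸ isPrin_map e (hS.prin _ fun h => hx.1 ⟨h, hxy⟩)
  · rintro x (hx | hx)
    · exact hx.1
    · rw [Set.mem_preimage, (hSy x hx).1]; exact hyS
  · rintro x hx hbad
    rcases hx with hx | hx
    · obtain ⟨e, he⟩ := hstalk x hx.2
      exact ⟨hx.2, fun h => hbad (he ▸ h.map e), fun x' _ h => huniq x x' hx.2 h⟩
    · exact absurd (hSy x hx).2.2.2.2 hbad

theorem solvable_succ {n : ℕ} (ih : Solvable.{u} n) : Solvable.{u} (n + 1) := by
  intro Z X _ r hr K S hS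
  obtain ⟨N, hN⟩ : ∃ N, {x ∈ S | ¬ ColBound _ (IntMult.stalkIdeal K x) n}.ncard ≤ N := ⟨_, le_rfl⟩
  induction N generalizing Z r K S with
  | zero =>
    have he : {x ∈ S | ¬ ColBound _ (IntMult.stalkIdeal K x) n} = ∅ :=
      (Set.ncard_eq_zero (hS.finite.subset (Set.sep_subset _ _))).1 (Nat.le_zero.1 hN)
    refine ih Z X r hr K S ⟨hS.finite, fun x hx => ?_, hS.prin⟩
    obtain ⟨h1, h2, h3, -⟩ := hS.pt x hx
    refine ⟨h1, h2, h3, ?_⟩
    by_contra h
    exact (Set.eq_empty_iff_forall_notMem.1 he x) ⟨hx, h⟩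
  | succ N ihN =>
    by_cases hle : {x ∈ S | ¬ ColBound _ (IntMult.stalkIdeal K x) n}.ncard ≤ N
    · exact ihN Z r hr K S hS hle
    obtain ⟨y, hyS, hy⟩ : {x ∈ S | ¬ ColBound _ (IntMult.stalkIdeal K x) n}.Nonempty :=
      Set.nonempty_of_ncard_ne_zero (by omega)
    obtain ⟨Z₁, b, E, ι, hι, hE, hb, hiso, S₁, hS₁, hsub, hbad⟩ := exists_blowUp_step K n S hS hyS
    haveI : IsProper b := hb.2.1
    haveI : IsNoetherian Z₁ := isNoetherian_blowUp (b := b)
    have hlt : {x ∈ S₁ | ¬ ColBound _ (IntMult.stalkIdeal (K.comap b) x) n}.ncard ≤ N := by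
      have h1 : {x ∈ S₁ | ¬ ColBound _ (IntMult.stalkIdeal (K.comap b) x) n}.ncard ≤
          ({x ∈ S | ¬ ColBound _ (IntMult.stalkIdeal K x) n} \ {y}).ncard := by
        refine Set.ncard_le_ncard_of_injOn (fun x => b x) (fun x hx => ?_) (fun x hx x' hx' e => ?_)
          ((hS.finite.subset (Set.sep_subset _ _)).diff)
        · obtain ⟨h1, h2, -⟩ := hbad x hx.1 hx.2
          exact ⟨⟨hsub hx.1, h2⟩, h1⟩
        · exact ((hbad x hx.1 hx.2).2.2 x' hx'.1 e.symm).symm
      rw [Set.ncard_diff_singleton_of_mem (show y ∈ {x ∈ S | ¬ ColBound _ (IntMult.stalkIdeal K x) n} from ⟨hyS, hy⟩)] at h1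
      omega
    obtain ⟨X', g, hg, hgiso, hgK⟩ := ihN Z₁ (b ≫ r)
      (Models.IsContractionSeq.step ι b r hι hE hb hr) (K.comap b) S₁ hS₁ hlt
    refine ⟨X', g ≫ b, by rwa [Category.assoc], fun V hV => ?_, by rwa [Scheme.IdealSheafData.comap_comp]⟩
    haveI := hiso V (fun h => Set.disjoint_left.1 hV h hyS)
    haveI := hgiso (b ⁻¹ᵁ V) (Set.disjoint_left.2 fun x hx hx' => Set.disjoint_left.1 hV hx (hsub hx'))
    rw [morphismRestrict_comp]
    exact IsIso.comp_isIso' (hgiso _ (Set.disjoint_left.2 fun x hx hx' => Set.disjoint_left.1 hV hx (hsub hx')))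
      (hiso V fun h => Set.disjoint_left.1 hV h hyS)

theorem solvable : ∀ n, Solvable.{u} n
  | 0 => solvable_zero
  | n + 1 => solvable_succ (solvable n)

/-- Principalisation: an ideal that is invertible outside finitely many closed points with regular
two-dimensional local rings, and an invertible one times one of finite colength there, becomes invertible after
blowing up closed points. -/
theorem exists_principalisation {Z X : Scheme.{u}} [IsNoetherian Z] (r : Z ⟶ X) (hr : Models.IsContractionSeq r)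
    (K : Z.IdealSheafData) (S : Set Z) (hfin : S.Finite)
    (hpt : ∀ x ∈ S, IsClosed ({x} : Set Z) ∧ IsRegularLocalRing (Z.presheaf.stalk x) ∧
      ringKrullDim (Z.presheaf.stalk x) = 2 ∧ ∃ n, ColBound _ (IntMult.stalkIdeal K x) n)
    (hprin : ∀ x, x ∉ S → IsPrin _ (IntMult.stalkIdeal K x)) :
    ∃ (X' : Scheme.{u}) (g : X' ⟶ Z), Models.IsContractionSeq (g ≫ r) ∧
      (∀ V : Z.Opens, Disjoint (V : Set Z) S → IsIso (g ∣_ V)) ∧ BlowUp.IsEffCartierIdeal (K.comap g) := by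
  choose! n hn using fun x (hx : x ∈ S) => (hpt x hx).2.2.2
  exact solvable (hfin.toFinset.sup n) Z X r hr K S ⟨hfin, fun x hx => ⟨(hpt x hx).1, (hpt x hx).2.1,
    (hpt x hx).2.2.1, (hn x hx).mono (Finset.le_sup (hfin.mem_toFinset.2 hx))⟩, hprin⟩

end Groth.Agent.H28Contr
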