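import Groth.Agent.H28Contr.PointStep
import Groth.Agent.H28Contr.FiniteColength

/-!
# The map of local rings in one blow-up of a point
-/

set_option autoImplicit false
set_option linter.style.haveILetI false
set_option backward.isDefEq.respectTransparency.types false

universe u

open CategoryTheory Limits AlgebraicGeometry TopologicalSpace Polynomial

namespace Groth.Agent.H28Contr

/-- A birational local homomorphism of local domains lowering colengths. -/
structure StepHom {R S : Type u} [CommRing R] [CommRing S] (φ : R →+* S) : Prop where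
  isLocalHom : IsLocalHom φ
  inj : Function.Injective φ
  birat : ∀ z : S, ∃ a s : R, s ≠ 0 ∧ φ s * z = φ a
  colBound : ∀ (K : Ideal R) (n : ℕ), ColBound R K (n + 1) → ColBound S (K.map φ) n

theorem StepHom.comp_equiv {R S S' : Type u} [CommRing R] [CommRing S] [CommRing S'] {φ : R →+* S}
    (h : StepHom φ) (e : S ≃+* S') : StepHom (e.toRingHom.comp φ) where
  isLocalHom := ⟨fun a ha => h.isLocalHom.map_nonunit a (by
    have := ha.map e.symm
    simpa using this)⟩
  inj := e.injective.comp h.inj
  birat z := by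
    obtain ⟨a, s, hs, he⟩ := h.birat (e.symm z)
    exact ⟨a, s, hs, by simpa using congrArg e he⟩
  colBound K n hK := by rw [← Ideal.map_map]; exact (h.colBound K n hK).map e

theorem StepHom.equiv_comp {R R' S : Type u} [CommRing R] [CommRing R'] [CommRing S] {φ : R →+* S}
    (h : StepHom φ) (e : R' ≃+* R) : StepHom (φ.comp e.toRingHom) where
  isLocalHom := ⟨fun a ha => by
    have := (h.isLocalHom.map_nonunit (e a) ha).map e.symm
    simpa using this⟩
  inj := h.inj.comp e.injective
  birat z := by
    obtain ⟨a, s, hs, he⟩ := h.birat z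
    refine ⟨e.symm a, e.symm s, by simpa using hs, ?_⟩
    simpa using he
  colBound K n hK := by rw [← Ideal.map_map]; exact h.colBound _ n (hK.map e)

section Algebra

variable {A C O O' : Type u} [CommRing A] [CommRing C] [Algebra A C] [CommRing O] [Algebra A O]
  [IsDomain O] [CommRing O'] [IsDomain O'] [Algebra C O'] [Algebra A O'] [IsScalarTower A C O']
  (g h : A) (t : C)

/-- The map of local rings of a chart is injective and birational. -/
theorem inj_and_birat (m : Ideal A) [m.IsPrime] [IsLocalization.AtPrime O m] (ht : t * algebraMap A C g = algebraMap A C h)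
    (hg : algebraMap A C g ∈ nonZeroDivisors C) (hsur : Function.Surjective (aeval (R := A) t))
    (hAC : Function.Injective (algebraMap A C)) (P : PrimeSpectrum C) [IsLocalization.AtPrime O' P.asIdeal]
    (φ : O →+* O') (hφ : φ.comp (algebraMap A O) = algebraMap A O') :
    Function.Injective φ ∧ ∀ z : O', ∃ a s : O, s ≠ 0 ∧ φ s * z = φ a := by
  have hgk : ∀ k, algebraMap C O' (algebraMap A C g ^ k) ≠ 0 := fun k =>
    nonZeroDivisors.ne_zero (IsLocalization.map_nonZeroDivisors_le P.asIdeal.primeCompl O'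
      (Submonoid.mem_map_of_mem _ (pow_mem hg k)))
  have hk : ∀ v : C, ∃ (k : ℕ) (w : A), algebraMap A C g ^ k * v = algebraMap A C w := by
    intro v
    obtain ⟨p, rfl⟩ := hsur v
    induction p using Polynomial.induction_on' with
    | monomial i r =>
      refine ⟨i, r * h ^ i, ?_⟩
      rw [Polynomial.aeval_monomial, map_mul, map_pow, ← ht, mul_pow]
      ring
    | add p q hp hq =>
      obtain ⟨k, w, hkw⟩ := hp
      obtain ⟨l, v, hlv⟩ := hq
      refine ⟨k + l, w * g ^ l + v * g ^ k, ?_⟩
      rw [map_add, map_add, map_mul, map_mul, map_pow, map_pow, ← hkw, ← hlv]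
      ring
  have hA : ∀ w, φ (algebraMap A O w) = algebraMap C O' (algebraMap A C w) := fun w => by
    rw [← RingHom.comp_apply, hφ, IsScalarTower.algebraMap_apply A C O']
  have hinj : Function.Injective φ := by
    refine (injective_iff_map_eq_zero φ).2 fun c hc => ?_
    obtain ⟨⟨a, s⟩, has⟩ := IsLocalization.surj m.primeCompl c
    have ha : algebraMap C O' (algebraMap A C a) = 0 := by rw [← hA, ← has, map_mul, hc, zero_mul]
    obtain ⟨⟨v, hv⟩, hva⟩ := (IsLocalization.map_eq_zero_iff P.asIdeal.primeCompl O' _).1 ha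
    obtain ⟨k, w, hw⟩ := hk v
    have hwa : w * a = 0 := hAC (by rw [map_mul, ← hw, mul_assoc, hva, mul_zero, map_zero])
    have hwa' := congrArg (algebraMap A O) hwa
    rw [map_mul, map_zero] at hwa'
    rcases mul_eq_zero.1 hwa' with h0 | h0
    · have h2 : algebraMap C O' (algebraMap A C g ^ k * v) = 0 := by rw [hw, ← hA, h0, map_zero]
      rw [map_mul] at h2
      exact absurd h2 (mul_ne_zero (hgk k) (IsLocalization.map_units O' (⟨_, hv⟩ : P.asIdeal.primeCompl)).ne_zero)
    · exact (IsLocalization.map_units O s).mul_left_eq_zero.1 (has.trans h0)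
  refine ⟨hinj, fun z => ?_⟩
  obtain ⟨v, s, rfl⟩ := IsLocalization.exists_mk'_eq P.asIdeal.primeCompl z
  obtain ⟨k, w, hw⟩ := hk v
  obtain ⟨l, w', hw'⟩ := hk (s : C)
  have e1 : φ (algebraMap A O (w' * g ^ k)) * IsLocalization.mk' O' v s = φ (algebraMap A O (w * g ^ l)) := by
    rw [hA, hA, map_mul (algebraMap A C), map_mul (algebraMap A C), map_pow, map_pow, ← hw, ← hw',
      map_mul, map_mul, map_mul, map_mul]
    have := IsLocalization.mk'_spec O' v s
    linear_combination (algebraMap C O' (algebraMap A C g ^ l) * algebraMap C O' (algebraMap A C g ^ k)) * this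
  refine ⟨algebraMap A O (w * g ^ l), algebraMap A O (w' * g ^ k), fun h0 => ?_, e1⟩
  have h1 := hA (w' * g ^ k)
  rw [h0, map_zero, map_mul (algebraMap A C), map_pow, ← hw', map_mul, map_mul] at h1
  exact mul_ne_zero (mul_ne_zero (hgk l) (IsLocalization.map_units O' s).ne_zero) (hgk k) h1.symm

end Algebra

open H26Blow

theorem specMap_openEquiv {C : CommRingCat.{u}} {X : Scheme.{u}} (c : Spec C ⟶ X) [IsOpenImmersion c]
    (P : PrimeSpectrum C) :
    Spec.map (CommRingCat.ofHom (openEquiv c P).toRingHom) ≫ X.fromSpecStalk (c P) =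
      Spec.map (CommRingCat.ofHom (algebraMap C (Localization.AtPrime P.asIdeal))) ≫ c := by
  have h1 : CommRingCat.ofHom (openEquiv c P).toRingHom = c.stalkMap P ≫ (Spec.stalkIso C P).hom := rfl
  have h2 : Spec.map (Spec.stalkIso C P).hom ≫ (Spec C).fromSpecStalk P =
      Spec.map (CommRingCat.ofHom (algebraMap C (Localization.AtPrime P.asIdeal))) := by
    rw [Spec.fromSpecStalk_eq, ← Spec.map_comp]
    congr 1
    rw [Category.assoc, Spec.germ_stalkMapIso_hom, Iso.inv_hom_id_assoc]
  rw [h1, Spec.map_comp, Category.assoc, Scheme.SpecMap_stalkMap_fromSpecStalk, ← Category.assoc, h2]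

variable {X X' : Scheme.{u}} {b : X' ⟶ X}

set_option maxHeartbeats 1600000 in
/-- Every point over the centre: regular, dimension at most two, and a step of local rings. -/
theorem exists_stepHom [IsLocallyNoetherian X] {y : X} (hy : IsClosed ({y} : Set X))
    (hreg : IsRegularLocalRing (X.presheaf.stalk y)) (hdim : ringKrullDim (X.presheaf.stalk y) = 2)
    (hb : BlowUp.IsBlowUp b (Scheme.IdealSheafData.vanishingIdeal ⟨{y}, hy⟩)) (x : X') (hx : b x = y) :
    IsRegularLocalRing (X'.presheaf.stalk x) ∧ ringKrullDim (X'.presheaf.stalk x) ≤ 2 ∧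
      ∃ φ : X.presheaf.stalk y ⟶ X'.presheaf.stalk x,
        Spec.map φ ≫ X.fromSpecStalk y = X'.fromSpecStalk x ≫ b ∧ StepHom φ.hom := by
  obtain ⟨A, e, _, _, m, _, ga, gb, hspan, hpair, hem, -, -, k, _, hk, hrange⟩ :=
    exists_chart_nhd hy hreg hdim hb ⊤ trivial
  subst hem
  let d : Fin 2 → m.asIdeal := ![ga, gb]
  have hdspan : ∀ i, m.asIdeal = Ideal.span {(d i : A), (d (i + 1) : A)} := by
    intro i; fin_cases i
    · exact hspan
    · show m.asIdeal = Ideal.span {(gb : A), (ga : A)}; rw [Set.pair_comm]; exact hspan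
  have hdpair : ∀ i, RegPair (d i : A) (d (i + 1)) := by
    intro i; fin_cases i
    · exact hpair
    · exact regPair_swap hpair
  let c : ∀ i, Spec (CommRingCat.of (Alg m.asIdeal (d i))) ⟶ X' := fun i => j m.asIdeal (d i) ≫ k
  have hc : ∀ i, c i ≫ b = Spec.map (CommRingCat.ofHom (algebraMap A (Alg m.asIdeal (d i)))) ≫ e := fun i => by
    simp only [c, Category.assoc, hk]
    rw [← Category.assoc, j_π]
  obtain ⟨i, P, hP⟩ : ∃ i P, c i P = x := by
    obtain ⟨w, rfl⟩ : x ∈ Set.range k := by rw [hrange]; exact ⟨m, hx.symm⟩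
    rcases mem_basicOpen_or m.asIdeal ga gb hspan w with h | h <;> rw [← opensRange_j] at h <;> obtain ⟨P, hP⟩ := h
    · exact ⟨0, P, by simp only [c, Scheme.Hom.comp_apply]; exact congrArg k hP⟩
    · exact ⟨1, P, by simp only [c, Scheme.Hom.comp_apply]; exact congrArg k hP⟩
  subst hP
  have hPm : PrimeSpectrum.comap (algebraMap A (Alg m.asIdeal (d i))) P = m := by
    have h1 : (c i ≫ b) P = e m := hx
    rw [hc, Scheme.Hom.comp_apply] at h1
    exact e.isOpenEmbedding.injective h1
  let O := Localization.AtPrime m.asIdeal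
  haveI : IsRegularLocalRing O := IsRegularLocalRing.of_ringEquiv (openEquiv e m)
  haveI : IsDomain O := H4Depth.isDomain_of_isRegularLocalRing O
  have hOdim : ringKrullDim O = 2 := (ringKrullDim_eq_of_ringEquiv (openEquiv e m)).symm.trans hdim
  have hfield : ¬ IsField O := fun h => by
    rw [ringKrullDim_eq_zero_of_isField h] at hOdim; exact absurd hOdim (by decide)
  let f : A ⟶ CommRingCat.of (Alg m.asIdeal (d i)) := CommRingCat.ofHom (algebraMap A (Alg m.asIdeal (d i)))
  have hdP : algebraMap A (Alg m.asIdeal (d i)) (d i : A) ∈ P.asIdeal := by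
    have : (d i : A) ∈ (PrimeSpectrum.comap (algebraMap A (Alg m.asIdeal (d i))) P).asIdeal := by
      rw [hPm]; exact (d i).2
    exact this
  have hPreg := isRegularLocalRing_chart m.asIdeal (d i) (d (i + 1)) (hdspan i) (hdpair i) P.asIdeal hdP
  haveI : IsDomain (Localization.AtPrime P.asIdeal) :=
    H4Depth.isDomain_of_isRegularLocalRing (Localization.AtPrime P.asIdeal)
  obtain ⟨ψ, hψ, -⟩ := exists_locHom f P m hPm (Scheme.IdealSheafData.vanishingIdeal ⊥)
  have hψA : ψ.comp (algebraMap A O) = algebraMap A (Localization.AtPrime P.asIdeal) := by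
    rw [hψ]; exact (IsScalarTower.algebraMap_eq A (Alg m.asIdeal (d i)) (Localization.AtPrime P.asIdeal)).symm
  have hAC := algebraMap_alg_injective m.asIdeal (d i) (hdpair i).x_reg
  obtain ⟨hinj, hbir⟩ := inj_and_birat (A := A) (C := Alg m.asIdeal (d i)) (O := O)
    (O' := Localization.AtPrime P.asIdeal) (d i : A) (d (i + 1) : A)
    (frac m.asIdeal (d i) (d (i + 1))) m.asIdeal (frac_spec _ _ _) (algebraMap_mem_nonZeroDivisors _ (d i))
    (aeval_frac_surjective _ _ _ (hdspan i)) hAC P ψ hψA
  have hstep : StepHom ψ := by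
    refine ⟨⟨fun a ha => ?_⟩, hinj, hbir, fun K n hK => ?_⟩
    · obtain ⟨a, s, rfl⟩ := IsLocalization.exists_mk'_eq m.asIdeal.primeCompl a
      refine (IsLocalization.AtPrime.isUnit_mk'_iff O m.asIdeal a s).2 fun ham => ?_
      have h1 : IsUnit (ψ (algebraMap A O a)) := by
        rw [← IsLocalization.mk'_spec O a s, map_mul]
        exact ha.mul ((IsLocalization.map_units O s).map ψ)
      rw [← RingHom.comp_apply, hψ] at h1
      have h2 := (IsLocalization.AtPrime.isUnit_to_map_iff (Localization.AtPrime P.asIdeal) P.asIdeal _).1 h1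
      exact h2 (show a ∈ (PrimeSpectrum.comap (algebraMap A (Alg m.asIdeal (d i))) P).asIdeal by rw [hPm]; exact ham)
    · obtain ⟨S, -, -, hS⟩ := exists_finite_colBound (A := A) (C := Alg m.asIdeal (d i)) (O := O) m.asIdeal
        (d i : A) (d (i + 1) : A) (frac m.asIdeal (d i) (d (i + 1))) hfield (hdspan i) (frac_spec _ _ _)
        (algebraMap_mem_nonZeroDivisors _ (d i)) (aeval_frac_surjective _ _ _ (hdspan i)) hAC K n hK
      exact (hS P (Localization.AtPrime P.asIdeal) ψ hψA).1
  refine ⟨IsRegularLocalRing.of_ringEquiv (openEquiv (c i) P).symm, ?_,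
    CommRingCat.ofHom ((openEquiv (c i) P).symm.toRingHom.comp (ψ.comp (openEquiv e m).toRingHom)), ?_,
    (hstep.equiv_comp (openEquiv e m)).comp_equiv (openEquiv (c i) P).symm⟩
  · rw [ringKrullDim_eq_of_ringEquiv (openEquiv (c i) P)]
    obtain ⟨M, hM, hle⟩ := Ideal.exists_le_maximal P.asIdeal P.2.ne_top
    haveI := hM.isPrime
    have h2 := ringKrullDim_chart m.asIdeal (d i) (d (i + 1)) (hdspan i) (hdpair i) M (hle hdP)
    refine le_trans ?_ h2.le
    refine (IsLocalization.AtPrime.ringKrullDim_eq_height P.asIdeal _).le.trans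
      (le_trans ?_ (IsLocalization.AtPrime.ringKrullDim_eq_height M (Localization.AtPrime M)).ge)
    exact WithBot.coe_le_coe.2 (Ideal.height_mono hle)
  · have e1 := specMap_openEquiv e m
    have e2 := specMap_openEquiv (c i) P
    have e3 : (CommRingCat.ofHom (algebraMap A O)) ≫ CommRingCat.ofHom ψ =
        f ≫ CommRingCat.ofHom (algebraMap (Alg m.asIdeal (d i)) (Localization.AtPrime P.asIdeal)) :=
      CommRingCat.hom_ext hψ
    have e4 : Spec.map (CommRingCat.ofHom (openEquiv (c i) P).symm.toRingHom) ≫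
        Spec.map (CommRingCat.ofHom (openEquiv (c i) P).toRingHom) = 𝟙 _ := by
      rw [← Spec.map_comp, ← Spec.map_id]
      congr 1
      exact CommRingCat.hom_ext (RingHom.ext (openEquiv (c i) P).symm_apply_apply)
    have e5 : X'.fromSpecStalk (c i P) = Spec.map (CommRingCat.ofHom (openEquiv (c i) P).symm.toRingHom) ≫
        Spec.map (CommRingCat.ofHom (algebraMap _ (Localization.AtPrime P.asIdeal))) ≫ c i := by
      rw [← e2, ← Category.assoc, e4, Category.id_comp]
    rw [e5]
    show Spec.map (CommRingCat.ofHom (openEquiv e m).toRingHom ≫ CommRingCat.ofHom ψ ≫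
      CommRingCat.ofHom (openEquiv (c i) P).symm.toRingHom) ≫ _ = _
    simp only [Spec.map_comp, Category.assoc]
    erw [e1, hc]
    rw [← Category.assoc (Spec.map (CommRingCat.ofHom ψ)), ← Spec.map_comp, e3, Spec.map_comp, Category.assoc]

end Groth.Agent.H28Contr
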